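import Mathlib
import Cfsg.Prelude
import Cfsg.Agent.Lib.Grp.Basic

/-!
# Best offenders of an abelian normal subgroup and their lattice
-/

set_option autoImplicit false
set_option linter.style.haveILetI false
set_option linter.unusedSectionVars false

namespace Cfsg.Agent.Invol.PushUp

open Subgroup
open scoped commutatorElement

universe u

variable {G : Type u} [Group G] [Finite G]

/-- The measure of a subgroup acting on `V`. -/
noncomputable def meas (V B : Subgroup G) : ℕ := Nat.card B * Nat.card ↥(V ⊓ centralizer (B : Set G))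

/-- The standing hypotheses: `Q ≤ S`, `S/Q` abelian, `Q` centralises the abelian normal subgroup `V`. -/
structure OffCtx (Q S V : Subgroup G) : Prop where
  QS : Q ≤ S
  normalV : V.Normal
  normalQ : Q.Normal
  abS : ∀ a ∈ S, ∀ b ∈ S, ⁅a, b⁆ ∈ Q
  abV : ∀ v ∈ V, ∀ w ∈ V, v * w = w * v
  cent : ∀ x ∈ Q, ∀ v ∈ V, x * v = v * x
  nil : ∀ M : Subgroup G, M ≤ V → M ≤ ⁅S, M⁆ → M = ⊥

namespace OffCtx

variable {Q S V : Subgroup G} (h : OffCtx Q S V)
include h

theorem norm {B : Subgroup G} (hQ : Q ≤ B) (hB : B ≤ S) {a : G} (ha : a ∈ S) : ∀ b ∈ B, a * b * a⁻¹ ∈ B :=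
  fun b hb => by
    have h1 := mul_mem (hQ (h.abS a ha b (hB hb))) hb
    rwa [commutatorElement_def, inv_mul_cancel_right] at h1

theorem centralizes_inf {A : Subgroup G} {a v : G} (hQ : Q ≤ A) (hA : A ≤ S) (ha : a ∈ S)
    (hv : v ∈ V ⊓ centralizer (A : Set G)) : a * v * a⁻¹ ∈ V ⊓ centralizer (A : Set G) := by
  refine ⟨h.normalV.conj_mem v hv.1 a, mem_centralizer_iff.mpr fun b hb => ?_⟩
  have h1 := mem_centralizer_iff.mp hv.2 (a⁻¹ * b * a) (by simpa using h.norm hQ hA (inv_mem ha) b hb)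
  calc b * (a * v * a⁻¹) = a * (a⁻¹ * b * a * v) * a⁻¹ := by group
    _ = a * (v * (a⁻¹ * b * a)) * a⁻¹ := by rw [h1]
    _ = a * v * a⁻¹ * b := by group

theorem card_sup {A B : Subgroup G} (hQA : Q ≤ A) (hA : A ≤ S) (hQB : Q ≤ B) (hB : B ≤ S) :
    Nat.card ↥(A ⊔ B) * Nat.card ↥(A ⊓ B) = Nat.card A * Nat.card B :=
  Grp.card_sup_mul_card_inf fun a ha => mem_normalizer_fintype (h.norm hQB hB (hA ha))

theorem sup_cent_le {A B : Subgroup G} :
    (V ⊓ centralizer (A : Set G)) ⊔ (V ⊓ centralizer (B : Set G)) ≤ V ⊓ centralizer ((A ⊓ B : Subgroup G) : Set G) :=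
  sup_le (inf_le_inf_left V (centralizer_le inf_le_left)) (inf_le_inf_left V (centralizer_le inf_le_right))

theorem inf_cent_le {A B : Subgroup G} :
    (V ⊓ centralizer (A : Set G)) ⊓ (V ⊓ centralizer (B : Set G)) ≤ V ⊓ centralizer ((A ⊔ B : Subgroup G) : Set G) := by
  refine fun v hv => ⟨hv.1.1, mem_centralizer_iff.mpr fun x hx => ?_⟩
  refine (?_ : A ⊔ B ≤ centralizer ({v} : Set G)) hx |> mem_centralizer_singleton_iff.mp
  exact sup_le (fun a ha => mem_centralizer_singleton_iff.mpr (mem_centralizer_iff.mp hv.1.2 a ha))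
    fun b hb => mem_centralizer_singleton_iff.mpr (mem_centralizer_iff.mp hv.2.2 b hb)

theorem card_cent_sup {A B : Subgroup G} :
    Nat.card ↥((V ⊓ centralizer (A : Set G)) ⊔ (V ⊓ centralizer (B : Set G))) *
      Nat.card ↥((V ⊓ centralizer (A : Set G)) ⊓ (V ⊓ centralizer (B : Set G))) =
      Nat.card ↥(V ⊓ centralizer (A : Set G)) * Nat.card ↥(V ⊓ centralizer (B : Set G)) :=
  Grp.card_sup_mul_card_inf fun a ha => mem_normalizer_fintype fun b hb => by
    rw [h.abV a ha.1 b hb.1, mul_inv_cancel_right]; exact hb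

theorem meas_mul_le {A B : Subgroup G} (hQA : Q ≤ A) (hA : A ≤ S) (hQB : Q ≤ B) (hB : B ≤ S) :
    meas V A * meas V B ≤ meas V (A ⊔ B) * meas V (A ⊓ B) := by
  calc meas V A * meas V B = (Nat.card A * Nat.card B) * (Nat.card ↥(V ⊓ centralizer (A : Set G)) *
        Nat.card ↥(V ⊓ centralizer (B : Set G))) := by simp only [meas]; ring
    _ = (Nat.card ↥(A ⊔ B) * Nat.card ↥(A ⊓ B)) * (Nat.card ↥((V ⊓ centralizer (A : Set G)) ⊔ (V ⊓ centralizer (B : Set G))) *
        Nat.card ↥((V ⊓ centralizer (A : Set G)) ⊓ (V ⊓ centralizer (B : Set G)))) := by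
      rw [h.card_sup hQA hA hQB hB, h.card_cent_sup]
    _ ≤ (Nat.card ↥(A ⊔ B) * Nat.card ↥(A ⊓ B)) * (Nat.card ↥(V ⊓ centralizer ((A ⊓ B : Subgroup G) : Set G)) *
        Nat.card ↥(V ⊓ centralizer ((A ⊔ B : Subgroup G) : Set G))) :=
      Nat.mul_le_mul_left _ (Nat.mul_le_mul (card_le_of_le h.sup_cent_le) (card_le_of_le h.inf_cent_le))
    _ = _ := by simp only [meas]; ring

theorem meas_bot : meas V Q = Nat.card Q * Nat.card V := by
  rw [meas, inf_eq_left.mpr fun v hv => mem_centralizer_iff.mpr fun x hx => h.cent x hx v hv]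

variable {m : ℕ} (hmax : ∀ B, Q ≤ B → B ≤ S → meas V B ≤ m)
include hmax

theorem member_lattice {A B : Subgroup G} (hQA : Q ≤ A) (hA : A ≤ S) (hmA : meas V A = m) (hQB : Q ≤ B) (hB : B ≤ S)
    (hmB : meas V B = m) : meas V (A ⊔ B) = m ∧ meas V (A ⊓ B) = m ∧
      (A ⊓ B = Q → (V ⊓ centralizer (A : Set G)) ⊔ (V ⊓ centralizer (B : Set G)) = V) := by
  have h0 : 0 < m := hmA ▸ Nat.mul_pos Nat.card_pos Nat.card_pos
  have h1 := h.meas_mul_le hQA hA hQB hB
  rw [hmA, hmB] at h1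
  have h2 := hmax _ (hQA.trans le_sup_left) (sup_le hA hB)
  have h3 := hmax _ (le_inf hQA hQB) (inf_le_left.trans hA)
  have e1 : meas V (A ⊔ B) = m := by nlinarith
  have e2 : meas V (A ⊓ B) = m := by nlinarith
  refine ⟨e1, e2, fun he => le_antisymm (sup_le inf_le_left inf_le_left) ?_⟩
  refine (eq_of_le_of_card_ge (sup_le inf_le_left inf_le_left) ?_).ge
  refine Nat.le_of_mul_le_mul_left ?_
    (Nat.mul_pos (Nat.mul_pos (Nat.card_pos (α := ↥(A ⊔ B))) (Nat.card_pos (α := ↥(A ⊓ B))))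
      (Nat.card_pos (α := ↥(V ⊓ centralizer ((A ⊔ B : Subgroup G) : Set G)))))
  calc Nat.card ↥(A ⊔ B) * Nat.card ↥(A ⊓ B) * Nat.card ↥(V ⊓ centralizer ((A ⊔ B : Subgroup G) : Set G)) * Nat.card V
      = meas V (A ⊔ B) * (Nat.card ↥(A ⊓ B) * Nat.card V) := by simp only [meas]; ring
    _ = meas V (A ⊔ B) * meas V (A ⊓ B) := by rw [he, h.meas_bot]
    _ = meas V A * meas V B := by rw [e1, e2, hmA, hmB]
    _ = (Nat.card ↥(A ⊔ B) * Nat.card ↥(A ⊓ B)) * (Nat.card ↥((V ⊓ centralizer (A : Set G)) ⊔ (V ⊓ centralizer (B : Set G))) *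
        Nat.card ↥((V ⊓ centralizer (A : Set G)) ⊓ (V ⊓ centralizer (B : Set G)))) := by
      rw [h.card_sup hQA hA hQB hB, h.card_cent_sup]; simp only [meas]; ring
    _ ≤ (Nat.card ↥(A ⊔ B) * Nat.card ↥(A ⊓ B)) * (Nat.card ↥((V ⊓ centralizer (A : Set G)) ⊔ (V ⊓ centralizer (B : Set G))) *
        Nat.card ↥(V ⊓ centralizer ((A ⊔ B : Subgroup G) : Set G))) :=
      Nat.mul_le_mul_left _ (Nat.mul_le_mul_left _ (card_le_of_le h.inf_cent_le))
    _ = _ := by ring

/-- A minimal best offender acts quadratically. -/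
theorem atom_quadratic {A : Subgroup G} (hQA : Q ≤ A) (hA : A ≤ S) (hmA : meas V A = m)
    (hmin : ∀ B, Q ≤ B → B ≤ A → meas V B = m → B = Q ∨ B = A) {v : G} (hv : v ∈ V) {a : G} (ha : a ∈ A) :
    ⁅a, v⁆ ∈ V ⊓ centralizer (A : Set G) := by
  classical
  have hVn := h.normalV
  obtain ⟨mv, hmv⟩ : ∃ mv : G → G, ∀ x, mv x = x * v * x⁻¹ * v⁻¹ := ⟨fun x => _, fun x => rfl⟩
  have hmvV : ∀ x, mv x ∈ V := fun x => by rw [hmv]; exact mul_mem (hVn.conj_mem v hv x) (inv_mem hv)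
  have hmv_mul : ∀ x y, mv (x * y) = x * mv y * x⁻¹ * mv x := fun x y => by simp only [hmv]; group
  obtain ⟨M, hM⟩ : ∃ M, M = closure (mv '' (A : Set G)) := ⟨_, rfl⟩
  have hMV : M ≤ V := hM ▸ (closure_le V).mpr (by rintro _ ⟨x, -, rfl⟩; exact hmvV x)
  obtain ⟨B, hBdef⟩ : ∃ B, B = A ⊓ centralizer (M : Set G) := ⟨_, rfl⟩
  have hQB : Q ≤ B := fun x hx => hBdef ▸
    ⟨hQA hx, mem_centralizer_iff.mpr fun y hy => (h.cent x hx y (hMV hy)).symm⟩
  have hBA : B ≤ A := hBdef ▸ inf_le_left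
  have hmemB : ∀ c ∈ A, (∀ x ∈ A, c * mv x = mv x * c) → c ∈ B := fun c hc hcx => hBdef ▸ ⟨hc, by
    rw [hM, centralizer_closure]
    exact mem_centralizer_iff.mpr (by rintro _ ⟨x, hx, rfl⟩; exact (hcx x hx).symm)⟩
  -- differences of displacements
  have hkey : ∀ x ∈ A, ∀ y ∈ A, (mv x)⁻¹ * mv y ∈ V ⊓ centralizer (A : Set G) → x⁻¹ * y ∈ B := by
    intro x hx y hy hxy
    obtain ⟨c, hc⟩ : ∃ c, c = x⁻¹ * y := ⟨_, rfl⟩
    rw [← hc]
    have hcA : c ∈ A := hc ▸ mul_mem (inv_mem hx) hy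
    rw [show y = x * c by rw [hc]; group, hmv_mul] at hxy
    have h2 : x * mv c * x⁻¹ ∈ V ⊓ centralizer (A : Set G) := by
      rw [h.abV _ (hVn.conj_mem _ (hmvV c) x) _ (hmvV x), inv_mul_cancel_left] at hxy
      exact hxy
    have hcV : mv c ∈ V ⊓ centralizer (A : Set G) := by
      have h3 := h.centralizes_inf hQA hA (inv_mem (hA hx)) h2
      rwa [show x⁻¹ * (x * mv c * x⁻¹) * x⁻¹⁻¹ = mv c by group] at h3
    refine hmemB c hcA fun z hz => ?_
    have hq : z⁻¹ * c⁻¹ * z * c ∈ Q := by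
      have h4 := h.abS _ (inv_mem (hA hz)) _ (inv_mem (hA hcA))
      rwa [commutatorElement_def, inv_inv, inv_inv] at h4
    have h5 : mv (c * z) = mv (z * c) := by
      have e : z * c = c * z * (z⁻¹ * c⁻¹ * z * c) := by group
      have h6 : mv (z⁻¹ * c⁻¹ * z * c) = 1 := by rw [hmv, h.cent _ hq v hv]; group
      rw [e, hmv_mul (c * z), h6]; group
    rw [hmv_mul, hmv_mul, mem_centralizer_iff.mp hcV.2 z hz, mul_inv_cancel_right,
      h.abV _ (hmvV c) _ (hmvV z)] at h5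
    exact mul_inv_eq_iff_eq_mul.mp (mul_right_cancel h5)
  -- the measure does not drop
  let rep : A ⧸ B.subgroupOf A → A := Quotient.out
  have hrep : ∀ c d, (mv (rep c : G))⁻¹ * mv (rep d : G) ∈ V ⊓ centralizer (A : Set G) → c = d := by
    intro c d hcd
    rw [← QuotientGroup.out_eq' c, ← QuotientGroup.out_eq' d, QuotientGroup.eq]
    exact hkey _ (rep c).2 _ (rep d).2 hcd
  have hin : ∀ c (d : ↥(V ⊓ centralizer (A : Set G))), mv (rep c : G) * (d : G) ∈ V ⊓ centralizer (B : Set G) := by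
    intro c d
    refine mul_mem ⟨hmvV _, ?_⟩ ⟨d.2.1, centralizer_le hBA d.2.2⟩
    rw [hBdef]
    exact mem_centralizer_iff.mpr fun b hb =>
      (mem_centralizer_iff.mp hb.2 (mv (rep c : G)) (hM ▸ subset_closure ⟨_, (rep c).2, rfl⟩)).symm
  let φ : (A ⧸ B.subgroupOf A) × ↥(V ⊓ centralizer (A : Set G)) → ↥(V ⊓ centralizer (B : Set G)) :=
    fun x => ⟨_, hin x.1 x.2⟩
  have hinj : Function.Injective φ := by
    rintro ⟨c, d⟩ ⟨c', d'⟩ he
    have he' : mv (rep c : G) * (d : G) = mv (rep c' : G) * (d' : G) := congrArg Subtype.val he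
    obtain rfl : c = c' := hrep c c' (by
      rw [show (mv (rep c : G))⁻¹ * mv (rep c' : G) = (d : G) * (d' : G)⁻¹ by
        rw [eq_mul_inv_iff_mul_eq, mul_assoc, ← he', inv_mul_cancel_left]]
      exact mul_mem d.2 (inv_mem d'.2))
    exact Prod.ext rfl (Subtype.ext (mul_left_cancel he'))
  have hcard := Nat.card_le_card_of_injective φ hinj
  rw [Nat.card_prod] at hcard
  have hAc : Nat.card A = Nat.card (A ⧸ B.subgroupOf A) * Nat.card B := by
    rw [← Nat.card_congr (subgroupOfEquivOfLe hBA).toEquiv]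
    exact card_eq_card_quotient_mul_card_subgroup _
  have hle : m ≤ meas V B := by
    rw [← hmA, meas, meas, hAc]
    calc _ = Nat.card B * (Nat.card (A ⧸ B.subgroupOf A) * Nat.card ↥(V ⊓ centralizer (A : Set G))) := by ring
      _ ≤ _ := Nat.mul_le_mul_left _ hcard
  have hmB : meas V B = m := le_antisymm (hmax B hQB (hBA.trans hA)) hle
  have hMA : A ≤ centralizer (M : Set G) → ⁅a, v⁆ ∈ V ⊓ centralizer (A : Set G) := fun hAM => by
    rw [commutatorElement_def, ← hmv]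
    exact ⟨hmvV a, mem_centralizer_iff.mpr fun b hb =>
      (mem_centralizer_iff.mp (hAM hb) (mv a) (hM ▸ subset_closure ⟨a, ha, rfl⟩)).symm⟩
  rcases hmin B hQB hBA hmB with hBQ | hBeq
  · -- equality forces the displacements to vanish
    have hcardB : Nat.card ↥(V ⊓ centralizer (B : Set G)) ≤
        Nat.card ((A ⧸ B.subgroupOf A) × ↥(V ⊓ centralizer (A : Set G))) := by
      rw [Nat.card_prod]
      refine Nat.le_of_mul_le_mul_left (le_of_eq ?_) (Nat.card_pos (α := B))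
      rw [show Nat.card B * Nat.card ↥(V ⊓ centralizer (B : Set G)) = meas V B from rfl, hmB, ← hmA, meas, hAc]
      ring
    have hsur := (hinj.bijective_of_nat_card_le hcardB).2
    obtain ⟨⟨c, d⟩, hcd⟩ := hsur ⟨v, hv, by
      rw [hBQ]; exact mem_centralizer_iff.mpr fun x hx => h.cent x hx v hv⟩
    have hv' : mv (rep c : G) * (d : G) = v := congrArg Subtype.val hcd
    have hM1 : M ≤ ⁅S, M⁆ := by
      conv_lhs => rw [hM]
      rw [closure_le]
      rintro _ ⟨x, hx, rfl⟩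
      have hd := mem_centralizer_iff.mp d.2.2 x hx
      have e : mv x = ⁅x, mv (rep c : G)⁆ := by
        rw [hmv, commutatorElement_def]
        conv_lhs => rw [← hv']
        calc x * (mv (rep c : G) * (d : G)) * x⁻¹ * (mv (rep c : G) * (d : G))⁻¹
            = x * mv (rep c : G) * x⁻¹ * (x * (d : G) * x⁻¹) * (d : G)⁻¹ * (mv (rep c : G))⁻¹ := by group
          _ = _ := by rw [hd, mul_inv_cancel_right, mul_assoc _ (d : G) (d : G)⁻¹, mul_inv_cancel, mul_one]
      rw [e]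
      exact commutator_mem_commutator (hA hx) (hM ▸ subset_closure ⟨_, (rep c).2, rfl⟩)
    refine hMA fun b _ => mem_centralizer_iff.mpr fun y hy => ?_
    rw [h.nil M hMV hM1] at hy
    rw [mem_bot.mp hy, one_mul, mul_one]
  · exact hMA (hBeq ▸ (hBdef ▸ inf_le_right : B ≤ centralizer (M : Set G)))

end OffCtx

end Cfsg.Agent.Invol.PushUp
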