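import Mathlib
import Cfsg.Prelude
import Cfsg.Agent.Lib.Invol.PushTildeBase

/-!
# Pushing up over a rank one quotient: the frame of upper and lower root elements
-/

set_option autoImplicit false
set_option linter.style.haveILetI false
set_option linter.unusedSectionVars false

namespace Cfsg.Agent.Invol.PushUp

open Subgroup Matrix
open Cfsg.Agent.Grp.SL2 (up low up_zero up_mul low_mul low_zero)
open Cfsg.Agent.Invol.Nat2 (upG mem_upG dg dg_up)

universe u

section Mat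

variable {F : Type} [Field F]

local notation "SS" => Matrix.SpecialLinearGroup (Fin 2) F

/-- The upper triangular subgroup. -/
def bor : Subgroup SS where
  carrier := {g | (g : Matrix (Fin 2) (Fin 2) F) 1 0 = 0}
  one_mem' := by simp
  mul_mem' := by
    intro a b ha hb
    simp only [Set.mem_setOf_eq, Matrix.SpecialLinearGroup.coe_mul] at *
    simp [Matrix.mul_apply, Fin.sum_univ_two, ha, hb]
  inv_mem' := by
    intro a ha
    simp only [Set.mem_setOf_eq, Matrix.SpecialLinearGroup.coe_inv, Matrix.adjugate_fin_two] at *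
    simp [ha]

theorem mem_bor {g : SS} : g ∈ bor ↔ (g : Matrix (Fin 2) (Fin 2) F) 1 0 = 0 := Iff.rfl

theorem up_bor (t : F) : up t ∈ (bor : Subgroup SS) := by rw [mem_bor]; simp [up]

theorem center_le_bor : center SS ≤ bor := fun z hz => by
  have h := congrArg (fun m : SS => (m : Matrix (Fin 2) (Fin 2) F) 1 1) (Subgroup.mem_center_iff.mp hz (up 1))
  simp only [Matrix.SpecialLinearGroup.coe_mul] at h
  simpa [mem_bor, up, Matrix.mul_apply, Fin.sum_univ_two] using h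

theorem up_central {t : F} (h : up t ∈ center SS) : t = 0 := by
  have h2 := congrArg (fun m : SS => (m : Matrix (Fin 2) (Fin 2) F) 0 0) (Subgroup.mem_center_iff.mp h (low 1))
  simp only [Matrix.SpecialLinearGroup.coe_mul] at h2
  simpa [up, low, Matrix.mul_apply, Fin.sum_univ_two] using h2

theorem wel_not_bor : (SL2Nat.wel : SS) ∉ bor := by rw [mem_bor]; simp [SL2Nat.wel]

theorem conj_up_not_bor {y : SS} (hy : y ∉ bor) {t : F} (ht : t ≠ 0) : y⁻¹ * up t * y ∉ bor := by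
  rw [mem_bor] at hy ⊢
  simp only [Matrix.SpecialLinearGroup.coe_mul, Matrix.SpecialLinearGroup.coe_inv, Matrix.adjugate_fin_two]
  simp only [Matrix.mul_apply, Fin.sum_univ_two, up]
  simp
  intro h
  have h2 : t * ((y : Matrix (Fin 2) (Fin 2) F) 1 0 * (y : Matrix (Fin 2) (Fin 2) F) 1 0) = 0 := by
    linear_combination -h
  exact hy (mul_self_eq_zero.mp ((mul_eq_zero.mp h2).resolve_left ht))

/-- A proper subgroup containing the upper unitriangular group is upper triangular. -/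
theorem le_bor {M : Subgroup SS} (hU : upG ≤ M) (hM : M ≠ ⊤) : M ≤ bor := by
  intro g hg
  by_contra hc
  rw [mem_bor] at hc
  obtain ⟨c, hcd⟩ : ∃ c, c = (g : Matrix (Fin 2) (Fin 2) F) 1 0 := ⟨_, rfl⟩
  have hu : ∀ s, up s ∈ M := fun s => hU (mem_upG.mpr ⟨s, rfl⟩)
  obtain ⟨g', hg'⟩ : ∃ g', g' = up (-((g : Matrix (Fin 2) (Fin 2) F) 0 0 / c)) * g *
      up (-((g : Matrix (Fin 2) (Fin 2) F) 1 1 / c)) := ⟨_, rfl⟩
  have hgM : g' ∈ M := hg' ▸ mul_mem (mul_mem (hu _) hg) (hu _)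
  have hd := Matrix.SpecialLinearGroup.det_coe g
  rw [Matrix.det_fin_two, ← hcd] at hd
  rw [← hcd] at hc
  have e : g' * up (-1 / (c * c)) = low 1 * g' := by
    subst hg'
    refine Subtype.ext ?_
    simp only [Matrix.SpecialLinearGroup.coe_mul]
    ext i j
    fin_cases i <;> fin_cases j <;> simp [up, low, Matrix.mul_apply, Matrix.vecMul, dotProduct, Fin.sum_univ_two, ← hcd] <;> field_simp <;>
      first
        | ring1
        | exact Or.inl (by ring)
        | linear_combination hd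
        | linear_combination -hd
  exact one_ne_zero (PushCL.low_mem hU hM (t := (1 : F)) (by
    rw [show (low 1 : SS) = g' * up (-1 / (c * c)) * g'⁻¹ by rw [e, mul_inv_cancel_right]]
    exact mul_mem (mul_mem hgM (hu _)) (inv_mem hgM)))

/-- A scalar upper triangular matrix is central. -/
theorem scalar_central {b : SS} (h10 : (b : Matrix (Fin 2) (Fin 2) F) 1 0 = 0)
    (h01 : (b : Matrix (Fin 2) (Fin 2) F) 0 1 = 0)
    (hd : (b : Matrix (Fin 2) (Fin 2) F) 0 0 = (b : Matrix (Fin 2) (Fin 2) F) 1 1) : b ∈ center SS := by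
  refine Subgroup.mem_center_iff.mpr fun g => Subtype.ext ?_
  simp only [Matrix.SpecialLinearGroup.coe_mul]
  ext i j
  fin_cases i <;> fin_cases j <;> simp [Matrix.mul_apply, Fin.sum_univ_two, h10, h01, hd, mul_comm]

end Mat

variable {G : Type u} [Group G] [Finite G] {p : ℕ} [hp : Fact p.Prime]

/-- The data of a rank one quotient above a Sylow subgroup lying in a unique maximal subgroup. -/
structure Frame (S : Sylow p G) (F : Type) [Field F] [Fintype F] where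
  M : Subgroup G
  K : Subgroup G
  σ : F → G
  w : G
  coset : Option F → G
  hcore : centralizer (Cfsg.pCore p G : Set G) ≤ Cfsg.pCore p G
  unique : ∃! N : Subgroup G, IsCoatom N ∧ (S : Subgroup G) ≤ N
  S_le : (S : Subgroup G) ≤ M
  M_ne_top : M ≠ ⊤
  nn : normalizer (M : Set G) = M
  K_normal : K.Normal
  K_le : K ≤ M
  le_K : ∀ N : Subgroup G, N.Normal → N ≤ M → N ≤ K
  S_inf_K : (S : Subgroup G) ⊓ K = Cfsg.pCore p G
  gen : ∀ a ∈ (S : Subgroup G), a ∉ Cfsg.pCore p G → ∀ g, g ∉ M → ∀ H : Subgroup G,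
    a ∈ H → (∀ s ∈ (S : Subgroup G), g * s * g⁻¹ ∈ H) → H = ⊤
  coset_ne : ∀ i j, i ≠ j → (coset i)⁻¹ * coset j ∉ M
  σ_mem : ∀ t, σ t ∈ (S : Subgroup G)
  σ_add : ∀ t u, (σ (t + u))⁻¹ * (σ t * σ u) ∈ Cfsg.pCore p G
  σ_surj : ∀ s ∈ (S : Subgroup G), ∃ t, (σ t)⁻¹ * s ∈ Cfsg.pCore p G
  σ_eq_zero : ∀ t, σ t ∈ Cfsg.pCore p G → t = 0
  w_not : w ∉ M
  rel_left : ∀ t, t ≠ 0 → w⁻¹ * (σ t * (w * σ t⁻¹ * w⁻¹) * σ t) ∈ M
  rel_right : ∀ t, t ≠ 0 → σ t * (w * σ t⁻¹ * w⁻¹) * σ t * w ∈ M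
  rel_torus : ∀ t, t ≠ 0 → ∀ u,
    σ t * (w * σ t⁻¹ * w⁻¹) * σ t * (σ 1 * (w * σ 1 * w⁻¹) * σ 1)⁻¹ * σ u *
      (σ t * (w * σ t⁻¹ * w⁻¹) * σ t * (σ 1 * (w * σ 1 * w⁻¹) * σ 1)⁻¹)⁻¹ * (σ (t * t * u))⁻¹ ∈ K
  dichotomy : ∀ X : Subgroup G, Cfsg.pCore p G ≤ X → X ≤ (S : Subgroup G) →
    (∀ n : G, (∀ s ∈ (S : Subgroup G), n * s * n⁻¹ ∈ (S : Subgroup G)) → ∀ x ∈ X, n * x * n⁻¹ ∈ X) →
    X = Cfsg.pCore p G ∨ X = (S : Subgroup G)
  card_bound : ∀ W C : Subgroup G, W.Normal → IsPGroup p W → C ≤ W → C ≤ centralizer ((S : Subgroup G) : Set G) →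
    ¬ C ≤ center G → Fintype.card F * Nat.card C ≤ Nat.card W

theorem exists_frame (S : Sylow p G) (hE₁ : centralizer (Cfsg.pCore p G : Set G) ≤ Cfsg.pCore p G)
    (hE₂ : ∃! M : Subgroup G, IsCoatom M ∧ (S : Subgroup G) ≤ M)
    (K : Subgroup G) [K.Normal] {F : Type} [Field F] [Fintype F] {n : ℕ} (hF : Fintype.card F = p ^ n)
    (e : G ⧸ K ≃* Matrix.ProjectiveSpecialLinearGroup (Fin 2) F) :
    ∃ fr : Frame S F, fr.K = K := by
  classical
  haveI := Nat2.charP_of_card (F := F) hF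
  obtain ⟨M, ⟨hM, hSM⟩, huniq⟩ := id hE₂
  obtain ⟨hKM, hnn, ⟨f, hf⟩, -⟩ := PushCL.exists_cosets S hM hSM huniq K e
  have hπ : Function.Surjective (QuotientGroup.mk' K) := QuotientGroup.mk'_surjective K
  -- the epimorphism
  obtain ⟨ψ, hψ, hker, hSimg⟩ : ∃ ψ : Matrix.SpecialLinearGroup (Fin 2) F →* G ⧸ K,
      Function.Surjective ψ ∧ (∀ y, ψ y = 1 ↔ y ∈ center _) ∧
        (S : Subgroup G).map (QuotientGroup.mk' K) = upG.map ψ := by
    obtain ⟨φ, hφdef⟩ : ∃ φ, φ = e.symm.toMonoidHom.comp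
        (QuotientGroup.mk' (center (Matrix.SpecialLinearGroup (Fin 2) F))) := ⟨_, rfl⟩
    have hφ : Function.Surjective φ := hφdef ▸ e.symm.surjective.comp (QuotientGroup.mk'_surjective _)
    have hφk : ∀ y, φ y = 1 ↔ y ∈ center _ := fun y => by
      rw [hφdef]
      show e.symm (QuotientGroup.mk' _ y) = 1 ↔ _
      rw [map_eq_one_iff _ e.symm.injective]
      exact QuotientGroup.eq_one_iff y
    obtain ⟨P₀, -⟩ : ∃ P₀ : Sylow p (Matrix.SpecialLinearGroup (Fin 2) F), True := ⟨default, trivial⟩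
    obtain ⟨γ, hγ⟩ := MulAction.exists_smul_eq (G ⧸ K) (Sylow.mapSurjective hφ P₀) (Sylow.mapSurjective hπ S)
    obtain ⟨g₁, rfl⟩ := hφ γ
    obtain ⟨g₂, hg₂⟩ := Nat2.exists_conj_upG (F := F) p P₀
    refine ⟨φ.comp (MulAut.conj (g₁ * g₂)).toMonoidHom, hφ.comp (MulAut.conj (g₁ * g₂)).surjective, fun y => ?_, ?_⟩
    · rw [MonoidHom.comp_apply, hφk]
      constructor
      · intro h
        have h2 := (inferInstance : (center (Matrix.SpecialLinearGroup (Fin 2) F)).Normal).conj_mem _ h (g₁ * g₂)⁻¹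
        simpa [mul_assoc] using h2
      · intro h
        show g₁ * g₂ * y * (g₁ * g₂)⁻¹ ∈ _
        exact (inferInstance : (center (Matrix.SpecialLinearGroup (Fin 2) F)).Normal).conj_mem _ h _
    · have h := congrArg (fun X : Sylow p (G ⧸ K) => (X : Subgroup (G ⧸ K))) hγ
      simp only [Sylow.coe_subgroup_smul, Sylow.coe_mapSurjective, hg₂] at h
      rw [← h]
      ext x
      rw [Subgroup.mem_pointwise_smul_iff_inv_smul_mem]
      constructor
      · rintro ⟨_, ⟨a, ha, rfl⟩, hax⟩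
        refine ⟨a, ha, ?_⟩
        simp only [MulAut.smul_def, MulAut.inv_apply, MulAut.conj_symm_apply] at hax
        have hx : x = φ g₁ * ((φ g₁)⁻¹ * x * φ g₁) * (φ g₁)⁻¹ := by group
        rw [hx, ← hax]
        simp [mul_assoc]
      · rintro ⟨a, ha, rfl⟩
        refine ⟨_, ⟨a, ha, rfl⟩, ?_⟩
        simp [MulAut.smul_def, mul_assoc]
  obtain ⟨π, hπdef⟩ : ∃ π, π = QuotientGroup.mk' K := ⟨_, rfl⟩
  rw [← hπdef] at hSimg hπ
  have hπK : ∀ x, π x = 1 ↔ x ∈ K := fun x => hπdef ▸ QuotientGroup.eq_one_iff x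
  -- `M` is the preimage of the upper triangular group
  have hbor : ∀ y, ψ y ∈ M.map π → y ∈ bor := by
    intro y hy
    refine le_bor (M := (M.map π).comap ψ) (fun x hx => ?_) (fun htop => ?_) hy
    · exact map_mono hSM (hSimg ▸ mem_map_of_mem ψ hx)
    · refine hM.1 (eq_top_iff.mpr fun x _ => ?_)
      obtain ⟨y, hy⟩ := hψ (π x)
      obtain ⟨m, hm, hmx⟩ := htop.ge (mem_top y)
      have hk : m⁻¹ * x ∈ K := (hπK _).mp (by rw [map_mul, map_inv, hmx, hy, inv_mul_cancel])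
      simpa using mul_mem hm (hKM hk)
  have hborc : ∀ b z, b ∈ (bor : Subgroup (Matrix.SpecialLinearGroup (Fin 2) F)) → ψ b = ψ z → z ∈ bor := by
    intro b z hb h
    have h2 : b⁻¹ * z ∈ bor := center_le_bor ((hker _).mp (by rw [map_mul, map_inv, h, inv_mul_cancel]))
    simpa using mul_mem hb h2
  have hmemM : ∀ x b, b ∈ (bor : Subgroup (Matrix.SpecialLinearGroup (Fin 2) F)) → ψ b = π x → x ∈ M := by
    intro x b hb h
    obtain ⟨B, hB⟩ : ∃ B, B = (bor.map ψ).comap π := ⟨_, rfl⟩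
    have hSB : (S : Subgroup G) ≤ B := fun s hs => by
      rw [hB, mem_comap]
      obtain ⟨u, hu, hus⟩ := (hSimg ▸ mem_map_of_mem π hs : π s ∈ upG.map ψ)
      obtain ⟨t, rfl⟩ := mem_upG.mp hu
      exact ⟨_, up_bor t, hus⟩
    have hBne : B ≠ ⊤ := fun htop => by
      obtain ⟨w, hw⟩ := hπ (ψ SL2Nat.wel)
      obtain ⟨b', hb', hbw⟩ := (hB ▸ htop.ge (mem_top w) : w ∈ (bor.map ψ).comap π)
      exact wel_not_bor (hborc b' _ hb' (hbw.trans hw))
    obtain ⟨M', hM', hle⟩ := (eq_top_or_exists_le_coatom B).resolve_left hBne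
    obtain rfl := huniq M' ⟨hM', hSB.trans hle⟩
    exact hle (by rw [hB, mem_comap]; exact ⟨b, hb, h⟩)
  have hSK : (S : Subgroup G) ⊓ K = Cfsg.pCore p G := by
    refine le_antisymm (PushTilde.inf_kernel_le_core S hE₂ K e) (le_inf (Grp.pCore_le_sylow S) fun x hx => ?_)
    haveI : (Cfsg.pCore p G).Normal := Grp.pCore_isNormal
    rw [← hπK]
    obtain ⟨b, hb⟩ := hψ (π x)
    have hxM : ∀ y, ∃ z ∈ M, π z = ψ (y * b * y⁻¹) := fun y => by
      obtain ⟨g, hg⟩ := hπ (ψ y)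
      exact ⟨g * x * g⁻¹, hSM (Grp.pCore_le_sylow S ((inferInstance : (Cfsg.pCore p G).Normal).conj_mem x hx g)),
        by simp [map_mul, map_inv, hg, hb]⟩
    have hall : ∀ y, y * b * y⁻¹ ∈ bor := fun y => hbor _ (by
      obtain ⟨z, hz, hzy⟩ := hxM y; exact ⟨z, hz, hzy⟩)
    rw [← hb, hker]
    have h10 := hall 1
    have h01 := hall SL2Nat.wel
    have hd := hall (SL2Nat.wel * up 1)
    simp only [mem_bor, Matrix.SpecialLinearGroup.coe_mul, Matrix.SpecialLinearGroup.coe_inv, Matrix.adjugate_fin_two] at h10 h01 hd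
    simp [Matrix.mul_apply, Matrix.vecMul, dotProduct, Fin.sum_univ_two, SL2Nat.wel, up] at h10 h01 hd
    exact scalar_central h10 h01 (by linear_combination hd - h10 + h01)
  have hup : ∀ s ∈ (S : Subgroup G), ∃ t, π s = ψ (up t) := fun s hs => by
    obtain ⟨u, hu, hus⟩ := (hSimg ▸ mem_map_of_mem π hs : π s ∈ upG.map ψ)
    obtain ⟨t, rfl⟩ := mem_upG.mp hu
    exact ⟨t, hus.symm⟩
  have hσex : ∀ t, ∃ s ∈ (S : Subgroup G), π s = ψ (up t) := fun t => by
    obtain ⟨s, hs, hst⟩ := (hSimg.symm ▸ mem_map_of_mem ψ (mem_upG.mpr ⟨t, rfl⟩) : ψ (up t) ∈ (S : Subgroup G).map π)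
    exact ⟨s, hs, hst⟩
  choose σ hσS hσ using hσex
  obtain ⟨w, hw⟩ := hπ (ψ SL2Nat.wel)
  have hQ : ∀ x ∈ (S : Subgroup G), π x = 1 → x ∈ Cfsg.pCore p G := fun x hx h => by
    rw [← hSK]; exact ⟨hx, (hπK x).mp h⟩
  have hlow : ∀ t, π (w * σ t * w⁻¹) = ψ (low (-t)) := fun t => by
    rw [SL2Nat.low_eq, neg_neg]; simp [map_mul, map_inv, hw, hσ]
  have hn : ∀ t, t ≠ 0 → π (σ t * (w * σ t⁻¹ * w⁻¹) * σ t) = ψ (up t * low (-t⁻¹) * up t) := fun t _ => by
    rw [map_mul, map_mul, hσ, hlow, map_mul, map_mul]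
  refine ⟨{ M := M, K := K, σ := σ, w := w, coset := f, hcore := hE₁, unique := hE₂, S_le := hSM
            M_ne_top := hM.1, nn := hnn, K_normal := inferInstance, K_le := hKM, le_K := ?_, S_inf_K := hSK
            gen := ?_, coset_ne := hf, σ_mem := hσS, σ_add := ?_, σ_surj := ?_, σ_eq_zero := ?_, w_not := ?_
            rel_left := ?_, rel_right := ?_, rel_torus := ?_, dichotomy := ?_, card_bound := ?_ }, rfl⟩
  · intro N hN hle x hx
    rw [← hπK]
    obtain ⟨b, hb⟩ := hψ (π x)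
    have hall : ∀ y, y * b * y⁻¹ ∈ bor := fun y => by
      obtain ⟨g, hg⟩ := hπ (ψ y)
      exact hbor _ ⟨g * x * g⁻¹, hle (hN.conj_mem x hx g), by simp [map_mul, map_inv, hg, hb]⟩
    rw [← hb, hker]
    have h10 := hall 1
    have h01 := hall SL2Nat.wel
    have hd := hall (SL2Nat.wel * up 1)
    simp only [mem_bor, Matrix.SpecialLinearGroup.coe_mul, Matrix.SpecialLinearGroup.coe_inv, Matrix.adjugate_fin_two] at h10 h01 hd
    simp [Matrix.mul_apply, Matrix.vecMul, dotProduct, Fin.sum_univ_two, SL2Nat.wel, up] at h10 h01 hd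
    exact scalar_central h10 h01 (by linear_combination hd - h10 + h01)
  · intro a ha haQ g hg H haH hgH
    by_contra hne
    obtain ⟨M', hM', hle⟩ := (eq_top_or_exists_le_coatom H).resolve_left hne
    have hback : IsCoatom (M'.map (MulAut.conj g⁻¹).toMonoidHom) ∧
        (S : Subgroup G) ≤ M'.map (MulAut.conj g⁻¹).toMonoidHom := by
      refine ⟨((MulAut.conj g⁻¹).mapSubgroup.isCoatom_iff M').mpr hM', fun s hs => ?_⟩
      exact ⟨_, hle (hgH s hs), by simp [mul_assoc]⟩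
    have e3 := huniq _ hback
    have haM : g⁻¹ * a * g ∈ M := e3.le ⟨a, hle haH, by simp⟩
    obtain ⟨t, ht⟩ := hup a ha
    have ht0 : t ≠ 0 := fun h => haQ (hQ a ha (by rw [ht, h, up_zero, map_one]))
    obtain ⟨y, hy⟩ := hψ (π g)
    refine conj_up_not_bor (y := y) (fun hy' => hg (hmemM g y hy' hy)) ht0 (hbor _ ⟨_, haM, ?_⟩)
    simp [map_mul, map_inv, hy, ht]
  · intro t u
    refine hQ _ (mul_mem (inv_mem (hσS _)) (mul_mem (hσS _) (hσS _))) ?_
    rw [map_mul, map_inv, map_mul, hσ, hσ, hσ, ← map_mul, up_mul, inv_mul_cancel]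
  · intro s hs
    obtain ⟨t, ht⟩ := hup s hs
    exact ⟨t, hQ _ (mul_mem (inv_mem (hσS _)) hs) (by rw [map_mul, map_inv, hσ, ht, inv_mul_cancel])⟩
  · intro t ht
    rw [← hSK] at ht
    have h2 := (hπK _).mpr ht.2
    rw [hσ, hker] at h2
    exact up_central h2
  · intro hwM
    exact wel_not_bor (hbor _ ⟨w, hwM, hw⟩)
  · intro t ht
    refine hmemM _ (SL2Nat.wel⁻¹ * (up t * low (-t⁻¹) * up t)) ?_ (by rw [map_mul π w⁻¹, map_inv π w, hn t ht, hw, map_mul ψ SL2Nat.wel⁻¹, map_inv ψ SL2Nat.wel])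
    simp only [mem_bor, Matrix.SpecialLinearGroup.coe_mul, Matrix.SpecialLinearGroup.coe_inv, Matrix.adjugate_fin_two]
    simp [Matrix.mul_apply, Fin.sum_univ_two, SL2Nat.wel, up, low, ht]
  · intro t ht
    refine hmemM _ ((up t * low (-t⁻¹) * up t) * SL2Nat.wel) ?_ (by rw [map_mul π _ w, hn t ht, hw, map_mul ψ _ SL2Nat.wel])
    simp only [mem_bor, Matrix.SpecialLinearGroup.coe_mul]
    simp [Matrix.mul_apply, Fin.sum_univ_two, SL2Nat.wel, up, low, ht]
  · intro t ht u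
    rw [← hπK]
    have hd : ∀ s, s ≠ 0 → (up s * low (-s⁻¹) * up s : Matrix.SpecialLinearGroup (Fin 2) F) * (up 1 * low (-1) * up 1)⁻¹ = if h : s = 0 then 1 else dg s h := by
      intro s hs
      rw [dif_neg hs, mul_inv_eq_iff_eq_mul]
      refine Subtype.ext ?_
      simp only [Matrix.SpecialLinearGroup.coe_mul]
      ext i j
      fin_cases i <;> fin_cases j <;> simp [up, low, dg, Matrix.mul_apply, Fin.sum_univ_two, hs]
    have h1 : π (σ 1 * (w * σ 1 * w⁻¹) * σ 1) = ψ (up 1 * low (-1) * up 1) := by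
      rw [map_mul, map_mul, hσ, hlow, map_mul, map_mul]
    have hh : π (σ t * (w * σ t⁻¹ * w⁻¹) * σ t * (σ 1 * (w * σ 1 * w⁻¹) * σ 1)⁻¹) = ψ (dg t ht) := by
      rw [map_mul, map_inv, hn t ht, h1, ← map_inv, ← map_mul, hd t ht, dif_neg ht]
    rw [map_mul _ (_ * (_)⁻¹) ((σ (t * t * u))⁻¹), map_mul _ (_ * σ u), map_mul _ _ (σ u), map_inv, map_inv, hh, hσ,
      hσ, ← map_inv, ← map_inv, ← map_mul, ← map_mul, ← map_mul, dg_up, mul_inv_cancel_right, mul_inv_cancel,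
      map_one]
  · intro X hQX hXS hinv
    by_cases h : X ≤ Cfsg.pCore p G
    · exact Or.inl (le_antisymm h hQX)
    · exact Or.inr (PushTilde.eq_of_normalizer_invariant S K e (hSK.le) hXS hQX hinv h)
  · intro W C hW hWp hCW hCS hne
    haveI := hW
    have h := PushCL.center_bound S hE₂ hF K e hWp hCW hCS hne
    refine le_trans (le_of_eq ?_) h
    rw [← hπdef, hSimg]
    congr 1
    rw [← Nat.card_eq_fintype_card, ← PushCL.card_upG]
    refine Nat.card_congr (Equiv.ofBijective (fun x => (⟨ψ x.1, mem_map_of_mem ψ x.2⟩ : upG.map ψ)) ⟨?_, ?_⟩)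
    · rintro ⟨x, hx⟩ ⟨y, hy⟩ hxy
      obtain ⟨a, rfl⟩ := mem_upG.mp hx
      obtain ⟨b, rfl⟩ := mem_upG.mp hy
      have hab : ψ (up a) = ψ (up b) := congrArg Subtype.val hxy
      have hk : up (a + -b) = (up a : Matrix.SpecialLinearGroup (Fin 2) F) * (up b)⁻¹ := by
        rw [eq_mul_inv_iff_mul_eq, up_mul, neg_add_cancel_right]
      have hz : a + -b = 0 := up_central ((hker _).mp (by rw [hk, map_mul, map_inv, hab, mul_inv_cancel]))
      obtain rfl : a = b := by linear_combination hz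
      rfl
    · rintro ⟨_, x, hx, rfl⟩
      exact ⟨⟨x, hx⟩, rfl⟩

namespace Frame

variable {S : Sylow p G} {F : Type} [Field F] [Fintype F] (fr : Frame S F)

theorem Q_le_S : Cfsg.pCore p G ≤ (S : Subgroup G) := Grp.pCore_le_sylow S

theorem Q_normal : (Cfsg.pCore p G).Normal := Grp.pCore_isNormal

theorem σ_zero : fr.σ 0 ∈ Cfsg.pCore p G := by
  have h := fr.σ_add 0 0
  rwa [add_zero, inv_mul_cancel_left] at h

theorem gen_conj {g : G} (hg : g ∉ fr.M) (H : Subgroup G) (hS : (S : Subgroup G) ≤ H)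
    (hgH : ∀ s ∈ (S : Subgroup G), g * s * g⁻¹ ∈ H) : H = ⊤ := by
  refine fr.gen (fr.σ 1) (fr.σ_mem 1) (fun h => one_ne_zero (fr.σ_eq_zero 1 h)) g hg H (hS (fr.σ_mem 1)) hgH

include fr in
theorem card_S : Nat.card (S : Subgroup G) = Fintype.card F * Nat.card (Cfsg.pCore p G) := by
  haveI := Q_normal (G := G) (p := p)
  rw [← Nat.card_eq_fintype_card (α := F), ← Nat.card_prod]
  refine (Nat.card_congr (Equiv.ofBijective (fun x : F × Cfsg.pCore p G =>
    (⟨fr.σ x.1 * x.2, mul_mem (fr.σ_mem _) (Q_le_S x.2.2)⟩ : (S : Subgroup G))) ⟨?_, ?_⟩)).symm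
  · rintro ⟨t, x⟩ ⟨u, y⟩ h
    have h' : fr.σ t * (x : G) = fr.σ u * (y : G) := congrArg Subtype.val h
    obtain ⟨v, hv⟩ : ∃ v, v = u - t := ⟨_, rfl⟩
    have h2 : (fr.σ (t + v))⁻¹ * (fr.σ t * fr.σ v) ∈ Cfsg.pCore p G := fr.σ_add t v
    rw [show t + v = u by rw [hv]; ring] at h2
    have e : fr.σ u = fr.σ t * (x : G) * (y : G)⁻¹ := by rw [h', mul_inv_cancel_right]
    have hv0 : v = 0 := fr.σ_eq_zero v (by
      have h3 := mul_mem (mul_mem x.2 (inv_mem y.2)) h2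
      rw [e] at h3
      simpa [mul_assoc] using h3)
    obtain rfl : u = t := by rw [hv] at hv0; linear_combination hv0
    exact Prod.ext rfl (Subtype.ext (mul_left_cancel h'))
  · rintro ⟨s, hs⟩
    obtain ⟨t, ht⟩ := fr.σ_surj s hs
    exact ⟨(t, ⟨_, ht⟩), Subtype.ext (mul_inv_cancel_left _ _)⟩

end Frame

end Cfsg.Agent.Invol.PushUp
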