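import Mathlib
import Cfsg.Agent.Lib.Invol.PushUp.Frame

/-!
# A section with a line of fixed points is a natural module

If the `p`-core acts trivially, `S` stabilises `0 < L < E`, no nonzero vector of `L` is fixed by the whole group,
`|L| ≥ q` and `|E| ≤ q|L|`, then `E` is the natural module, and the representation is the standard one of the frame.
-/

set_option autoImplicit false
set_option linter.style.haveILetI false
set_option linter.unusedSectionVars false

namespace Cfsg.Agent.Invol.PushUp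

open Matrix
open Cfsg.Agent.Grp.SL2 (up low up_zero up_mul low_zero)
open Cfsg.Agent.Invol.Nat2 (upG mem_upG)

universe u v

variable {G : Type u} [Group G] [Finite G] {p : ℕ} [hp : Fact p.Prime]
variable {S : Sylow p G} {F : Type} [Field F] [Fintype F]

/-- A representation taking the standard values on the root elements of a frame. -/
structure Frame.Std (fr : Frame S F) (ρ : G →* Matrix.SpecialLinearGroup (Fin 2) F) : Prop where
  up' : ∀ t, ρ (fr.σ t) = up t
  low' : ∀ t, ρ (fr.w * fr.σ t * fr.w⁻¹) = low (-t)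
  core : ∀ x ∈ Cfsg.pCore p G, ρ x = 1

theorem Frame.eq_top_of_roots (fr : Frame S F) (H : Subgroup G) (hσ : ∀ t, fr.σ t ∈ H)
    (hw : ∀ t, fr.w * fr.σ t * fr.w⁻¹ ∈ H) (hQ : Cfsg.pCore p G ≤ H) : H = ⊤ := by
  refine fr.gen_conj fr.w_not H (fun s hs => ?_) fun s hs => ?_
  · obtain ⟨t, ht⟩ := fr.σ_surj s hs
    simpa using mul_mem (hσ t) (hQ ht)
  · obtain ⟨t, ht⟩ := fr.σ_surj s hs
    have h := mul_mem (hw t) (hQ ((Frame.Q_normal (G := G) (p := p)).conj_mem _ ht fr.w))
    rw [show fr.w * s * fr.w⁻¹ = fr.w * fr.σ t * fr.w⁻¹ * (fr.w * ((fr.σ t)⁻¹ * s) * fr.w⁻¹) by group]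
    exact h

theorem Frame.Std.unique {fr : Frame S F} {ρ ρ' : G →* Matrix.SpecialLinearGroup (Fin 2) F}
    (h : fr.Std ρ) (h' : fr.Std ρ') : ρ = ρ' :=
  MonoidHom.eq_of_eqOn_top fun x _ => (fr.eq_top_of_roots (MonoidHom.eqLocus ρ ρ') (fun t => (h.up' t).trans (h'.up' t).symm)
    (fun t => (h.low' t).trans (h'.low' t).symm) (fun y hy => (h.core y hy).trans (h'.core y hy).symm)).ge
      (Subgroup.mem_top x)

theorem Frame.Std.surjective {fr : Frame S F} {ρ : G →* Matrix.SpecialLinearGroup (Fin 2) F} (h : fr.Std ρ) :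
    Function.Surjective ρ := by
  rw [← MonoidHom.range_eq_top]
  have hu : ∀ s : F, up s ∈ ρ.range := fun s => ⟨_, h.up' s⟩
  have hl : ∀ s : F, low s ∈ ρ.range := fun s => ⟨_, by rw [h.low' (-s), neg_neg]⟩
  refine SL2Nat.generated _ hu ?_
  have e : (SL2Nat.wel : Matrix.SpecialLinearGroup (Fin 2) F) = up (-1) * low 1 * up (-1) := by
    refine Subtype.ext ?_
    simp only [Matrix.SpecialLinearGroup.coe_mul]
    ext i j
    fin_cases i <;> fin_cases j <;> simp [up, low, SL2Nat.wel, Matrix.mul_apply, Fin.sum_univ_two]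
  rw [e]; exact mul_mem (mul_mem (hu _) (hl _)) (hu _)

/-- A Jordan homomorphism from a finite field into a ring is multiplicative. -/
theorem jordan_mul {R : Type*} [Ring R] (C : F →+ R) (h1 : C 1 = 1)
    (hj : ∀ t, t ≠ 0 → ∀ u, C (t * t * u) = C t * C u * C t) (a b : F) : C (a * b) = C a * C b := by
  have hpow : ∀ t, t ≠ 0 → ∀ m : ℕ, C (t ^ m) = C t ^ m := by
    intro t ht m
    induction m using Nat.twoStepInduction with
    | zero => simp [h1]
    | one => simp
    | more m ih _ =>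
      rw [show t ^ (m + 2) = t * t * t ^ m by ring, hj t ht, ih, ← pow_succ', ← pow_succ]
  obtain ⟨g, hg⟩ := IsCyclic.exists_monoid_generator (α := Fˣ)
  have hgen : ∀ x : F, x ≠ 0 → ∃ m : ℕ, x = (g : F) ^ m := fun x hx => by
    obtain ⟨m, hm⟩ := Submonoid.mem_powers_iff _ _ |>.mp (hg (Units.mk0 x hx))
    exact ⟨m, (congrArg Units.val hm).symm.trans (Units.val_pow_eq_pow_val g m)⟩
  rcases eq_or_ne a 0 with rfl | ha
  · simp
  rcases eq_or_ne b 0 with rfl | hb
  · simp
  obtain ⟨i, rfl⟩ := hgen a ha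
  obtain ⟨j, rfl⟩ := hgen b hb
  rw [← pow_add, hpow _ g.ne_zero, hpow _ g.ne_zero, hpow _ g.ne_zero, pow_add]

section Plane

variable {E : Type v} [AddCommGroup E] [Finite E]

/-- The hypotheses on a section. -/
structure IsPlane (fr : Frame S F) (γ : G →* AddMonoid.End E) (L : AddSubgroup E) : Prop where
  core : ∀ x ∈ Cfsg.pCore p G, ∀ v, γ x v = v
  fixL : ∀ s ∈ (S : Subgroup G), ∀ v ∈ L, γ s v = v
  moveL : ∀ s ∈ (S : Subgroup G), ∀ v, γ s v - v ∈ L
  noFix : ∀ v ∈ L, (∀ g, γ g v = v) → v = 0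
  card_L : Fintype.card F ≤ Nat.card L
  card_E : Nat.card E ≤ Fintype.card F * Nat.card L

variable {fr : Frame S F} {γ : G →* AddMonoid.End E} {L : AddSubgroup E}

/-- The stabiliser of a vector. -/
def stabVec (γ : G →* AddMonoid.End E) (v : E) : Subgroup G where
  carrier := {g | γ g v = v}
  one_mem' := by simp
  mul_mem' := by intro a b ha hb; simp only [Set.mem_setOf_eq] at *; rw [map_mul]; show γ a (γ b v) = v; rw [hb, ha]
  inv_mem' := by
    intro a ha
    simp only [Set.mem_setOf_eq] at *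
    conv_lhs => rw [← ha]
    show (γ a⁻¹ * γ a) v = v
    rw [← map_mul, inv_mul_cancel, map_one]; rfl

theorem act_act (γ : G →* AddMonoid.End E) (g h : G) (v : E) : γ g (γ h v) = γ (g * h) v := by
  rw [map_mul]; rfl

theorem act_one (γ : G →* AddMonoid.End E) (v : E) : γ 1 v = v := by rw [map_one]; rfl

theorem act_inv (γ : G →* AddMonoid.End E) (g : G) (v : E) : γ g⁻¹ (γ g v) = v := by
  rw [act_act, inv_mul_cancel, act_one]

theorem act_inv' (γ : G →* AddMonoid.End E) (g : G) (v : E) : γ g (γ g⁻¹ v) = v := by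
  rw [act_act, mul_inv_cancel, act_one]

namespace IsPlane

variable (h : IsPlane fr γ L)
include h

theorem disjoint {x : G} (hx : x ∉ fr.M) {v : E} (hv : v ∈ L) (hv' : γ x v ∈ L) : v = 0 := by
  refine h.noFix v hv fun g => ?_
  have htop : stabVec γ v = ⊤ := by
    refine fr.gen_conj (g := x⁻¹) (fun h' => hx (inv_mem_iff.mp h')) _ (fun s hs => h.fixL s hs v hv) fun s hs => ?_
    show γ (x⁻¹ * s * x⁻¹⁻¹) v = v
    rw [inv_inv, ← act_act, ← act_act, h.fixL s hs _ hv', act_inv]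
  exact htop.ge (Subgroup.mem_top g)

theorem fix_moved {a x : G} (ha : a ∈ (S : Subgroup G)) (haQ : a ∉ Cfsg.pCore p G) (hx : x ∉ fr.M) {v : E}
    (hv : v ∈ L) (hfix : γ a (γ x v) = γ x v) : v = 0 := by
  have htop : stabVec γ (γ x v) = ⊤ := by
    refine fr.gen a ha haQ x hx _ hfix fun s hs => ?_
    show γ (x * s * x⁻¹) (γ x v) = γ x v
    rw [act_act, show x * s * x⁻¹ * x = x * s by group, ← act_act, h.fixL s hs v hv]
  refine h.noFix v hv fun g => ?_
  have h1 : γ x⁻¹ (γ x v) = γ x v := htop.ge (Subgroup.mem_top x⁻¹)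
  rw [act_inv] at h1
  exact h1.symm ▸ (htop.ge (Subgroup.mem_top g) : γ g (γ x v) = γ x v)

theorem cover : Nat.card L = Fintype.card F ∧ Nat.card E = Fintype.card F * Fintype.card F ∧
    ∀ v : E, v ≠ 0 → ∃ i, ∃ a ∈ L, γ (fr.coset i) a = v := by
  classical
  have hinj : Function.Injective (fun x : Option F × {a : L // a ≠ 0} =>
      (⟨γ (fr.coset x.1) ((x.2 : L) : E), fun he => x.2.2 (Subtype.ext (by
        have h2 := congrArg (γ (fr.coset x.1)⁻¹) he
        rwa [act_inv, map_zero] at h2))⟩ : {v : E // v ≠ 0})) := by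
    rintro ⟨i, a⟩ ⟨j, b⟩ he
    have he' : γ (fr.coset i) ((a : L) : E) = γ (fr.coset j) ((b : L) : E) := congrArg Subtype.val he
    rcases eq_or_ne i j with rfl | hij
    · have h2 := congrArg (γ (fr.coset i)⁻¹) he'
      rw [act_inv, act_inv] at h2
      exact Prod.ext rfl (Subtype.ext (Subtype.ext h2))
    · exfalso
      refine b.2 (Subtype.ext (h.disjoint (fr.coset_ne i j hij) (b : L).2 ?_))
      rw [← act_act, ← he', act_inv]
      exact (a : L).2
  have hle := Nat.card_le_card_of_injective _ hinj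
  have c1 : Nat.card {a : L // a ≠ 0} = Nat.card L - 1 := by
    haveI := Fintype.ofFinite L
    rw [Nat.card_eq_fintype_card, Fintype.card_subtype_compl, Fintype.card_subtype_eq, Nat.card_eq_fintype_card]
  have c2 : Nat.card {v : E // v ≠ 0} = Nat.card E - 1 := by
    haveI := Fintype.ofFinite E
    rw [Nat.card_eq_fintype_card, Fintype.card_subtype_compl, Fintype.card_subtype_eq, Nat.card_eq_fintype_card]
  rw [Nat.card_prod, Nat.card_eq_fintype_card (α := Option F), Fintype.card_option, c1, c2] at hle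
  have hL := h.card_L
  have hE := h.card_E
  have hq : 2 ≤ Fintype.card F := Fintype.one_lt_card
  obtain ⟨l, hl⟩ : ∃ l, Nat.card L = l + 1 := ⟨Nat.card L - 1, (Nat.succ_pred_eq_of_pos Nat.card_pos).symm⟩
  obtain ⟨e, he⟩ : ∃ e, Nat.card E = e + 1 := ⟨Nat.card E - 1, (Nat.succ_pred_eq_of_pos Nat.card_pos).symm⟩
  rw [hl, he, Nat.add_sub_cancel, Nat.add_sub_cancel] at hle
  rw [hl, he] at hE
  have e1 : l + 1 = Fintype.card F := by
    by_contra hne
    have h3 : (Fintype.card F + 1) * Fintype.card F ≤ (Fintype.card F + 1) * l :=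
      Nat.mul_le_mul_left _ (by omega)
    nlinarith
  have e2 : e + 1 = Fintype.card F * Fintype.card F := by nlinarith
  refine ⟨hl.trans e1, he.trans e2, fun v hv => ?_⟩
  haveI := Fintype.ofFinite E
  obtain ⟨⟨i, a⟩, hia⟩ := (hinj.bijective_of_nat_card_le (by
    rw [Nat.card_prod, Nat.card_eq_fintype_card (α := Option F), Fintype.card_option, c1, c2, hl, he,
      Nat.add_sub_cancel, Nat.add_sub_cancel]
    nlinarith)).2 ⟨v, hv⟩
  exact ⟨i, _, (a : L).2, congrArg Subtype.val hia⟩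

theorem stableL {m : G} (hm : m ∈ fr.M) {a : E} (ha : a ∈ L) : γ m a ∈ L := by
  classical
  obtain ⟨hcard, -, hcov⟩ := h.cover
  obtain ⟨a₀, ha₀, hne⟩ : ∃ x ∈ L, x ≠ 0 := by
    by_contra hc
    push Not at hc
    have h2 : L = ⊥ := (AddSubgroup.eq_bot_iff_forall L).mpr hc
    rw [h2, AddSubgroup.card_bot] at hcard
    exact absurd hcard.symm Fintype.one_lt_card.ne'
  have hstep : ∀ i b x, b ∈ L → x ∈ L → x ≠ 0 → ∀ y, y ∈ fr.M → γ (fr.coset i) b = γ y x → fr.coset i ∈ fr.M := by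
    intro i b x hb hx hx0 y hy he
    by_contra hi
    refine hx0 (h.disjoint (x := (fr.coset i)⁻¹ * y) (fun h' => hi ?_) hx (by rw [← act_act, ← he, act_inv]; exact hb))
    simpa using mul_mem hy (inv_mem h')
  obtain ⟨i₀, b₀, hb₀, he₀⟩ := hcov a₀ hne
  have hi₀ : fr.coset i₀ ∈ fr.M := hstep i₀ b₀ a₀ hb₀ ha₀ hne 1 (one_mem _) (he₀.trans (act_one γ a₀).symm)
  have honly : ∀ x ∈ L, x ≠ 0 → ∀ y ∈ fr.M, ∃ b ∈ L, γ (fr.coset i₀) b = γ y x := by
    intro x hx hx0 y hy
    obtain ⟨i, b, hb, he⟩ := hcov (γ y x) (fun h' => hx0 (by rw [← act_inv γ y x, h', map_zero]))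
    have hi := hstep i b x hb hx hx0 y hy he
    obtain rfl : i = i₀ := by
      by_contra hne'
      exact fr.coset_ne i i₀ hne' (mul_mem (inv_mem hi) hi₀)
    exact ⟨b, hb, he⟩
  have hback : ∀ b ∈ L, γ (fr.coset i₀) b ∈ L := by
    intro b hb
    obtain ⟨f, hf⟩ : ∃ f : L → L, ∀ x : L, γ (fr.coset i₀) (f x : E) = x := by
      refine ⟨fun x => if hx : (x : E) = 0 then 0 else ⟨_, (honly x x.2 hx 1 (one_mem _)).choose_spec.1⟩, fun x => ?_⟩
      dsimp only
      split
      · next hx => rw [hx]; simp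
      · next hx => exact (honly x x.2 hx 1 (one_mem _)).choose_spec.2.trans (act_one γ _)
    have hfi : Function.Injective f := fun x y e => Subtype.ext (by rw [← hf x, ← hf y, e])
    obtain ⟨x, hx⟩ := (Finite.injective_iff_surjective.mp hfi) ⟨b, hb⟩
    have h2 := hf x
    rw [hx] at h2
    rw [h2]; exact x.2
  rcases eq_or_ne a 0 with rfl | ha0
  · rw [map_zero]; exact zero_mem _
  obtain ⟨b, hb, he⟩ := honly a ha ha0 m hm
  exact he ▸ hback b hb

theorem fix_eq {a : G} (ha : a ∈ (S : Subgroup G)) (haQ : a ∉ Cfsg.pCore p G) {v : E} (hv : γ a v = v) : v ∈ L := by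
  rcases eq_or_ne v 0 with rfl | hv0
  · exact zero_mem _
  obtain ⟨-, -, hcov⟩ := h.cover
  obtain ⟨i, b, hb, rfl⟩ := hcov v hv0
  by_cases hi : fr.coset i ∈ fr.M
  · exact h.stableL hi hb
  · rw [h.fix_moved ha haQ hi hb hv, map_zero] at hv0
    exact absurd rfl hv0

theorem natural : ∃ ρ : G →* Matrix.SpecialLinearGroup (Fin 2) F, fr.Std ρ ∧
    (∀ g, (∀ v, γ g v = v) ↔ ρ g = 1) ∧
    ∃ Φ : (Fin 2 → F) ≃+ E, ∀ g x, γ g (Φ x) =
      Φ ((ρ g : Matrix (Fin 2) (Fin 2) F).mulVec x) := by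
  classical
  obtain ⟨hcard, hcardE, -⟩ := h.cover
  haveI hQn := Frame.Q_normal (G := G) (p := p)
  obtain ⟨w, hwdef⟩ : ∃ w, w = fr.w := ⟨_, rfl⟩
  have hw : w ∉ fr.M := hwdef ▸ fr.w_not
  -- the two displacement maps
  have hAex : ∀ t : F, ∃ A : L →+ L, ∀ a : L, γ (fr.σ t) (γ w (a : E)) = γ w (a : E) + (A a : E) := fun t =>
    ⟨AddMonoidHom.mk' (fun a => ⟨γ (fr.σ t) (γ w (a : E)) - γ w (a : E), h.moveL _ (fr.σ_mem t) _⟩) (fun a b => by
      refine Subtype.ext ?_; simp only [AddSubgroup.coe_add, map_add]; abel), fun a => by simp⟩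
  choose A hA using hAex
  have hBex : ∀ t : F, ∃ B : L →+ L, ∀ b : L, γ (w * fr.σ t * w⁻¹) (b : E) = (b : E) + γ w (B b : E) := fun t =>
    ⟨AddMonoidHom.mk' (fun b => ⟨γ (fr.σ t) (γ w⁻¹ (b : E)) - γ w⁻¹ (b : E), h.moveL _ (fr.σ_mem t) _⟩) (fun a b => by
      refine Subtype.ext ?_; simp only [AddSubgroup.coe_add, map_add]; abel), fun b => by
        simp only [AddMonoidHom.mk'_apply, map_sub, act_inv', act_act]
        rw [← mul_assoc, mul_inv_cancel, act_one]; abel⟩
  choose B hB using hBex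
  have huniq : ∀ a b a' b' : L, (a : E) + γ w (b : E) = a' + γ w (b' : E) → a = a' ∧ b = b' := by
    intro a b a' b' he
    have hb : b = b' := by
      refine sub_eq_zero.mp (Subtype.ext (h.disjoint hw (b - b' : L).2 ?_))
      rw [AddSubgroup.coe_sub, map_sub, show γ w (b : E) - γ w (b' : E) = (a' : E) - a by
        rw [sub_eq_sub_iff_add_eq_add, add_comm, he]]
      exact (a' - a : L).2
    subst hb
    exact ⟨Subtype.ext (add_right_cancel he), rfl⟩
  have hσQ : ∀ t, t ≠ 0 → fr.σ t ∉ Cfsg.pCore p G := fun t ht h' => ht (fr.σ_eq_zero t h')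
  have hAinj : ∀ t, t ≠ 0 → Function.Injective (A t) := fun t ht => by
    rw [injective_iff_map_eq_zero]
    intro a ha
    have h2 := hA t a
    rw [ha, ZeroMemClass.coe_zero, add_zero] at h2
    exact Subtype.ext (h.fix_moved (fr.σ_mem t) (hσQ t ht) hw a.2 h2)
  have hσfix : ∀ t, ∀ b : L, γ (fr.σ t) (b : E) = b := fun t b => h.fixL _ (fr.σ_mem t) _ b.2
  have hAadd : ∀ t u, A (t + u) = A t + A u := fun t u => AddMonoidHom.ext fun a => Subtype.ext (by
    have h1 : γ (fr.σ (t + u)) (γ w (a : E)) = γ (fr.σ t) (γ (fr.σ u) (γ w (a : E))) := by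
      rw [act_act γ (fr.σ t), ← mul_inv_cancel_left (fr.σ (t + u)) (fr.σ t * fr.σ u), ← act_act γ (fr.σ (t + u)),
        h.core _ (fr.σ_add t u)]
    rw [hA, hA u, map_add, hA, hσfix] at h1
    simp only [AddMonoidHom.add_apply, AddSubgroup.coe_add]
    have h2 := add_left_cancel (h1.trans (add_assoc _ _ _))
    exact h2)
  have hrfix : ∀ t, ∀ a : L, γ (w * fr.σ t * w⁻¹) (γ w (a : E)) = γ w (a : E) := fun t a => by
    rw [act_act, show w * fr.σ t * w⁻¹ * w = w * fr.σ t by group, ← act_act, hσfix]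
  -- the element exchanging the two lines
  have hrel : ∀ t, t ≠ 0 → ∀ b : L, A t (B t⁻¹ b) = -b := by
    intro t ht b
    have hn : γ (fr.σ t * (w * fr.σ t⁻¹ * w⁻¹) * fr.σ t) (b : E) =
        ((b + A t (B t⁻¹ b) : L) : E) + γ w (B t⁻¹ b : E) := by
      rw [← act_act, hσfix, ← act_act, hB, map_add, hσfix, hA, AddSubgroup.coe_add]
      abel
    have hM := h.stableL (fr.rel_left t ht) b.2
    rw [← hwdef, ← act_act, hn, map_add, act_inv] at hM
    have h2 : γ w⁻¹ ((b + A t (B t⁻¹ b) : L) : E) ∈ L := by simpa using sub_mem hM (B t⁻¹ b).2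
    have h3 := h.disjoint (fun h' => hw (inv_mem_iff.mp h')) (b + A t (B t⁻¹ b) : L).2 h2
    exact eq_neg_of_add_eq_zero_right (Subtype.ext h3)
  have hnL : ∀ t, t ≠ 0 → ∀ b : L, γ (fr.σ t * (w * fr.σ t⁻¹ * w⁻¹) * fr.σ t) (b : E) = γ w (B t⁻¹ b : E) := by
    intro t ht b
    rw [← act_act, hσfix, ← act_act, hB, map_add, hσfix, hA, hrel t ht, AddSubgroup.coe_neg]
    abel
  have hnM : ∀ t, t ≠ 0 → ∀ a : L, γ (fr.σ t * (w * fr.σ t⁻¹ * w⁻¹) * fr.σ t) (γ w (a : E)) = (A t a : E) := by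
    intro t ht a
    rw [← act_act, hA, map_add, ← act_act, hrfix, ← act_act γ _ _ (A t a : E), hB, map_add, hA, hσfix, hA]
    have hBA : B t⁻¹ (A t a) = -a := hAinj t ht (by rw [hrel t ht, map_neg])
    rw [hBA, map_neg (A t), AddSubgroup.coe_neg, AddSubgroup.coe_neg, map_neg (γ w)]
    abel
  -- the torus
  let a1 : L ≃+ L := AddEquiv.ofBijective (A 1) (Finite.injective_iff_bijective.mp (hAinj 1 one_ne_zero))
  let C : F →+ AddMonoid.End L := AddMonoidHom.mk' (fun t => (A t).comp a1.symm.toAddMonoidHom) (fun t u => by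
    refine AddMonoidHom.ext fun a => ?_
    simp [hAadd]; rfl)
  have hC : ∀ t a, C t a = A t (a1.symm a) := fun t a => rfl
  have hC1 : C 1 = 1 := AddMonoidHom.ext fun a => a1.apply_symm_apply a
  have hKw : ∀ k ∈ fr.K, ∀ a : L, ∃ a' : L, γ k (γ w (a : E)) = γ w (a' : E) := fun k hk a => by
    refine ⟨⟨γ (w⁻¹ * k * w) (a : E), h.stableL (fr.K_le ?_) a.2⟩, ?_⟩
    · simpa using fr.K_normal.conj_mem k hk w⁻¹
    · rw [act_act, act_act]; congr 2; group
  have hj : ∀ t, t ≠ 0 → ∀ u, C (t * t * u) = C t * C u * C t := by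
    intro t ht u
    obtain ⟨n₁, hn₁⟩ : ∃ n₁, n₁ = fr.σ 1 * (w * fr.σ 1 * w⁻¹) * fr.σ 1 := ⟨_, rfl⟩
    have hn1L : ∀ b : L, γ n₁ (b : E) = γ w (B 1 b : E) := fun b => by
      have h2 := hnL 1 one_ne_zero b; rw [inv_one] at h2; rw [hn₁]; exact h2
    have hn1M : ∀ a : L, γ n₁ (γ w (a : E)) = (A 1 a : E) := fun a => by
      have h2 := hnM 1 one_ne_zero a; rw [inv_one] at h2; rw [hn₁]; exact h2
    obtain ⟨hh, hhdef⟩ : ∃ hh, hh = fr.σ t * (w * fr.σ t⁻¹ * w⁻¹) * fr.σ t * n₁⁻¹ := ⟨_, rfl⟩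
    have hhL : ∀ b : L, γ hh (b : E) = (C t b : E) := fun b => by
      have h2 : γ n₁⁻¹ (b : E) = γ w (a1.symm b : E) := by
        conv_lhs => rw [show (b : E) = γ n₁ (γ w (a1.symm b : E)) by
          rw [hn1M]; exact congrArg Subtype.val (a1.apply_symm_apply b).symm]
        rw [act_inv]
      rw [hhdef, ← act_act, h2, hnM t ht, hC]
    have hhM : ∀ a a' : L, A t a' = A 1 a → γ hh (γ w (a : E)) = γ w (a' : E) := fun a a' he => by
      have hB1 : B 1 (-(A 1 a)) = a := hAinj 1 one_ne_zero (by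
        have h2 := hrel 1 one_ne_zero (-(A 1 a)); rw [inv_one] at h2; rw [h2, neg_neg])
      have h2 : γ n₁⁻¹ (γ w (a : E)) = ((-(A 1 a) : L) : E) := by
        conv_lhs => rw [← hB1, ← hn1L]
        rw [act_inv]
      have hBt : B t⁻¹ (-(A 1 a)) = a' := hAinj t ht (by rw [hrel t ht, neg_neg, he])
      rw [hhdef, ← act_act, h2, hnL t ht, hBt]
    have hk := fr.rel_torus t ht u
    rw [← hwdef, ← hn₁, ← hhdef] at hk
    refine AddMonoidHom.ext fun b => ?_
    show C (t * t * u) b = C t (C u (C t b))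
    obtain ⟨a, ha⟩ : ∃ a, a = a1.symm (C t b) := ⟨_, rfl⟩
    obtain ⟨a', ha'⟩ : ∃ a', a' = a1.symm b := ⟨_, rfl⟩
    have he : A t a' = A 1 a := by
      rw [ha, ha']; exact (hC t b).symm.trans (a1.apply_symm_apply _).symm
    have hcalc : γ (hh * fr.σ u) (γ w (a : E)) =
        γ (hh * fr.σ u * hh⁻¹ * (fr.σ (t * t * u))⁻¹) (γ (fr.σ (t * t * u)) (γ hh (γ w (a : E)))) := by
      rw [act_act, act_act, act_act, act_act]; congr 2; group
    rw [← act_act, hA, map_add, hhM a a' he, hhL, hA, map_add] at hcalc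
    obtain ⟨a'', ha''⟩ := hKw _ hk a'
    rw [ha''] at hcalc
    -- the correcting element fixes `L` pointwise
    have hkL : ∀ c : L, γ (hh * fr.σ u * hh⁻¹ * (fr.σ (t * t * u))⁻¹) (c : E) = c := by
      intro c
      have h1 : γ (fr.σ (t * t * u))⁻¹ (c : E) = c := h.fixL _ (inv_mem (fr.σ_mem _)) _ c.2
      have hsur : Function.Surjective (C t) := by
        have hinj : Function.Injective (C t) := fun x y e => a1.symm.injective (hAinj t ht e)
        exact Finite.injective_iff_surjective.mp hinj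
      obtain ⟨d, hd⟩ := hsur c
      rw [← act_act, h1, ← act_act, ← hd, ← hhL d, act_inv, ← act_act, hσfix]
    rw [hkL] at hcalc
    have h4 := (huniq (C t (A u a)) a' (A (t * t * u) a') a'' (by rw [add_comm, hcalc, add_comm])).1
    rw [hC (t * t * u) b, ← ha', ← h4, hC u, ← ha]
  have hmul : ∀ x y : F, ∀ a : L, C (x * y) a = C x (C y a) := fun x y a => by
    rw [jordan_mul C hC1 hj x y]; rfl
  -- coordinates
  obtain ⟨e₀, he₀⟩ : ∃ e₀ : L, e₀ ≠ 0 := by
    by_contra hc
    push Not at hc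
    haveI : Subsingleton L := ⟨fun x y => (hc x).trans (hc y).symm⟩
    rw [Nat.card_unique] at hcard
    exact absurd hcard.symm Fintype.one_lt_card.ne'
  have hCadd : ∀ s t a, C (s + t) a = C s a + C t a := fun s t a => by rw [map_add]; rfl
  have hC0 : ∀ a, C 0 a = 0 := fun a => by rw [map_zero]; rfl
  have hCneg : ∀ s a, C (-s) a = -C s a := fun s a => by rw [map_neg]; rfl
  have hcinj : ∀ x, C x e₀ = 0 → x = 0 := by
    intro x hx
    by_contra hx0
    refine he₀ ?_
    have h2 := hmul x⁻¹ x e₀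
    rw [inv_mul_cancel₀ hx0, hC1, hx, map_zero] at h2
    exact h2
  let Φ0 : (Fin 2 → F) →+ E := AddMonoidHom.mk'
    (fun x => (C (x 0) e₀ : E) + γ w (a1.symm (C (x 1) e₀) : E)) (fun x y => by
      simp only [Pi.add_apply, hCadd]; simp only [map_add, AddSubgroup.coe_add]; abel)
  have hΦ0 : ∀ x, Φ0 x = (C (x 0) e₀ : E) + γ w (a1.symm (C (x 1) e₀) : E) := fun x => rfl
  have hΦinj : Function.Injective Φ0 := by
    rw [injective_iff_map_eq_zero]
    intro x hx
    obtain ⟨h0, h1⟩ := huniq (C (x 0) e₀) (a1.symm (C (x 1) e₀)) 0 0 (by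
      rw [← hΦ0, hx, ZeroMemClass.coe_zero, map_zero, add_zero])
    funext i
    fin_cases i
    · exact hcinj _ h0
    · exact hcinj _ (a1.symm.injective (h1.trans (map_zero _).symm))
  let Φ : (Fin 2 → F) ≃+ E := AddEquiv.ofBijective Φ0 (hΦinj.bijective_of_nat_card_le (by
    rw [hcardE, Nat.card_fun, Nat.card_fin, Nat.card_eq_fintype_card, sq]))
  have hup : ∀ t x, γ (fr.σ t) (Φ x) = Φ ((up t : Matrix (Fin 2) (Fin 2) F).mulVec x) := by
    intro t x
    show γ (fr.σ t) (Φ0 x) = Φ0 _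
    have e : A t (a1.symm (C (x 1) e₀)) = C (t * x 1) e₀ := (hmul t (x 1) e₀).symm
    rw [hΦ0, hΦ0, map_add, hσfix, hA, e, Nat2.mulVec_up]
    simp only [Matrix.cons_val_zero, Matrix.cons_val_one, hCadd]
    simp only [map_add, AddSubgroup.coe_add]
    abel
  have hlow : ∀ t x, γ (w * fr.σ t * w⁻¹) (Φ x) = Φ ((low (-t) : Matrix (Fin 2) (Fin 2) F).mulVec x) := by
    intro t x
    show γ (w * fr.σ t * w⁻¹) (Φ0 x) = Φ0 _
    have hBt : ∀ b : L, B t b = -a1.symm (C t b) := by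
      intro b
      rcases eq_or_ne t 0 with rfl | ht
      · refine (huniq b (B 0 b) b _ ?_).2
        rw [← hB, h.core _ (hQn.conj_mem _ fr.σ_zero w), hC0, map_zero, neg_zero,
          ZeroMemClass.coe_zero, map_zero, add_zero]
      · refine a1.injective ?_
        rw [map_neg, a1.apply_symm_apply]
        have h2 := hrel t⁻¹ (inv_ne_zero ht) b
        rw [inv_inv] at h2
        have h3 : C t⁻¹ (a1 (B t b)) = -b := by rw [hC, a1.symm_apply_apply, h2]
        have h4 := congrArg (C t) h3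
        rwa [← hmul, mul_inv_cancel₀ ht, hC1, map_neg] at h4
    rw [hΦ0, hΦ0, map_add, hrfix, hB, hBt]
    have e : (low (-t) : Matrix (Fin 2) (Fin 2) F).mulVec x = ![x 0, -t * x 0 + x 1] := by
      ext i; fin_cases i <;> simp [low, Matrix.mulVec, dotProduct, Fin.sum_univ_two]
    rw [e]
    simp only [Matrix.cons_val_zero, Matrix.cons_val_one, neg_mul, hCadd, hCneg]
    simp only [map_add, map_neg, AddSubgroup.coe_add, AddSubgroup.coe_neg, ← hmul]
    abel
  -- every element acts as a matrix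
  have hex : ∀ g, ∃ m : Matrix.SpecialLinearGroup (Fin 2) F, ∀ x, γ g (Φ x) =
      Φ ((m : Matrix (Fin 2) (Fin 2) F).mulVec x) := by
    let H : Subgroup G :=
      { carrier := {g | ∃ m : Matrix.SpecialLinearGroup (Fin 2) F, ∀ x, γ g (Φ x) =
            Φ ((m : Matrix (Fin 2) (Fin 2) F).mulVec x)}
        one_mem' := ⟨1, fun x => by simp⟩
        mul_mem' := by
          rintro a b ⟨m, hm⟩ ⟨k, hk⟩
          exact ⟨m * k, fun x => by rw [← act_act, hk, hm, Matrix.SpecialLinearGroup.coe_mul, Matrix.mulVec_mulVec]⟩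
        inv_mem' := by
          rintro a ⟨m, hm⟩
          refine ⟨m⁻¹, fun x => ?_⟩
          conv_lhs => rw [show x = (m : Matrix (Fin 2) (Fin 2) F).mulVec
            ((m⁻¹ : Matrix.SpecialLinearGroup (Fin 2) F).1.mulVec x) by
              rw [Matrix.mulVec_mulVec, ← Matrix.SpecialLinearGroup.coe_mul, mul_inv_cancel,
                Matrix.SpecialLinearGroup.coe_one, Matrix.one_mulVec]]
          rw [← hm, act_inv] }
    intro g
    refine (fr.eq_top_of_roots H (fun t => ⟨_, hup t⟩) (fun t => ⟨_, hwdef ▸ hlow t⟩) fun y hy => ⟨1, fun x => ?_⟩).ge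
      (Subgroup.mem_top g)
    simp [h.core y hy]
  choose m hm using hex
  have hm' : ∀ g (k : Matrix.SpecialLinearGroup (Fin 2) F),
      (∀ x, γ g (Φ x) = Φ ((k : Matrix (Fin 2) (Fin 2) F).mulVec x)) → m g = k := by
    intro g k hk
    refine Subtype.ext (Matrix.mulVec_injective (funext fun x => Φ.injective ((hm g x).symm.trans (hk x))))
  let ρ : G →* Matrix.SpecialLinearGroup (Fin 2) F :=
    { toFun := m
      map_one' := hm' 1 1 fun x => by simp
      map_mul' := fun a b => hm' _ _ fun x => by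
        rw [← act_act, hm b, hm a, Matrix.SpecialLinearGroup.coe_mul, Matrix.mulVec_mulVec] }
  refine ⟨ρ, ⟨fun t => hm' _ _ (hup t), fun t => hwdef ▸ hm' _ _ (hlow t), fun y hy => hm' _ _ fun x => by
    simp [h.core y hy]⟩, fun g => ⟨fun hg => hm' _ _ fun x => by simp [hg], fun hg v => ?_⟩, Φ, hm⟩
  rw [← Φ.apply_symm_apply v, hm g, show m g = 1 from hg]
  simp

end IsPlane

end Plane

end Cfsg.Agent.Invol.PushUp
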