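import Mathlib
import Cfsg.Agent.Lib.Invol.PushUp.Plane

/-!
# Natural sections of the group
-/

set_option autoImplicit false
set_option linter.style.haveILetI false
set_option linter.unusedSectionVars false

namespace Cfsg.Agent.Invol.PushUp

open Matrix
open Cfsg.Agent.Grp.SL2 (up low up_zero up_mul low_zero)
open scoped commutatorElement

universe u

variable {G : Type u} [Group G] [Finite G] {p : ℕ} [hp : Fact p.Prime]
variable {S : Sylow p G} {F : Type} [Field F] [Fintype F]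

/-- The data of a section `U/W` with the intermediate subgroup `L` fixed by `S`. -/
structure IsLineSection (fr : Frame S F) (U L W : Subgroup G) : Prop where
  normalU : U.Normal
  normalW : W.Normal
  WL : W ≤ L
  LU : L ≤ U
  comm : ∀ x ∈ U, ∀ y ∈ U, ⁅x, y⁆ ∈ W
  core : ∀ x ∈ Cfsg.pCore p G, ∀ u ∈ U, ⁅x, u⁆ ∈ W
  fixL : ∀ s ∈ (S : Subgroup G), ∀ l ∈ L, ⁅s, l⁆ ∈ W
  move : ∀ s ∈ (S : Subgroup G), ∀ u ∈ U, ⁅s, u⁆ ∈ L
  noFix : ∀ l ∈ L, (∀ g : G, ⁅g, l⁆ ∈ W) → l ∈ W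
  card_L : Fintype.card F * Nat.card W ≤ Nat.card L
  card_U : Nat.card U ≤ Fintype.card F * Nat.card L

theorem card_eq_map_mul (W X : Subgroup G) [W.Normal] (h : W ≤ X) :
    Nat.card X = Nat.card (X.map (QuotientGroup.mk' W)) * Nat.card W := by
  have h1 := Subgroup.card_eq_card_quotient_mul_card_subgroup (W.subgroupOf X)
  rw [Nat.card_congr (Subgroup.subgroupOfEquivOfLe h).toEquiv] at h1
  rw [h1]
  congr 1
  have hk : ((QuotientGroup.mk' W).domRestrict X).ker = W.subgroupOf X := by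
    ext x; simp [Subgroup.mem_subgroupOf]
  rw [← Subgroup.index_eq_card, ← hk, Subgroup.index_ker, MonoidHom.domRestrict_range]

/-- The kernel on a section. -/
theorem mk_commutator (W : Subgroup G) [W.Normal] (g u : G) :
    QuotientGroup.mk' W g * QuotientGroup.mk' W u * (QuotientGroup.mk' W g)⁻¹ = QuotientGroup.mk' W u ↔ ⁅g, u⁆ ∈ W := by
  rw [← QuotientGroup.eq_one_iff (N := W), mul_inv_eq_iff_eq_mul, ← QuotientGroup.mk'_apply, map_commutatorElement,
    commutatorElement_eq_one_iff_mul_comm]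

/-- The conclusion for a line section. -/
structure IsNatSection (fr : Frame S F) (U L W : Subgroup G) [W.Normal]
    (ρ : G →* Matrix.SpecialLinearGroup (Fin 2) F) : Prop where
  std : fr.Std ρ
  ker : ∀ g : G, (∀ u ∈ U, ⁅g, u⁆ ∈ W) ↔ ρ g = 1
  natural : Cfsg.IsNaturalSL2Module F (U.map (QuotientGroup.mk' W)) (⊤ : Subgroup (G ⧸ W))
  card_L : Nat.card L = Fintype.card F * Nat.card W
  card_U : Nat.card U = Fintype.card F * Nat.card L
  fix : ∀ a ∈ (S : Subgroup G), a ∉ Cfsg.pCore p G → ∀ u ∈ U, ⁅a, u⁆ ∈ W → u ∈ L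
  moved : ∀ u ∈ U, ∀ x : G, x ∉ fr.M → u ∈ L → x * u * x⁻¹ ∈ L → u ∈ W
  stable : ∀ m ∈ fr.M, ∀ l ∈ L, m * l * m⁻¹ ∈ L
  irr : ∀ N : Subgroup G, N.Normal → W ≤ N → N ≤ U → N = W ∨ N = U
  coords : ∃ ψ : G → (Fin 2 → F), (∀ u ∈ U, ∀ v ∈ U, ψ (u * v) = ψ u + ψ v) ∧ (∀ u ∈ U, ψ u = 0 ↔ u ∈ W) ∧
    ∀ g, ∀ u ∈ U, ψ (g * u * g⁻¹) = (ρ g : Matrix (Fin 2) (Fin 2) F).mulVec (ψ u)

theorem IsLineSection.natural_section (fr : Frame S F) {U L W : Subgroup G} (h : IsLineSection fr U L W)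
    [W.Normal] : ∃ ρ, IsNatSection fr U L W ρ := by
  classical
  haveI := h.normalU
  haveI hUn : (U.map (QuotientGroup.mk' W)).Normal := (inferInstance : U.Normal).map _ (QuotientGroup.mk'_surjective W)
  obtain ⟨π, hπ⟩ : ∃ π, π = QuotientGroup.mk' W := ⟨_, rfl⟩
  let V : Subgroup (G ⧸ W) := U.map (QuotientGroup.mk' W)
  letI : CommGroup V :=
    { (inferInstance : Group V) with
      mul_comm := by
        rintro ⟨_, x, hx, rfl⟩ ⟨_, y, hy, rfl⟩
        refine Subtype.ext ?_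
        show QuotientGroup.mk' W x * QuotientGroup.mk' W y = QuotientGroup.mk' W y * QuotientGroup.mk' W x
        rw [← commutatorElement_eq_one_iff_mul_comm, ← map_commutatorElement, QuotientGroup.mk'_apply,
          QuotientGroup.eq_one_iff]
        exact h.comm x hx y hy }
  haveI : V.Normal := hUn
  let a : MulAut V →* AddMonoid.End (Additive V) :=
    { toFun := fun f => MonoidHom.toAdditive f.toMonoidHom
      map_one' := rfl
      map_mul' := fun f g => rfl }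
  let γ : G →* AddMonoid.End (Additive V) := (a.comp MulAut.conjNormal).comp (QuotientGroup.mk' W)
  have hγ : ∀ g v, ((Additive.toMul (γ g v) : V) : G ⧸ W) =
      QuotientGroup.mk' W g * ((Additive.toMul v : V) : G ⧸ W) * (QuotientGroup.mk' W g)⁻¹ := fun g v => rfl
  let emb : U →* Multiplicative (Additive V) :=
    { toFun := fun u => Multiplicative.ofAdd (Additive.ofMul ⟨QuotientGroup.mk' W u, u, u.2, rfl⟩)
      map_one' := rfl
      map_mul' := fun x y => rfl }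
  let el : U → Additive V := fun u => Additive.ofMul ⟨QuotientGroup.mk' W (u : G), u, u.2, rfl⟩
  have hsurj : ∀ v, ∃ u, el u = v := by
    intro v
    obtain ⟨u, hu, he⟩ := (Additive.toMul v).2
    exact ⟨⟨u, hu⟩, Additive.toMul.injective (Subtype.ext he)⟩
  have hact : ∀ g (u : U), γ g (el u) = el ⟨g * u * g⁻¹, (inferInstance : U.Normal).conj_mem _ u.2 g⟩ := fun g u =>
    Additive.toMul.injective (Subtype.ext (by rw [hγ]; rfl))
  have heq : ∀ g (u : U), γ g (el u) = el u ↔ ⁅g, (u : G)⁆ ∈ W := fun g u => by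
    rw [← mk_commutator, ← Additive.toMul.injective.eq_iff, Subtype.ext_iff, hγ]; rfl
  have h0 : ∀ u : U, el u = 0 ↔ (u : G) ∈ W := fun u => by
    rw [← Additive.toMul.injective.eq_iff, Subtype.ext_iff]
    exact QuotientGroup.eq_one_iff (N := W) (u : G)
  let Lb : AddSubgroup (Additive V) :=
    Subgroup.toAddSubgroup ((L.map (QuotientGroup.mk' W)).comap V.subtype)
  have hmemL : ∀ u : U, el u ∈ Lb ↔ (u : G) ∈ L := by
    intro u
    show QuotientGroup.mk' W (u : G) ∈ L.map (QuotientGroup.mk' W) ↔ _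
    rw [← Subgroup.mem_comap, Subgroup.comap_map_eq, QuotientGroup.ker_mk', sup_eq_left.mpr h.WL]
  have hcardLb : Nat.card Lb = Nat.card (L.map (QuotientGroup.mk' W)) :=
    Nat.card_congr
      { toFun := fun x => ⟨((Additive.toMul x.1 : V) : G ⧸ W), x.2⟩
        invFun := fun y => ⟨Additive.ofMul ⟨y.1, Subgroup.map_mono h.LU y.2⟩, y.2⟩
        left_inv := fun x => rfl
        right_inv := fun y => rfl }
  have hcardV : Nat.card (Additive V) = Nat.card (U.map (QuotientGroup.mk' W)) := rfl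
  have hcU := card_eq_map_mul W U (h.WL.trans h.LU)
  have hcL := card_eq_map_mul W L h.WL
  have hP : IsPlane fr γ Lb := by
    refine ⟨fun x hx v => ?_, fun s hs v hv => ?_, fun s hs v => ?_, fun v hv hall => ?_, ?_, ?_⟩
    · obtain ⟨u, rfl⟩ := hsurj v; exact (heq x u).mpr (h.core x hx u u.2)
    · obtain ⟨u, rfl⟩ := hsurj v; exact (heq s u).mpr (h.fixL s hs u ((hmemL u).mp hv))
    · obtain ⟨u, rfl⟩ := hsurj v
      have e : γ s (el u) - el u = el ⟨⁅s, (u : G)⁆, h.LU (h.move s hs u u.2)⟩ := by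
        rw [hact]
        exact Additive.toMul.injective (Subtype.ext (by simp [el, commutatorElement_def, div_eq_mul_inv]))
      rw [e]
      exact (hmemL _).mpr (h.move s hs u u.2)
    · obtain ⟨u, rfl⟩ := hsurj v
      exact (h0 u).mpr (h.noFix u ((hmemL u).mp hv) fun g => (heq g u).mp (hall g))
    · rw [hcardLb]
      refine Nat.le_of_mul_le_mul_right ?_ (Nat.card_pos (α := W))
      rw [← hcL]; exact h.card_L
    · rw [hcardLb, hcardV]
      refine Nat.le_of_mul_le_mul_right ?_ (Nat.card_pos (α := W))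
      rw [← hcU, mul_assoc, ← hcL]; exact h.card_U
  obtain ⟨ρ, hρ, hker, Φ, hΦ⟩ := hP.natural
  have hkerW : ∀ g, (∀ u ∈ U, ⁅g, u⁆ ∈ W) ↔ ρ g = 1 := fun g => by
    rw [← hker]
    refine ⟨fun hg v => ?_, fun hg u hu => (heq g ⟨u, hu⟩).mp (hg _)⟩
    obtain ⟨u, rfl⟩ := hsurj v
    exact (heq g u).mpr (hg u u.2)
  obtain ⟨hc1, hc2, -⟩ := hP.cover
  refine ⟨ρ, hρ, hkerW, ?_, ?_, ?_, ?_, ?_, ?_, ?_, ?_⟩
  · have hWker : ∀ g ∈ W, ρ g = 1 := fun g hg => (hkerW g).mp fun u hu => by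
      rw [commutatorElement_def, show g * u * g⁻¹ * u⁻¹ = g * (u * g⁻¹ * u⁻¹) by group]
      exact mul_mem hg ((inferInstance : W.Normal).conj_mem _ (inv_mem hg) u)
    refine ⟨by rw [Subgroup.normalizer_eq_top],
      (QuotientGroup.lift W ρ (fun g hg => hWker g hg)).comp (⊤ : Subgroup (G ⧸ W)).subtype, Φ.symm, ?_, ?_, ?_⟩
    · intro m
      obtain ⟨g, hg⟩ := hρ.surjective m
      exact ⟨⟨QuotientGroup.mk' W g, Subgroup.mem_top _⟩, hg⟩
    · ext ⟨y, hy⟩
      obtain ⟨g, rfl⟩ := QuotientGroup.mk'_surjective W y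
      rw [MonoidHom.mem_ker, Subgroup.mem_subgroupOf, Subgroup.mem_centralizer_iff]
      show ρ g = 1 ↔ _
      rw [← hkerW]
      constructor
      · rintro hg _ ⟨u, hu, rfl⟩
        exact (mul_inv_eq_iff_eq_mul.mp ((mk_commutator W g u).mpr (hg u hu))).symm
      · exact fun hg u hu => (mk_commutator W g u).mp (mul_inv_eq_iff_eq_mul.mpr (hg _ ⟨u, hu, rfl⟩).symm)
    · rintro ⟨y, hy⟩ v
      obtain ⟨g, rfl⟩ := QuotientGroup.mk'_surjective W y
      refine ⟨Additive.toMul (γ g (Additive.ofMul v)), hγ g _, ?_⟩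
      show Φ.symm (γ g (Additive.ofMul v)) = (ρ g : Matrix (Fin 2) (Fin 2) F).mulVec (Φ.symm (Additive.ofMul v))
      rw [AddEquiv.symm_apply_eq, ← hΦ, AddEquiv.apply_symm_apply]
  · rw [hcL, ← hcardLb, hc1]
  · rw [hcU, ← hcardV, hc2, hcL, ← hcardLb, hc1, mul_assoc]
  · intro x hx hxQ u hu hxu
    exact (hmemL ⟨u, hu⟩).mp (hP.fix_eq hx hxQ ((heq x ⟨u, hu⟩).mpr hxu))
  · intro u hu x hx hul hxl
    refine (h0 ⟨u, hu⟩).mp (hP.disjoint hx ((hmemL ⟨u, hu⟩).mpr hul) ?_)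
    rw [hact]
    exact (hmemL _).mpr hxl
  · intro m hm l hl
    have h2 := hP.stableL hm ((hmemL ⟨l, h.LU hl⟩).mpr hl)
    rw [hact] at h2
    exact (hmemL _).mp h2
  · intro N hN hWN hNU
    refine or_iff_not_imp_left.mpr fun hne => le_antisymm hNU ?_
    obtain ⟨u, huN, huW⟩ : ∃ u ∈ N, u ∉ W := by
      by_contra hc
      push Not at hc
      exact hne (le_antisymm hc hWN)
    let Nb : AddSubgroup (Additive V) :=
      Subgroup.toAddSubgroup ((N.map (QuotientGroup.mk' W)).comap V.subtype)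
    have hmemN : ∀ x : U, el x ∈ Nb ↔ (x : G) ∈ N := by
      intro x
      show QuotientGroup.mk' W (x : G) ∈ N.map (QuotientGroup.mk' W) ↔ _
      rw [← Subgroup.mem_comap, Subgroup.comap_map_eq, QuotientGroup.ker_mk', sup_eq_left.mpr hWN]
    have hinv : ∀ g v, v ∈ Nb → γ g v ∈ Nb := by
      intro g v hv
      obtain ⟨x, rfl⟩ := hsurj v
      rw [hact]
      exact (hmemN _).mpr (hN.conj_mem _ ((hmemN x).mp hv) g)
    have hx : ∀ t x, x ∈ Nb.comap Φ.toAddMonoidHom → ((up t : Matrix.SpecialLinearGroup (Fin 2) F) : Matrix (Fin 2) (Fin 2) F).mulVec x - x ∈ Nb.comap Φ.toAddMonoidHom ∧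
        ((low t : Matrix.SpecialLinearGroup (Fin 2) F) : Matrix (Fin 2) (Fin 2) F).mulVec x - x ∈ Nb.comap Φ.toAddMonoidHom := by
      intro t x hx
      obtain ⟨g₁, hg₁⟩ := hρ.surjective (up t)
      obtain ⟨g₂, hg₂⟩ := hρ.surjective (low t)
      simp only [AddSubgroup.mem_comap, AddEquiv.coe_toAddMonoidHom, map_sub] at hx ⊢
      rw [← hg₁, ← hg₂, ← hΦ, ← hΦ]
      exact ⟨sub_mem (hinv _ _ hx) hx, sub_mem (hinv _ _ hx) hx⟩
    obtain ⟨x, hxN, hx0⟩ : ∃ x, x ∈ Nb.comap Φ.toAddMonoidHom ∧ x ≠ 0 := by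
      refine ⟨Φ.symm (el ⟨u, hNU huN⟩), ?_, fun he => huW ((h0 ⟨u, hNU huN⟩).mp ?_)⟩
      · simpa using (hmemN ⟨u, hNU huN⟩).mpr huN
      · simpa using congrArg Φ he
    have hupE : ∀ t (y : Fin 2 → F), ((up t : Matrix.SpecialLinearGroup (Fin 2) F) : Matrix (Fin 2) (Fin 2) F).mulVec y - y = ![t * y 1, 0] := fun t y => by
      ext i; fin_cases i <;> simp [up, Matrix.mulVec, dotProduct, Fin.sum_univ_two]
    have hloE : ∀ t (y : Fin 2 → F), ((low t : Matrix.SpecialLinearGroup (Fin 2) F) : Matrix (Fin 2) (Fin 2) F).mulVec y - y = ![0, t * y 0] := fun t y => by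
      ext i; fin_cases i <;> simp [low, Matrix.mulVec, dotProduct, Fin.sum_univ_two]
    have h1N : ∃ c : F, c ≠ 0 ∧ ![c, 0] ∈ Nb.comap Φ.toAddMonoidHom := by
      by_cases h1 : x 1 = 0
      · refine ⟨x 0, fun he => hx0 (by ext i; fin_cases i <;> simp [he, h1]), ?_⟩
        rwa [show ![x 0, 0] = x by ext i; fin_cases i <;> simp [h1]]
      · exact ⟨x 1, h1, by have h3 := (hx 1 x hxN).1; rwa [hupE, one_mul] at h3⟩
    obtain ⟨c, hc0, hc⟩ := h1N
    have hlo : ∀ s, ![0, s] ∈ Nb.comap Φ.toAddMonoidHom := fun s => by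
      have h3 := (hx (s / c) _ hc).2
      rwa [hloE, Matrix.cons_val_zero, div_mul_cancel₀ _ hc0] at h3
    have hhi : ∀ s, ![s, 0] ∈ Nb.comap Φ.toAddMonoidHom := fun s => by
      have h3 := (hx s _ (hlo 1)).1
      rwa [hupE, Matrix.cons_val_one, Matrix.cons_val_zero, mul_one] at h3
    intro y hy
    refine (hmemN ⟨y, hy⟩).mp ?_
    obtain ⟨z, hz⟩ := Φ.surjective (el ⟨y, hy⟩)
    have h4 := add_mem (hhi (z 0)) (hlo (z 1))
    rw [show ![z 0, 0] + ![0, z 1] = z by ext i; fin_cases i <;> simp] at h4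
    rw [← hz]; exact h4
  · refine ⟨fun u => if hu : u ∈ U then Φ.symm (el ⟨u, hu⟩) else 0, fun u hu v hv => ?_, fun u hu => ?_, fun g u hu => ?_⟩
    · simp only []; rw [dif_pos (mul_mem hu hv), dif_pos hu, dif_pos hv, ← map_add]
      congr 1
    · simp only []; rw [dif_pos hu, AddEquiv.map_eq_zero_iff]
      exact h0 ⟨u, hu⟩
    · simp only []; rw [dif_pos (h.normalU.conj_mem u hu g), dif_pos hu, AddEquiv.symm_apply_eq, ← hΦ, AddEquiv.apply_symm_apply, hact]

end Cfsg.Agent.Invol.PushUp
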