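import Mathlib
import Cfsg.Agent.Lib.Invol.PushUp.Section
import Cfsg.Agent.Lib.Invol.PushUp.Lattice
import Cfsg.Agent.Lib.Invol.PushUniqueMax

/-!
# Pushing up: the module generated by the centre of `S` is natural
-/

set_option autoImplicit false
set_option linter.style.haveILetI false
set_option linter.unusedSectionVars false

namespace Cfsg.Agent.Invol.PushUp

open Subgroup
open scoped commutatorElement

universe u

variable {G : Type u} [Group G] [Finite G] {p : ℕ} [hp : Fact p.Prime]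

/-- The elements of order dividing `p` in the centre of `S`. -/
def Zs (S : Sylow p G) : Subgroup G where
  carrier := {x | x ∈ (S : Subgroup G) ∧ x ∈ centralizer ((S : Subgroup G) : Set G) ∧ x ^ p = 1}
  one_mem' := ⟨one_mem _, one_mem _, one_pow p⟩
  mul_mem' := by
    rintro a b ⟨ha, ha', hap⟩ ⟨hb, hb', hbp⟩
    refine ⟨mul_mem ha hb, mul_mem ha' hb', ?_⟩
    rw [Commute.mul_pow (mem_centralizer_iff.mp hb' a ha), hap, hbp, one_mul]
  inv_mem' := by
    rintro a ⟨ha, ha', hap⟩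
    exact ⟨inv_mem ha, inv_mem ha', by rw [inv_pow, hap, inv_one]⟩

theorem mem_Zs {S : Sylow p G} {x : G} :
    x ∈ Zs S ↔ x ∈ (S : Subgroup G) ∧ x ∈ centralizer ((S : Subgroup G) : Set G) ∧ x ^ p = 1 := Iff.rfl

/-- The module generated by the conjugates of `Zs S`. -/
def Vz (S : Sylow p G) : Subgroup G := normalClosure (Zs S : Set G)

/-- Its fixed points. -/
def Cz (S : Sylow p G) : Subgroup G := Vz S ⊓ center G

instance instNormalCz (S : Sylow p G) : (Cz S).Normal := PushUnique.normal_of_le_center inf_le_right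

/-- No nontrivial characteristic subgroup of `S` is normal. -/
def NoChar (S : Sylow p G) : Prop :=
  ∀ T : Subgroup ↥(S : Subgroup G), T ≠ ⊥ → T.Characteristic → ¬ (T.map (S : Subgroup G).subtype).Normal

/-- An elementary abelian subgroup inside `S` of largest order. -/
def IsMaxEl (S : Sylow p G) (A : Subgroup ↥(S : Subgroup G)) : Prop :=
  ((∀ a ∈ A, ∀ b ∈ A, a * b = b * a) ∧ ∀ a ∈ A, a ^ p = 1) ∧
    ∀ B : Subgroup ↥(S : Subgroup G), ((∀ a ∈ B, ∀ b ∈ B, a * b = b * a) ∧ ∀ a ∈ B, a ^ p = 1) →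
      Nat.card B ≤ Nat.card A

/-- A normal subgroup meeting `S` in the core has no other `p`-elements. -/
theorem pElement_mem_core (S : Sylow p G) {H : Subgroup G} [hH : H.Normal]
    (hHS : (S : Subgroup G) ⊓ H ≤ Cfsg.pCore p G) {h : G} (hh : h ∈ H) {k : ℕ} (hk : h ^ p ^ k = 1) :
    h ∈ Cfsg.pCore p G := by
  haveI : (Cfsg.pCore p G).Normal := Grp.pCore_isNormal
  have hp' : IsPGroup p (zpowers h) := by
    rintro ⟨x, hx⟩
    obtain ⟨i, rfl⟩ := mem_zpowers_iff.mp hx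
    exact ⟨k, Subtype.ext (by
      show (h ^ i) ^ (p ^ k) = 1
      rw [← zpow_natCast (h ^ i), ← _root_.zpow_mul, mul_comm, _root_.zpow_mul, zpow_natCast, hk, one_zpow])⟩
  obtain ⟨P, hP⟩ := hp'.exists_le_sylow
  obtain ⟨g, hg⟩ := MulAction.exists_smul_eq G P S
  have h1 : g * h * g⁻¹ ∈ (S : Subgroup G) := hg ▸ ⟨h, hP (mem_zpowers h), rfl⟩
  have h2 : g * h * g⁻¹ ∈ Cfsg.pCore p G := hHS ⟨h1, hH.conj_mem h hh g⟩
  have h3 := (inferInstance : (Cfsg.pCore p G).Normal).conj_mem _ h2 g⁻¹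
  simpa [mul_assoc] using h3

/-- The facts about `V = Vz S`. -/
structure IsVertex {S : Sylow p G} {F : Type} [Field F] [Fintype F] (fr : Frame S F) : Prop where
  le_core : Vz S ≤ Cfsg.pCore p G
  cent_core : ∀ x ∈ Cfsg.pCore p G, ∀ v ∈ Vz S, x * v = v * x
  comm : ∀ v ∈ Vz S, ∀ w ∈ Vz S, v * w = w * v
  exp : ∀ v ∈ Vz S, v ^ p = 1
  Z_le : Zs S ≤ Vz S
  C0_le : Cz S ≤ Zs S
  S_inf_cent : (S : Subgroup G) ⊓ centralizer (Vz S : Set G) = Cfsg.pCore p G
  nat : ∃ ρ, IsNatSection fr (Vz S) (Zs S) (Cz S) ρ ∧ ∀ g, ρ g = 1 ↔ g ∈ centralizer (Vz S : Set G)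
  fix : ∀ a ∈ (S : Subgroup G), a ∉ Cfsg.pCore p G → ∀ v ∈ Vz S, a * v = v * a → v ∈ Zs S
  move : ∀ s ∈ (S : Subgroup G), ∀ v ∈ Vz S, ⁅s, v⁆ ∈ Zs S
  Z_not_central : ¬ Zs S ≤ center G

theorem exists_vertex {S : Sylow p G} {F : Type} [Field F] [Fintype F] (fr : Frame S F) (hd : NoChar S) :
    IsVertex fr := by
  classical
  obtain ⟨Q, hQdef⟩ : ∃ Q, Q = Cfsg.pCore p G := ⟨_, rfl⟩
  haveI hQn : Q.Normal := hQdef ▸ Grp.pCore_isNormal
  have hQS : Q ≤ (S : Subgroup G) := hQdef ▸ Grp.pCore_le_sylow S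
  have hE₁ : centralizer (Q : Set G) ≤ Q := hQdef ▸ fr.hcore
  have hZS : Zs S ≤ (S : Subgroup G) := fun x hx => hx.1
  -- the central module
  obtain ⟨V, hVdef⟩ : ∃ V, V = Vz S := ⟨_, rfl⟩
  haveI hVn : V.Normal := hVdef ▸ normalClosure_normal
  have hZV : Zs S ≤ V := hVdef ▸ le_normalClosure
  let P : Subgroup G :=
    { carrier := {x | x ∈ Q ∧ x ∈ centralizer (Q : Set G) ∧ x ^ p = 1}
      one_mem' := ⟨one_mem _, one_mem _, one_pow p⟩
      mul_mem' := by
        rintro a b ⟨ha, ha', hap⟩ ⟨hb, hb', hbp⟩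
        refine ⟨mul_mem ha hb, mul_mem ha' hb', ?_⟩
        rw [Commute.mul_pow (mem_centralizer_iff.mp hb' a ha), hap, hbp, one_mul]
      inv_mem' := by
        rintro a ⟨ha, ha', hap⟩
        exact ⟨inv_mem ha, inv_mem ha', by rw [inv_pow, hap, inv_one]⟩ }
  have hVP : V ≤ P := by
    haveI : P.Normal := ⟨fun x hx g => ⟨hQn.conj_mem x hx.1 g,
      (PushUnique.centralizer_normal' Q).conj_mem x hx.2.1 g, by rw [conj_pow, hx.2.2, mul_one, mul_inv_cancel]⟩⟩
    rw [hVdef]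
    exact normalClosure_le_normal fun z hz =>
      ⟨hE₁ (centralizer_le hQS hz.2.1), centralizer_le hQS hz.2.1, hz.2.2⟩
  have hVQ : V ≤ Q := fun v hv => (hVP hv).1
  have hcQ : ∀ x ∈ Q, ∀ v ∈ V, x * v = v * x := fun x hx v hv => mem_centralizer_iff.mp (hVP hv).2.1 x hx
  have hVc : ∀ v ∈ V, ∀ w ∈ V, v * w = w * v := fun v hv w hw => hcQ v (hVQ hv) w hw
  have hVfix : ∀ v ∈ V, (∀ s ∈ (S : Subgroup G), s * v = v * s) → v ∈ Zs S := fun v hv h =>
    ⟨hQS (hVQ hv), mem_centralizer_iff.mpr h, (hVP hv).2.2⟩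
  -- the centre of `S` is not normal
  have hS1 : (S : Subgroup G) ≠ ⊥ := fun h => by
    have h1 := fr.σ_mem 1
    rw [h, mem_bot] at h1
    exact one_ne_zero (fr.σ_eq_zero 1 (by rw [h1]; exact one_mem _))
  have hsub : ((Zs S).subgroupOf (S : Subgroup G)).map (S : Subgroup G).subtype = Zs S := by
    rw [subgroupOf_map_subtype, inf_eq_left.mpr hZS]
  have hZn : ¬ (Zs S).Normal := by
    rw [← hsub]
    refine hd _ ?_ ?_
    · haveI : Nontrivial ↥(S : Subgroup G) := (nontrivial_iff_ne_bot _).mpr hS1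
      haveI := S.isPGroup'.center_nontrivial
      obtain ⟨k, hk⟩ := (S.isPGroup'.to_subgroup (center ↥(S : Subgroup G))).exists_card_eq
      have hk0 : k ≠ 0 := by
        rintro rfl
        rw [pow_zero, Nat.card_eq_one_iff_unique] at hk
        exact absurd hk.1 (not_subsingleton _)
      obtain ⟨z, hz⟩ := exists_prime_orderOf_dvd_card' p
        (hk.symm ▸ dvd_pow_self p hk0 : p ∣ Nat.card (center ↥(S : Subgroup G)))
      intro hbot
      have hzm : (z : ↥(S : Subgroup G)) ∈ (Zs S).subgroupOf (S : Subgroup G) := by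
        refine ⟨(z : ↥(S : Subgroup G)).2, mem_centralizer_iff.mpr fun s hs => ?_, ?_⟩
        · exact congrArg Subtype.val (Subgroup.mem_center_iff.mp z.2 ⟨s, hs⟩)
        · have h2 : z ^ p = 1 := orderOf_dvd_iff_pow_eq_one.mp hz.dvd
          exact congrArg (fun y : center ↥(S : Subgroup G) => ((y : ↥(S : Subgroup G)) : G)) h2
      rw [hbot, mem_bot, OneMemClass.coe_eq_one] at hzm
      rw [hzm, orderOf_one] at hz
      exact hp.out.one_lt.ne hz
    · refine characteristic_iff_le_comap.mpr fun φ x hx => ⟨(φ x).2, mem_centralizer_iff.mpr fun s hs => ?_, ?_⟩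
      · have h2 : φ.symm ⟨s, hs⟩ * x = x * φ.symm ⟨s, hs⟩ :=
          Subtype.ext (mem_centralizer_iff.mp hx.2.1 _ (φ.symm ⟨s, hs⟩).2)
        have h3 := congrArg φ h2
        simp only [map_mul, MulEquiv.apply_symm_apply] at h3
        exact congrArg Subtype.val h3
      · have h2 : x ^ p = 1 := Subtype.ext hx.2.2
        show ((φ x : ↥(S : Subgroup G)) : G) ^ p = 1
        rw [← SubgroupClass.coe_pow, ← map_pow, h2, map_one, OneMemClass.coe_one]
  have hZnc : ¬ Zs S ≤ center G := fun h => hZn (PushUnique.normal_of_le_center h)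
  -- the centraliser of `V`
  have hSC : (S : Subgroup G) ⊓ centralizer (V : Set G) = Q := by
    refine le_antisymm ?_ (le_inf hQS fun x hx => mem_centralizer_iff.mpr fun v hv => (hcQ x hx v hv).symm)
    haveI := PushUnique.centralizer_normal' V
    rcases PushUnique.sup_eq_top_or_normal S fr.unique (centralizer (V : Set G)) with htop | hn
    · exact absurd (fun z hz => PushUnique.mem_center_of htop (fun n hn => (mem_centralizer_iff.mp hn z (hZV hz)).symm)
        fun s hs => mem_centralizer_iff.mp (mem_Zs.mp hz).2.1 s hs) hZnc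
    · exact hQdef ▸ Grp.le_pCore hn (S.isPGroup'.to_le inf_le_left)
  have habS : ∀ a ∈ (S : Subgroup G), ∀ b ∈ (S : Subgroup G), ⁅a, b⁆ ∈ Q := by
    intro a ha b hb
    obtain ⟨t, ht⟩ := fr.σ_surj a ha
    obtain ⟨u, hu⟩ := fr.σ_surj b hb
    haveI : (Cfsg.pCore p G).Normal := Grp.pCore_isNormal
    rw [hQdef, ← QuotientGroup.eq_one_iff (N := Cfsg.pCore p G), ← QuotientGroup.mk'_apply, map_commutatorElement]
    obtain ⟨π, hπ⟩ : ∃ π, π = QuotientGroup.mk' (Cfsg.pCore p G) := ⟨_, rfl⟩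
    have hk : ∀ x y, x⁻¹ * y ∈ Cfsg.pCore p G → π x = π y := fun x y hxy => hπ ▸ QuotientGroup.eq.mpr hxy
    rw [← hπ, commutatorElement_eq_one_iff_mul_comm, ← hk _ _ ht, ← hk _ _ hu, ← map_mul, ← map_mul,
      ← hk _ _ (fr.σ_add t u), ← hk _ _ (fr.σ_add u t), add_comm]
  have hctx : OffCtx Q (S : Subgroup G) V := by
    refine ⟨hQS, hVn, hQn, habS, hVc, hcQ, fun M hMV hM => ?_⟩
    have hMS : M ≤ (S : Subgroup G) := (hMV.trans hVQ).trans hQS
    have hl : ∀ k, M ≤ (S : Subgroup G).lowerCentralSeries k := by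
      intro k
      induction k with
      | zero => exact hMS
      | succ k ih =>
        rw [Subgroup.lowerCentralSeries_succ]
        exact hM.trans (by rw [Subgroup.commutator_comm]; exact commutator_mono ih le_rfl)
    obtain ⟨k, hk⟩ := (Subgroup.isNilpotent_iff_lowerCentralSeries _).mp S.isPGroup'.isNilpotent
    exact le_bot_iff.mp (hk ▸ hl k)
  -- an elementary abelian subgroup outside the core
  obtain ⟨A, hA, hAQ⟩ : ∃ A : Subgroup ↥(S : Subgroup G), IsMaxEl S A ∧ ¬ A.map (S : Subgroup G).subtype ≤ Q := by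
    by_contra hc
    push Not at hc
    obtain ⟨J, hJ⟩ : ∃ J, J = closure {x : ↥(S : Subgroup G) | ∃ A, IsMaxEl S A ∧ x ∈ A} := ⟨_, rfl⟩
    have hin : ∀ A, IsMaxEl S A → A ≤ J := fun A hA x hx => hJ ▸ subset_closure ⟨A, hA, hx⟩
    have hmax_map : ∀ (φ : ↥(S : Subgroup G) →* ↥(S : Subgroup G)) A, IsMaxEl S A → Set.InjOn φ A →
        IsMaxEl S (A.map φ) := by
      intro φ A hA hinj
      refine ⟨⟨?_, ?_⟩, fun B hB => (hA.2 B hB).trans (le_of_eq ?_)⟩
      · rintro _ ⟨a, ha, rfl⟩ _ ⟨b, hb, rfl⟩; rw [← map_mul, hA.1.1 a ha b hb, map_mul]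
      · rintro _ ⟨a, ha, rfl⟩; rw [← map_pow, hA.1.2 a ha, map_one]
      · exact (Nat.card_congr (Equiv.Set.imageOfInjOn φ (A : Set _) hinj))
    refine hd J ?_ ?_ ⟨fun y hy g => ?_⟩
    · obtain ⟨A, hA, hmax⟩ : ∃ A : Subgroup ↥(S : Subgroup G), IsMaxEl S A ∧ 1 < Nat.card A := by
        haveI : Nonempty {B : Subgroup ↥(S : Subgroup G) // (∀ a ∈ B, ∀ b ∈ B, a * b = b * a) ∧ ∀ a ∈ B, a ^ p = 1} :=
          ⟨⟨⊥, by simp, by simp⟩⟩
        obtain ⟨⟨A, hA⟩, hmax⟩ := Finite.exists_max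
          (fun B : {B : Subgroup ↥(S : Subgroup G) // (∀ a ∈ B, ∀ b ∈ B, a * b = b * a) ∧ ∀ a ∈ B, a ^ p = 1} =>
            Nat.card B.1)
        refine ⟨A, ⟨hA, fun B hB => hmax ⟨B, hB⟩⟩, lt_of_lt_of_le ?_ (hmax ⟨(Zs S).subgroupOf _, ?_, ?_⟩)⟩
        · rw [Nat.card_congr (subgroupOfEquivOfLe hZS).toEquiv, Finite.one_lt_card_iff_nontrivial, nontrivial_iff_ne_bot]
          intro h
          exact hZnc (h ▸ bot_le)
        · exact fun a ha b hb => Subtype.ext (mem_centralizer_iff.mp (mem_Zs.mp hb).2.1 a a.2)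
        · exact fun a ha => Subtype.ext (mem_Zs.mp ha).2.2
      intro h
      have h2 : A = ⊥ := le_bot_iff.mp (h ▸ hin A hA)
      rw [h2, card_bot] at hmax
      exact lt_irrefl _ hmax
    · refine characteristic_iff_map_le.mpr fun φ => ?_
      rw [hJ, MonoidHom.map_closure, closure_le]
      rintro _ ⟨x, ⟨A, hA, hx⟩, rfl⟩
      exact hJ ▸ hin _ (hmax_map φ.toMonoidHom A hA φ.injective.injOn) ⟨x, hx, rfl⟩
    · suffices hJle : J.map (S : Subgroup G).subtype ≤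
          (J.map (S : Subgroup G).subtype).comap (MulAut.conj g).toMonoidHom from hJle hy
      conv_lhs => rw [hJ, MonoidHom.map_closure]
      rw [closure_le]
      rintro _ ⟨x, ⟨A, hA, hx⟩, rfl⟩
      have hAQ : ∀ a ∈ A, (a : G) ∈ Q := fun a ha => hc A hA ⟨a, ha, rfl⟩
      refine ⟨⟨g * x * g⁻¹, hQS (hQn.conj_mem _ (hAQ x hx) g)⟩, hJ ▸ subset_closure ?_, rfl⟩
      let fq : A →* ↥(S : Subgroup G) :=
        { toFun := fun a => ⟨g * ((a : ↥(S : Subgroup G)) : G) * g⁻¹, hQS (hQn.conj_mem _ (hAQ _ a.2) g)⟩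
          map_one' := Subtype.ext (by simp)
          map_mul' := fun a b => Subtype.ext (by simp [mul_assoc]) }
      refine ⟨fq.range, ⟨⟨?_, ?_⟩, fun B hB => (hA.2 B hB).trans (le_of_eq ?_)⟩, ⟨⟨x, hx⟩, rfl⟩⟩
      · rintro _ ⟨a, rfl⟩ _ ⟨b, rfl⟩
        rw [← map_mul, show a * b = b * a from Subtype.ext (hA.1.1 a a.2 b b.2), map_mul]
      · rintro _ ⟨a, rfl⟩
        rw [← map_pow, show a ^ p = 1 from Subtype.ext (hA.1.2 a a.2), map_one]
      · exact Nat.card_congr (MonoidHom.ofInjective (f := fq) (fun a b h => Subtype.ext (Subtype.ext (by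
          simpa [fq] using congrArg Subtype.val h)))).toEquiv
  -- the best measure
  haveI : Nonempty {B : Subgroup G // Q ≤ B ∧ B ≤ (S : Subgroup G)} := ⟨⟨Q, le_rfl, hQS⟩⟩
  obtain ⟨⟨B₀, hB₀⟩, hmax0⟩ := Finite.exists_max
    (fun B : {B : Subgroup G // Q ≤ B ∧ B ≤ (S : Subgroup G)} => meas V B.1)
  obtain ⟨m, hm⟩ : ∃ m, m = meas V B₀ := ⟨_, rfl⟩
  have hmax : ∀ B, Q ≤ B → B ≤ (S : Subgroup G) → meas V B ≤ m := fun B h1 h2 => hm ▸ hmax0 ⟨B, h1, h2⟩
  have hm0 : 0 < m := hm ▸ Nat.mul_pos Nat.card_pos Nat.card_pos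
  -- some member is not the core
  obtain ⟨B₁, hQB₁, hB₁S, hmB₁, hne₁⟩ : ∃ B, Q ≤ B ∧ B ≤ (S : Subgroup G) ∧ meas V B = m ∧ B ≠ Q := by
    obtain ⟨A', hA'⟩ : ∃ A', A' = A.map (S : Subgroup G).subtype := ⟨_, rfl⟩
    rw [← hA'] at hAQ
    have hA'S : A' ≤ (S : Subgroup G) := hA' ▸ map_subtype_le _
    have hA'c : ∀ a ∈ A', (∀ b ∈ A', a * b = b * a) ∧ a ^ p = 1 := by
      rintro _ ha
      obtain ⟨x, hx, rfl⟩ := hA' ▸ ha
      refine ⟨fun b hb => ?_, congrArg Subtype.val (hA.1.2 x hx)⟩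
      obtain ⟨y, hy, rfl⟩ := hA' ▸ hb
      exact congrArg Subtype.val (hA.1.1 x hx y hy)
    by_cases hB : B₀ = Q
    swap
    · exact ⟨B₀, hB₀.1, hB₀.2, hm.symm, hB⟩
    refine ⟨A' ⊔ Q, le_sup_right, sup_le hA'S hQS, ?_, fun h => hAQ (h ▸ le_sup_left)⟩
    refine le_antisymm (hmax _ le_sup_right (sup_le hA'S hQS)) ?_
    rw [hm, hB, hctx.meas_bot]
    refine Nat.le_of_mul_le_mul_right (?_ : _ * Nat.card ↥(A' ⊓ Q) ≤ _ * Nat.card ↥(A' ⊓ Q)) Nat.card_pos
    obtain ⟨X, hX⟩ : ∃ X, X = (A' ⊓ Q) ⊔ V := ⟨_, rfl⟩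
    have hXc : Nat.card X ≤ Nat.card A' := by
      have hXS : X ≤ (S : Subgroup G) := hX ▸ sup_le (inf_le_left.trans hA'S) (hVQ.trans hQS)
      rw [hA', card_map_of_injective (S : Subgroup G).subtype_injective, ← Nat.card_congr (subgroupOfEquivOfLe hXS).toEquiv]
      let E : Subgroup G :=
        { carrier := {x | x ∈ centralizer (X : Set G) ∧ x ^ p = 1 ∧ x ∈ X}
          one_mem' := ⟨one_mem _, one_pow p, one_mem _⟩
          mul_mem' := by
            rintro a b ⟨ha, hap, haX⟩ ⟨hb, hbp, hbX⟩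
            refine ⟨mul_mem ha hb, ?_, mul_mem haX hbX⟩
            rw [Commute.mul_pow (mem_centralizer_iff.mp hb a haX), hap, hbp, one_mul]
          inv_mem' := by
            rintro a ⟨ha, hap, haX⟩
            exact ⟨inv_mem ha, by rw [inv_pow, hap, inv_one], inv_mem haX⟩ }
      have hXE : X ≤ E := by
        have hsub : ∀ a ∈ A' ⊓ Q, ∀ v ∈ V, a * v = v * a := fun a ha v hv => hcQ a ha.2 v hv
        have hcent : ∀ y, (∀ a ∈ A' ⊓ Q, a * y = y * a) → (∀ v ∈ V, v * y = y * v) → y ∈ centralizer (X : Set G) := by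
          intro y h1 h2
          refine mem_centralizer_iff.mpr fun x hx => ?_
          exact mem_centralizer_singleton_iff.mp ((sup_le (fun a ha => mem_centralizer_singleton_iff.mpr (h1 a ha))
            fun v hv => mem_centralizer_singleton_iff.mpr (h2 v hv) : (A' ⊓ Q) ⊔ V ≤ centralizer ({y} : Set G)) (hX ▸ hx))
        conv_lhs => rw [hX]
        refine sup_le (fun a ha => ⟨hcent a (fun b hb => (hA'c b hb.1).1 a ha.1) (fun v hv => (hsub a ha v hv).symm),
          (hA'c a ha.1).2, hX ▸ le_sup_left (b := V) ha⟩)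
          fun v hv => ⟨hcent v (fun b hb => hsub b hb v hv) (fun w hw => hVc w hw v hv), (hVP hv).2.2,
            hX ▸ le_sup_right (a := A' ⊓ Q) hv⟩
      refine hA.2 _ ⟨fun a ha b hb => Subtype.ext (mem_centralizer_iff.mp (hXE hb).1 (a : G) ha),
        fun a ha => Subtype.ext (hXE ha).2.1⟩
    have h1 := Grp.card_sup_mul_card_inf (H := A' ⊓ Q) (N := V) (by rw [normalizer_eq_top]; exact le_top)
    rw [← hX] at h1
    have h2 : Nat.card ↥(A' ⊓ Q ⊓ V) ≤ Nat.card ↥(V ⊓ centralizer ((A' ⊔ Q : Subgroup G) : Set G)) := by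
      refine card_le_of_le fun v hv => ⟨hv.2, mem_centralizer_iff.mpr fun x hx => ?_⟩
      exact mem_centralizer_singleton_iff.mp ((sup_le
        (fun a ha => mem_centralizer_singleton_iff.mpr ((hA'c a ha).1 v hv.1.1))
        fun y hy => mem_centralizer_singleton_iff.mpr (hcQ y hy v hv.2) : A' ⊔ Q ≤ centralizer ({v} : Set G)) hx)
    have h3 := Grp.card_sup_mul_card_inf (H := A') (N := Q) (by rw [normalizer_eq_top]; exact le_top)
    have h4 : Nat.card ↥(A' ⊔ Q) * Nat.card ↥(A' ⊓ Q) * Nat.card ↥(A' ⊓ Q ⊓ V) ≤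
        meas V (A' ⊔ Q) * Nat.card ↥(A' ⊓ Q) := by
      rw [meas, mul_right_comm (Nat.card ↥(A' ⊔ Q))]
      exact Nat.mul_le_mul_right _ (Nat.mul_le_mul_left _ h2)
    refine le_trans ?_ h4
    rw [h3, mul_comm (Nat.card A'), mul_assoc (Nat.card Q) (Nat.card A'), mul_assoc (Nat.card Q) (Nat.card V),
      mul_comm (Nat.card V), ← h1]
    exact Nat.mul_le_mul_left _ (Nat.mul_le_mul_right _ hXc)
  -- conjugation by the normaliser of `S`
  have hconjB : ∀ n : G, (∀ s ∈ (S : Subgroup G), n * s * n⁻¹ ∈ (S : Subgroup G)) → ∀ B, Q ≤ B →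
      B ≤ (S : Subgroup G) → Q ≤ B.map (MulAut.conj n).toMonoidHom ∧ B.map (MulAut.conj n).toMonoidHom ≤ (S : Subgroup G) ∧
        meas V (B.map (MulAut.conj n).toMonoidHom) = meas V B := by
    intro n hn B hQB hBS
    refine ⟨fun x hx => ⟨n⁻¹ * x * n⁻¹⁻¹, hQB (hQn.conj_mem x hx n⁻¹), by simp [mul_assoc]⟩, ?_, ?_⟩
    · rintro _ ⟨b, hb, rfl⟩; exact hn b (hBS hb)
    · rw [meas, meas, card_map_of_injective (f := (MulAut.conj n).toMonoidHom) (MulAut.conj n).injective]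
      congr 1
      rw [← card_map_of_injective (K := V ⊓ centralizer (B : Set G)) (f := (MulAut.conj n).toMonoidHom) (MulAut.conj n).injective]
      refine congrArg (fun X : Subgroup G => Nat.card X) ?_
      ext x
      constructor
      · rintro ⟨hxV, hxB⟩
        refine ⟨n⁻¹ * x * n, ⟨by simpa using hVn.conj_mem x hxV n⁻¹, mem_centralizer_iff.mpr fun b hb => ?_⟩, by simp [mul_assoc]⟩
        have h1 := mem_centralizer_iff.mp hxB (n * b * n⁻¹) ⟨b, hb, rfl⟩
        calc b * (n⁻¹ * x * n) = n⁻¹ * (n * b * n⁻¹ * x) * n := by group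
          _ = n⁻¹ * (x * (n * b * n⁻¹)) * n := by rw [h1]
          _ = n⁻¹ * x * n * b := by group
      · rintro ⟨y, ⟨hyV, hyB⟩, rfl⟩
        refine ⟨hVn.conj_mem y hyV n, mem_centralizer_iff.mpr ?_⟩
        rintro _ ⟨b, hb, rfl⟩
        show n * b * n⁻¹ * (n * y * n⁻¹) = n * y * n⁻¹ * (n * b * n⁻¹)
        have h1 := mem_centralizer_iff.mp hyB b hb
        calc n * b * n⁻¹ * (n * y * n⁻¹) = n * (b * y) * n⁻¹ := by group
          _ = n * (y * b) * n⁻¹ := by rw [h1]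
          _ = _ := by group
  -- `S` is a member
  haveI : Nonempty {B : Subgroup G // Q ≤ B ∧ B ≤ (S : Subgroup G) ∧ meas V B = m} := ⟨⟨B₁, hQB₁, hB₁S, hmB₁⟩⟩
  obtain ⟨⟨B₂, hQB₂, hB₂S, hmB₂⟩, hbig⟩ := Finite.exists_max
    (fun B : {B : Subgroup G // Q ≤ B ∧ B ≤ (S : Subgroup G) ∧ meas V B = m} => Nat.card B.1)
  have hle₂ : ∀ B, Q ≤ B → B ≤ (S : Subgroup G) → meas V B = m → B ≤ B₂ := fun B h1 h2 h3 => by
    have h4 := (hctx.member_lattice hmax h1 h2 h3 hQB₂ hB₂S hmB₂).1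
    have h5 : B₂ = B ⊔ B₂ := eq_of_le_of_card_ge le_sup_right
      (hbig ⟨B ⊔ B₂, hQB₂.trans le_sup_right, sup_le h2 hB₂S, h4⟩)
    exact h5 ▸ le_sup_left
  have hB₂eq : B₂ = (S : Subgroup G) := by
    refine (fr.dichotomy B₂ (hQdef ▸ hQB₂) hB₂S fun n hn x hx => ?_).resolve_left fun h => hne₁ ?_
    · obtain ⟨h1, h2, h3⟩ := hconjB n hn B₂ hQB₂ hB₂S
      exact hle₂ _ h1 h2 (h3.trans hmB₂) ⟨x, hx, rfl⟩
    · exact le_antisymm ((hle₂ B₁ hQB₁ hB₁S hmB₁).trans (h.trans hQdef.symm).le) hQB₁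
  rw [hB₂eq] at hmB₂
  have hVS : V ⊓ centralizer ((S : Subgroup G) : Set G) = Zs S :=
    le_antisymm (fun v hv => hVfix v hv.1 (mem_centralizer_iff.mp hv.2)) fun z hz => ⟨hZV hz, (mem_Zs.mp hz).2.1⟩
  have hbound := fr.card_bound V (Zs S) hVn (S.isPGroup'.to_le (hVQ.trans hQS)) hZV
    (fun z hz => (mem_Zs.mp hz).2.1) hZnc
  have hcardS := fr.card_S
  rw [← hQdef] at hcardS
  have hmeasS : meas V (S : Subgroup G) = Nat.card Q * (Fintype.card F * Nat.card (Zs S)) := by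
    rw [meas, hVS, hcardS]; ring
  have hVcard : Nat.card V = Fintype.card F * Nat.card (Zs S) := by
    refine le_antisymm ?_ hbound
    have h1 := hmax Q le_rfl hQS
    rw [hctx.meas_bot, ← hmB₂, hmeasS] at h1
    exact Nat.le_of_mul_le_mul_left h1 Nat.card_pos
  have hmQ : meas V Q = m := by rw [hctx.meas_bot, hVcard, ← hmeasS, hmB₂]
  -- atoms
  let IsAtom' : Subgroup G → Prop := fun A => Q ≤ A ∧ A ≤ (S : Subgroup G) ∧ meas V A = m ∧ A ≠ Q ∧
    ∀ B, Q ≤ B → B ≤ A → meas V B = m → B = Q ∨ B = A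
  obtain ⟨U, hUdef⟩ : ∃ U, U = Q ⊔ closure {x | ∃ A, IsAtom' A ∧ x ∈ A} := ⟨_, rfl⟩
  have hUS : U ≤ (S : Subgroup G) :=
    hUdef ▸ sup_le hQS ((closure_le _).mpr fun x ⟨A, hA, hx⟩ => hA.2.1 hx)
  have hU : U = (S : Subgroup G) := by
    refine (fr.dichotomy U (hQdef ▸ hUdef ▸ le_sup_left) hUS fun n hn x hx => ?_).resolve_left fun h => ?_
    · suffices h : U ≤ U.comap (MulAut.conj n).toMonoidHom from h hx
      conv_lhs => rw [hUdef]
      refine sup_le (fun y hy => hUdef ▸ mem_sup_left (hQn.conj_mem y hy n)) ((closure_le _).mpr ?_)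
      rintro y ⟨A, ⟨hQA, hAS, hmA, hAne, hmin⟩, hy⟩
      obtain ⟨h1, h2, h3⟩ := hconjB n hn A hQA hAS
      refine hUdef ▸ mem_sup_right (subset_closure ⟨_, ⟨h1, h2, h3.trans hmA, fun he => hAne ?_, fun B hQB hBA hmB => ?_⟩,
        ⟨y, hy, rfl⟩⟩)
      · refine le_antisymm (fun a ha => ?_) hQA
        have h4 : n * a * n⁻¹ ∈ Q := he.le ⟨a, ha, rfl⟩
        simpa [mul_assoc] using hQn.conj_mem _ h4 n⁻¹
      · have hnQ : ∀ s ∈ (S : Subgroup G), n⁻¹ * s * n⁻¹⁻¹ ∈ (S : Subgroup G) := by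
          intro s hs
          have h5 : (S : Subgroup G).map (MulAut.conj n).toMonoidHom = (S : Subgroup G) :=
            eq_of_le_of_card_ge (by rintro _ ⟨s, hs, rfl⟩; exact hn s hs)
              (le_of_eq (card_map_of_injective (MulAut.conj n).injective).symm)
          obtain ⟨t, ht, rfl⟩ := h5.ge hs
          simp [mul_assoc]; exact ht
        obtain ⟨h6, h7, h8⟩ := hconjB n⁻¹ hnQ B hQB (hBA.trans h2)
        have h9 : B.map (MulAut.conj n⁻¹).toMonoidHom ≤ A := by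
          rintro _ ⟨b, hb, rfl⟩
          obtain ⟨a, ha, rfl⟩ := hBA hb
          simpa [mul_assoc] using ha
        have hback : (B.map (MulAut.conj n⁻¹).toMonoidHom).map (MulAut.conj n).toMonoidHom = B := by
          rw [Subgroup.map_map]
          convert Subgroup.map_id B
          ext b; simp [mul_assoc]
        rcases hmin _ h6 h9 (h8.trans hmB) with he | he
        · left
          rw [← hback, he]
          refine eq_of_le_of_card_ge (by rintro _ ⟨a, ha, rfl⟩; exact hQn.conj_mem a ha n)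
            (le_of_eq (card_map_of_injective (MulAut.conj n).injective).symm)
        · right; rw [← hback, he]
    · haveI : Nonempty {B : Subgroup G // Q ≤ B ∧ B ≤ (S : Subgroup G) ∧ meas V B = m ∧ B ≠ Q} :=
        ⟨⟨B₁, hQB₁, hB₁S, hmB₁, hne₁⟩⟩
      obtain ⟨⟨A₀, hQA, hAS, hmA, hAne⟩, hmin⟩ := Finite.exists_min
        (fun B : {B : Subgroup G // Q ≤ B ∧ B ≤ (S : Subgroup G) ∧ meas V B = m ∧ B ≠ Q} => Nat.card B.1)
      have hatom : IsAtom' A₀ := ⟨hQA, hAS, hmA, hAne, fun B h1 h2 h3 => or_iff_not_imp_left.mpr fun h4 =>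
        eq_of_le_of_card_ge h2 (hmin ⟨B, h1, h2.trans hAS, h3, h4⟩)⟩
      exact hAne (le_antisymm (fun a ha => hQdef ▸ h.le (hUdef ▸ mem_sup_right (subset_closure ⟨A₀, hatom, ha⟩))) hQA)
  -- every atom moves `V` into the fixed points of `S`
  have hatomZ : ∀ A, IsAtom' A → ∀ a ∈ A, ∀ v ∈ V, ⁅a, v⁆ ∈ Zs S := by
    rintro A ⟨hQA, hAS, hmA, hAne, hmin⟩ a ha v hv
    have hV' : ⁅a, v⁆ ∈ V := by
      rw [commutatorElement_def]; exact mul_mem (hVn.conj_mem v hv a) (inv_mem hv)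
    refine hVfix _ hV' fun s hs => ?_
    refine mem_centralizer_singleton_iff.mp ((?_ : U ≤ centralizer ({⁅a, v⁆} : Set G)) (hU ▸ hs))
    conv_lhs => rw [hUdef]
    refine sup_le (fun x hx => mem_centralizer_singleton_iff.mpr (hcQ x hx _ hV')) ((closure_le _).mpr ?_)
    rintro x ⟨B, ⟨hQB, hBS, hmB, hBne, hminB⟩, hx⟩
    rw [SetLike.mem_coe, mem_centralizer_singleton_iff]
    suffices hgoal : ⁅a, v⁆ ∈ V ⊓ centralizer (B : Set G) from mem_centralizer_iff.mp hgoal.2 x hx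
    obtain ⟨-, hmi, hdec⟩ := hctx.member_lattice hmax hQA hAS hmA hQB hBS hmB
    by_cases hAB : A = B
    · exact hAB ▸ hctx.atom_quadratic hmax hQA hAS hmA hmin hv ha
    · have hinf : A ⊓ B = Q := (hmin _ (le_inf hQA hQB) inf_le_left hmi).resolve_right fun he => by
        rcases hminB A hQA (he ▸ inf_le_right) hmA with h' | h'
        · exact hAne h'
        · exact hAB h'
      haveI hn : ((V ⊓ centralizer (A : Set G)) ⊔ (V ⊓ centralizer (B : Set G))) = V := hdec hinf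
      have hcA : ∀ c ∈ V ⊓ centralizer (A : Set G), ⁅a, c⁆ = 1 := fun c hc =>
        commutatorElement_eq_one_iff_mul_comm.mpr (mem_centralizer_iff.mp hc.2 a ha)
      rw [← hn] at hv
      obtain ⟨c, hc, d, hd', rfl⟩ : ∃ c ∈ V ⊓ centralizer (A : Set G), ∃ d ∈ V ⊓ centralizer (B : Set G), c * d = v := by
        haveI hnor : (V ⊓ centralizer (A : Set G) : Subgroup G) ≤ normalizer ((V ⊓ centralizer (B : Set G) : Subgroup G) : Set G) :=
          fun x hx => mem_normalizer_fintype fun y hy => by rw [hVc x hx.1 y hy.1, mul_inv_cancel_right]; exact hy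
        rw [← SetLike.mem_coe, coe_mul_of_left_le_normalizer_right _ _ hnor] at hv
        obtain ⟨c, hc, d, hd', rfl⟩ := hv
        exact ⟨c, hc, d, hd', rfl⟩
      have e : ⁅a, c * d⁆ = c * ⁅a, d⁆ * c⁻¹ := by
        rw [commutatorElement_def, commutatorElement_def]
        have := hcA c hc
        rw [commutatorElement_eq_one_iff_mul_comm] at this
        calc a * (c * d) * a⁻¹ * (c * d)⁻¹ = a * c * d * a⁻¹ * d⁻¹ * c⁻¹ := by group
          _ = c * a * d * a⁻¹ * d⁻¹ * c⁻¹ := by rw [this]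
          _ = _ := by group
      have hdB : ⁅a, d⁆ ∈ V ⊓ centralizer (B : Set G) := by
        rw [commutatorElement_def]
        exact mul_mem (hctx.centralizes_inf hQB hBS (hAS ha) hd') (inv_mem hd')
      rw [e, hVc c hc.1 _ hdB.1, mul_inv_cancel_right]
      exact hdB
  have hmove : ∀ s ∈ (S : Subgroup G), ∀ v ∈ V, ⁅s, v⁆ ∈ Zs S := by
    let H : Subgroup G :=
      { carrier := {s | s ∈ (S : Subgroup G) ∧ ∀ v ∈ V, ⁅s, v⁆ ∈ Zs S}
        one_mem' := ⟨one_mem _, fun v _ => by simp [one_mem]⟩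
        mul_mem' := by
          rintro a b ⟨haS, ha⟩ ⟨hbS, hb⟩
          refine ⟨mul_mem haS hbS, fun v hv => ?_⟩
          have hzc : a * ⁅b, v⁆ * a⁻¹ = ⁅b, v⁆ := by
            rw [mem_centralizer_iff.mp (mem_Zs.mp (hb v hv)).2.1 a haS, mul_inv_cancel_right]
          rw [show ⁅a * b, v⁆ = a * ⁅b, v⁆ * a⁻¹ * ⁅a, v⁆ by simp only [commutatorElement_def]; group, hzc]
          exact mul_mem (hb v hv) (ha v hv)
        inv_mem' := by
          rintro a ⟨haS, ha⟩
          refine ⟨inv_mem haS, fun v hv => ?_⟩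
          have hzc : a⁻¹ * ⁅a, v⁆⁻¹ * a⁻¹⁻¹ = ⁅a, v⁆⁻¹ := by
            rw [mem_centralizer_iff.mp (inv_mem (mem_Zs.mp (ha v hv)).2.1) a⁻¹ (inv_mem haS), mul_inv_cancel_right]
          rw [show ⁅a⁻¹, v⁆ = a⁻¹ * ⁅a, v⁆⁻¹ * a⁻¹⁻¹ by simp only [commutatorElement_def]; group, hzc]
          exact inv_mem (ha v hv) }
    intro s hs
    refine ((?_ : U ≤ H) (hU ▸ hs)).2
    rw [hUdef]
    refine sup_le (fun x hx => ⟨hQS hx, fun v hv => ?_⟩) ((closure_le _).mpr ?_)
    · rw [commutatorElement_eq_one_iff_mul_comm.mpr (hcQ x hx v hv)]; exact one_mem _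
    · rintro x ⟨A, hA, hx⟩
      exact ⟨hA.2.1 hx, hatomZ A hA x hx⟩
  -- the section modulo the fixed points
  have hC0 : Cz S ≤ Zs S := fun c hc => hVfix c (hVdef ▸ hc.1) fun s _ => (Subgroup.mem_center_iff.mp hc.2 s)
  haveI hCzn : (Cz S).Normal := PushUnique.normal_of_le_center inf_le_right
  have hnofix : ∀ l ∈ Zs S, (∀ g : G, ⁅g, l⁆ ∈ Cz S) → l ∈ Cz S := by
    intro l hl hall
    refine ⟨hVdef ▸ hZV hl, Subgroup.mem_center_iff.mpr fun g => ?_⟩
    rw [← commutatorElement_eq_one_iff_mul_comm]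
    have hcc : ∀ x y : G, x * ⁅y, l⁆ * x⁻¹ = ⁅y, l⁆ := fun x y => by
      rw [Subgroup.mem_center_iff.mp (hall y).2 x, mul_inv_cancel_right]
    let δ : G →* G :=
      { toFun := fun x => ⁅x, l⁆
        map_one' := by simp
        map_mul' := fun x y => by
          rw [show ⁅x * y, l⁆ = x * ⁅y, l⁆ * x⁻¹ * ⁅x, l⁆ by simp only [commutatorElement_def]; group, hcc]
          exact (Subgroup.mem_center_iff.mp (hall y).2 ⁅x, l⁆).symm }
    have hker : δ.ker = ⊤ := by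
      have hSk : ∀ s ∈ (S : Subgroup G), s ∈ δ.ker := fun s hs =>
        commutatorElement_eq_one_iff_mul_comm.mpr (mem_centralizer_iff.mp (mem_Zs.mp hl).2.1 s hs)
      exact fr.gen_conj fr.w_not _ hSk fun s hs => δ.normal_ker.conj_mem s (hSk s hs) fr.w
    exact hker.ge (mem_top g)
  have hcardL : Fintype.card F * Nat.card (Cz S) ≤ Nat.card (Zs S) := by
    obtain ⟨x, hxZ, hxC⟩ : ∃ x ∈ Zs S, x ∉ Cz S := by
      by_contra hc
      push Not at hc
      exact hZnc fun z hz => (hc z hz).2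
    obtain ⟨y, hy⟩ : ∃ y, y = fr.w * x * fr.w⁻¹ := ⟨_, rfl⟩
    have hyV : y ∈ V := hy ▸ hVn.conj_mem x (hZV hxZ) fr.w
    rw [card_eq_map_mul (Cz S) (Zs S) hC0]
    refine Nat.mul_le_mul_right _ ?_
    rw [← Nat.card_eq_fintype_card]
    let φ : F → (Zs S).map (QuotientGroup.mk' (Cz S)) := fun t =>
      ⟨QuotientGroup.mk' (Cz S) ⁅fr.σ t, y⁆, _, hmove _ (fr.σ_mem t) y hyV, rfl⟩
    refine Nat.card_le_card_of_injective φ fun t u he => ?_
    have he' : QuotientGroup.mk' (Cz S) ⁅fr.σ t, y⁆ = QuotientGroup.mk' (Cz S) ⁅fr.σ u, y⁆ := congrArg Subtype.val he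
    by_contra hne
    obtain ⟨π, hπ⟩ : ∃ π, π = QuotientGroup.mk' (Cz S) := ⟨_, rfl⟩
    rw [← hπ] at he'
    obtain ⟨a, ha⟩ : ∃ a, a = (fr.σ u)⁻¹ * fr.σ t := ⟨_, rfl⟩
    have haQ : a ∉ Cfsg.pCore p G := by
      intro haQ'
      refine hne ?_
      have h1 := fr.σ_add u (t - u)
      rw [add_sub_cancel] at h1
      have h2 : fr.σ (t - u) ∈ Cfsg.pCore p G := by
        have h3 := mul_mem haQ' h1
        rwa [ha, show (fr.σ u)⁻¹ * fr.σ t * ((fr.σ t)⁻¹ * (fr.σ u * fr.σ (t - u))) = fr.σ (t - u) by group] at h3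
      exact sub_eq_zero.mp (fr.σ_eq_zero _ h2)
    have hay : π a * π y * (π a)⁻¹ = π y := by
      rw [map_commutatorElement, map_commutatorElement, commutatorElement_def, commutatorElement_def] at he'
      have h1 : π (fr.σ t) * π y * (π (fr.σ t))⁻¹ = π (fr.σ u) * π y * (π (fr.σ u))⁻¹ := mul_right_cancel he'
      rw [ha, map_mul, map_inv]
      calc (π (fr.σ u))⁻¹ * π (fr.σ t) * π y * ((π (fr.σ u))⁻¹ * π (fr.σ t))⁻¹
          = (π (fr.σ u))⁻¹ * (π (fr.σ t) * π y * (π (fr.σ t))⁻¹) * π (fr.σ u) := by group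
        _ = _ := by rw [h1]; group
    let H : Subgroup G :=
      { carrier := {g | π g * π y * (π g)⁻¹ = π y}
        one_mem' := by simp
        mul_mem' := by
          intro a b (ha : π a * π y * (π a)⁻¹ = π y) (hb : π b * π y * (π b)⁻¹ = π y)
          show π (a * b) * π y * (π (a * b))⁻¹ = π y
          calc _ = π a * (π b * π y * (π b)⁻¹) * (π a)⁻¹ := by rw [map_mul]; group
            _ = _ := by rw [hb, ha]
        inv_mem' := by
          intro a (ha : π a * π y * (π a)⁻¹ = π y)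
          show π a⁻¹ * π y * (π a⁻¹)⁻¹ = π y
          conv_lhs => rw [← ha]
          rw [map_inv]; group }
    have htop : H = ⊤ := by
      refine fr.gen a (mul_mem (inv_mem (fr.σ_mem u)) (fr.σ_mem t) |> ha.symm.subst) haQ fr.w fr.w_not H hay fun s hs => ?_
      show π (fr.w * s * fr.w⁻¹) * π y * (π (fr.w * s * fr.w⁻¹))⁻¹ = π y
      rw [hy, map_mul, map_mul, map_mul, map_mul, map_inv]
      calc _ = π fr.w * (π s * π x * (π s)⁻¹) * (π fr.w)⁻¹ := by group
        _ = _ := by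
          rw [← map_inv π s, ← map_mul, ← map_mul, mem_centralizer_iff.mp (mem_Zs.mp hxZ).2.1 s hs, mul_inv_cancel_right]
    refine hxC (hnofix x hxZ fun g => ?_)
    rw [← mk_commutator, ← hπ]
    have hwy : π fr.w⁻¹ * π y * (π fr.w⁻¹)⁻¹ = π x := by rw [hy, map_mul, map_mul, map_inv]; group
    have hxy : π y = π x := (htop.ge (mem_top fr.w⁻¹) : π fr.w⁻¹ * π y * (π fr.w⁻¹)⁻¹ = π y).symm.trans hwy
    rw [← hxy]
    exact htop.ge (mem_top g)
  have hline : IsLineSection fr V (Zs S) (Cz S) := by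
    refine ⟨hVn, hCzn, hC0, hZV, fun x hx y hy => ?_, fun x hx v hv => ?_, fun s hs l hl => ?_, hmove, hnofix,
      hcardL, le_of_eq hVcard⟩
    · rw [commutatorElement_eq_one_iff_mul_comm.mpr (hVc x hx y hy)]; exact one_mem _
    · rw [commutatorElement_eq_one_iff_mul_comm.mpr (hcQ x (hQdef ▸ hx) v hv)]; exact one_mem _
    · rw [commutatorElement_eq_one_iff_mul_comm.mpr (mem_centralizer_iff.mp (mem_Zs.mp hl).2.1 s hs)]; exact one_mem _
  obtain ⟨ρ, hρ⟩ := hline.natural_section fr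
  have hker : ∀ g, ρ g = 1 ↔ g ∈ centralizer (V : Set G) := by
    intro g
    rw [← hρ.ker]
    refine ⟨fun hg => ?_, fun hg v hv => by
      rw [commutatorElement_eq_one_iff_mul_comm.mpr (mem_centralizer_iff.mp hg v hv).symm]; exact one_mem _⟩
    have hgp : g ^ p ∈ centralizer (V : Set G) := mem_centralizer_iff.mpr fun v hv => by
      have hc := hg v hv
      obtain ⟨c, hcd⟩ : ∃ c, c = ⁅g, v⁆ := ⟨_, rfl⟩
      rw [← hcd] at hc
      have hstep : ∀ k : ℕ, g ^ k * v = c ^ k * v * g ^ k := by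
        intro k
        induction k with
        | zero => simp
        | succ k ih =>
          have h1 : g * v = c * v * g := by rw [hcd, commutatorElement_def]; group
          rw [pow_succ, mul_assoc, h1, ← mul_assoc, ← mul_assoc, (Subgroup.mem_center_iff.mp hc.2 (g ^ k)), mul_assoc c,
            ih, pow_succ' c, ← mul_assoc, ← mul_assoc, ← mul_assoc]
      rw [hstep p, (hVP (hVdef ▸ hc.1 : c ∈ V)).2.2, one_mul]
    haveI := PushUnique.centralizer_normal' V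
    obtain ⟨N, hN⟩ : ∃ N, N = ρ.ker := ⟨_, rfl⟩
    haveI : N.Normal := hN ▸ ρ.normal_ker
    have hgN : g ∈ N := hN ▸ (hρ.ker g).mp hg
    have hSN : (S : Subgroup G) ⊓ N ≤ Cfsg.pCore p G := by
      rintro x ⟨hxS, hxN⟩
      obtain ⟨t, ht⟩ := fr.σ_surj x hxS
      have h1 : ρ (fr.σ t) = ρ x := by
        have h2 := hρ.std.core _ ht
        rwa [map_mul, map_inv, inv_mul_eq_one] at h2
      replace hxN : ρ x = 1 := (hN ▸ hxN : x ∈ ρ.ker)
      rw [hxN, hρ.std.up'] at h1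
      have ht0 : t = 0 := up_central (h1 ▸ one_mem _)
      subst ht0
      simpa using mul_mem fr.σ_zero ht
    obtain ⟨k, r, hr, hkr⟩ := Nat.exists_eq_pow_mul_and_not_dvd (orderOf_pos g).ne' p hp.out.ne_one
    have hgr : g ^ r ∈ Cfsg.pCore p G := pElement_mem_core S hSN (pow_mem hgN r) (k := k) (by
      rw [← pow_mul, mul_comm, ← hkr]; exact pow_orderOf_eq_one g)
    have hgr' : g ^ r ∈ centralizer (V : Set G) :=
      mem_centralizer_iff.mpr fun v hv => (hcQ _ (hQdef ▸ hgr) v hv).symm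
    have hcop : Int.gcd (p : ℤ) (r : ℤ) = 1 := by
      rw [Int.gcd_natCast_natCast]; exact (Nat.Prime.coprime_iff_not_dvd hp.out).mpr hr
    have e : g = (g ^ p) ^ Int.gcdA p r * (g ^ r) ^ Int.gcdB p r := by
      rw [← zpow_natCast g p, ← zpow_natCast g r, ← _root_.zpow_mul, ← _root_.zpow_mul, ← zpow_add, ← Int.gcd_eq_gcd_ab, hcop,
        Nat.cast_one, zpow_one]
    rw [e]
    exact mul_mem (zpow_mem hgp _) (zpow_mem hgr' _)
  subst hVdef
  refine ⟨hQdef ▸ hVQ, fun x hx => hcQ x (hQdef ▸ hx), hVc, fun v hv => (hVP hv).2.2, hZV, hC0,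
    hSC.trans hQdef, ⟨ρ, hρ, hker⟩, fun a ha haQ v hv hav => ?_, hmove, hZnc⟩
  exact hρ.fix a ha haQ v hv (by rw [commutatorElement_eq_one_iff_mul_comm.mpr hav]; exact one_mem _)

end Cfsg.Agent.Invol.PushUp
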