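import Mathlib
import Cfsg.Agent.Lib.Invol.PushUp.Vertex

/-!
# Conjugates of the vertex data inside an overgroup in which the automorphisms of `S` are realised
-/

set_option autoImplicit false
set_option linter.style.haveILetI false
set_option linter.unusedSectionVars false

namespace Cfsg.Agent.Invol.PushUp

open Subgroup
open scoped commutatorElement

universe u

variable {G : Type u} [Group G] [Finite G] {p : ℕ} [hp : Fact p.Prime]

/-- An overgroup of `G` realising all automorphisms of `S` by conjugation. -/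
structure Emb (S : Sylow p G) (Γ : Type u) [Group Γ] where
  ι : G →* Γ
  inj : Function.Injective ι
  lift : ∀ φ : MulAut ↥(S : Subgroup G), ∃ h : Γ, ∀ s : ↥(S : Subgroup G),
    h * ι (s : G) * h⁻¹ = ι ((φ s : ↥(S : Subgroup G)) : G)

/-- The regular permutation representation is such an overgroup. -/
theorem exists_emb (S : Sylow p G) : Nonempty (Emb S (Equiv.Perm G)) := by
  classical
  refine ⟨⟨MulAction.toPermHom G G, MulAction.toPerm_injective, fun φ => ?_⟩⟩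
  let rep : G → G := fun g => (Quotient.mk (QuotientGroup.rightRel (S : Subgroup G)) g).out
  have hrep : ∀ g, g * (rep g)⁻¹ ∈ (S : Subgroup G) := fun g =>
    QuotientGroup.rightRel_apply.mp (Quotient.mk_out (s := QuotientGroup.rightRel (S : Subgroup G)) g)
  have hrep' : ∀ (s : ↥(S : Subgroup G)) g, rep ((s : G) * g) = rep g := fun s g => by
    refine congrArg Quotient.out (Quotient.sound ?_)
    refine QuotientGroup.rightRel_apply.mpr ?_
    rw [show g * ((s : G) * g)⁻¹ = (s : G)⁻¹ by group]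
    exact inv_mem s.2
  let d : G → ↥(S : Subgroup G) := fun g => ⟨g * (rep g)⁻¹, hrep g⟩
  have hd : ∀ (s : ↥(S : Subgroup G)) g, d ((s : G) * g) = s * d g := fun s g => Subtype.ext (by
    show (s : G) * g * (rep ((s : G) * g))⁻¹ = (s : G) * (g * (rep g)⁻¹)
    rw [hrep', mul_assoc])
  let f : G → G := fun g => ((φ (d g) : ↥(S : Subgroup G)) : G) * rep g
  have hf : ∀ (s : ↥(S : Subgroup G)) g, f ((s : G) * g) = ((φ s : ↥(S : Subgroup G)) : G) * f g := fun s g => by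
    show ((φ (d ((s : G) * g)) : ↥(S : Subgroup G)) : G) * rep ((s : G) * g) = _
    rw [hd, hrep', map_mul, Subgroup.coe_mul, mul_assoc]
  have hfinj : Function.Injective f := by
    intro a b hab
    have hrepf : ∀ c, rep (f c) = rep c := fun c => by
      show rep (((φ (d c) : ↥(S : Subgroup G)) : G) * rep c) = _
      rw [hrep']
      refine congrArg Quotient.out (Quotient.sound ?_)
      exact QuotientGroup.rightRel_apply.mpr (hrep c)
    have hr : rep a = rep b := by rw [← hrepf a, hab, hrepf b]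
    change ((φ (d a) : ↥(S : Subgroup G)) : G) * rep a = ((φ (d b) : ↥(S : Subgroup G)) : G) * rep b at hab
    rw [hr] at hab
    have h2 : a * (rep a)⁻¹ = b * (rep b)⁻¹ :=
      congrArg Subtype.val (φ.injective (Subtype.ext (mul_right_cancel hab)))
    rw [hr] at h2
    exact mul_right_cancel h2
  refine ⟨Equiv.ofBijective f (Finite.injective_iff_bijective.mp hfinj), fun s => Equiv.ext fun g => ?_⟩
  obtain ⟨g', rfl⟩ := (Finite.injective_iff_bijective.mp hfinj).2 g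
  show f ((s : G) * (Equiv.ofBijective f (Finite.injective_iff_bijective.mp hfinj)).symm (f g')) = _
  rw [Equiv.ofBijective_symm_apply_apply, hf]
  rfl

variable {S : Sylow p G} {Γ : Type u} [Group Γ] (E : Emb S Γ)

namespace Emb

/-- The embedding followed by conjugation by `x`. -/
def at' (x : Γ) : G →* Γ := (MulAut.conj x).toMonoidHom.comp E.ι

theorem at'_apply (x : Γ) (a : G) : E.at' x a = x * E.ι a * x⁻¹ := rfl

theorem at'_inj (x : Γ) : Function.Injective (E.at' x) := (MulAut.conj x).injective.comp E.inj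

/-- The copy of a subgroup at `x`. -/
def im (x : Γ) (X : Subgroup G) : Subgroup Γ := X.map (E.at' x)

theorem mem_im {x y : Γ} {X : Subgroup G} : y ∈ E.im x X ↔ ∃ a ∈ X, E.at' x a = y := Iff.rfl

theorem at'_mem_im {x : Γ} {X : Subgroup G} {a : G} : E.at' x a ∈ E.im x X ↔ a ∈ X :=
  ⟨fun ⟨_, hb, he⟩ => E.at'_inj x he ▸ hb, fun ha => ⟨a, ha, rfl⟩⟩

theorem im_mono {x : Γ} {X Y : Subgroup G} (h : X ≤ Y) : E.im x X ≤ E.im x Y := map_mono h

theorem im_le_iff {x : Γ} {X Y : Subgroup G} : E.im x X ≤ E.im x Y ↔ X ≤ Y :=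
  ⟨fun h _ ha => E.at'_mem_im.mp (h (E.at'_mem_im.mpr ha)), E.im_mono⟩

theorem card_im (x : Γ) (X : Subgroup G) : Nat.card (E.im x X) = Nat.card X :=
  card_map_of_injective (E.at'_inj x)

theorem at'_mul (x : Γ) (g a : G) : E.at' (x * E.ι g) a = E.at' x (g * a * g⁻¹) := by
  simp [at'_apply, mul_assoc]

theorem im_mul (x : Γ) (g : G) (X : Subgroup G) :
    E.im (x * E.ι g) X = E.im x (X.map (MulAut.conj g).toMonoidHom) := by
  rw [im, im, Subgroup.map_map]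
  congr 1
  exact MonoidHom.ext fun a => E.at'_mul x g a

theorem im_mul_normal (x : Γ) (g : G) (X : Subgroup G) [hX : X.Normal] : E.im (x * E.ι g) X = E.im x X := by
  rw [im_mul]
  congr 1
  refine le_antisymm ?_ fun a ha => ⟨g⁻¹ * a * g⁻¹⁻¹, hX.conj_mem a ha g⁻¹, by simp [mul_assoc]⟩
  rintro _ ⟨a, ha, rfl⟩
  exact hX.conj_mem a ha g

/-- The elements normalising the image of `S`. -/
def Hn : Subgroup Γ := normalizer ((S : Subgroup G).map E.ι : Set Γ)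

theorem im_mul_H (x : Γ) {h : Γ} (hh : h ∈ E.Hn) : E.im (x * h) (S : Subgroup G) = E.im x (S : Subgroup G) := by
  ext y
  constructor
  · rintro ⟨a, ha, rfl⟩
    obtain ⟨b, hb, hbe⟩ := (Subgroup.mem_normalizer_iff.mp hh _).mp ⟨a, ha, rfl⟩
    exact ⟨b, hb, by simp only [at'_apply]; rw [hbe]; group⟩
  · rintro ⟨a, ha, rfl⟩
    obtain ⟨b, hb, hbe⟩ := (Subgroup.mem_normalizer_iff.mp (inv_mem hh) _).mp ⟨a, ha, rfl⟩
    exact ⟨b, hb, by simp only [at'_apply]; rw [hbe]; group⟩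

theorem im_Zs_mul_H (x : Γ) {h : Γ} (hh : h ∈ E.Hn) : E.im (x * h) (Zs S) = E.im x (Zs S) := by
  have key : ∀ x : Γ, ∀ h ∈ E.Hn, E.im (x * h) (Zs S) ≤ E.im x (Zs S) := by
    rintro x h hh _ ⟨a, ha, rfl⟩
    obtain ⟨b, hb, hbe⟩ := (E.im_mul_H x hh).le ⟨a, (mem_Zs.mp ha).1, rfl⟩
    refine ⟨b, ⟨hb, mem_centralizer_iff.mpr fun s hs => E.at'_inj x ?_, E.at'_inj x ?_⟩, hbe⟩
    · obtain ⟨c, hc, hce⟩ := (E.im_mul_H x hh).ge ⟨s, hs, rfl⟩
      rw [map_mul, map_mul, hbe, ← hce, ← map_mul, ← map_mul, mem_centralizer_iff.mp (mem_Zs.mp ha).2.1 c hc]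
    · rw [map_pow, hbe, ← map_pow, (mem_Zs.mp ha).2.2, map_one, map_one]
  refine le_antisymm (key x h hh) ?_
  have h2 := key (x * h) h⁻¹ (inv_mem hh)
  rwa [mul_inv_cancel_right] at h2

/-- The vertex facts at an arbitrary place. -/
structure Local {F : Type} [Field F] [Fintype F] (fr : Frame S F) (x : Γ) (g : G) : Prop where
  Q_le_S : E.im x (Cfsg.pCore p G) ≤ E.im (x * E.ι g) (S : Subgroup G)
  S_le : E.im (x * E.ι g) (S : Subgroup G) ≤ E.im x ⊤
  V_le_Q : E.im x (Vz S) ≤ E.im x (Cfsg.pCore p G)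
  Z_le_V : E.im (x * E.ι g) (Zs S) ≤ E.im x (Vz S)
  C_le_Z : E.im x (Cz S) ≤ E.im (x * E.ι g) (Zs S)
  comm : ∀ a ∈ E.im x (Cfsg.pCore p G), ∀ v ∈ E.im x (Vz S), a * v = v * a
  normV : ∀ a ∈ E.im x ⊤, ∀ v ∈ E.im x (Vz S), a * v * a⁻¹ ∈ E.im x (Vz S)
  normQ : ∀ a ∈ E.im x ⊤, ∀ v ∈ E.im x (Cfsg.pCore p G), a * v * a⁻¹ ∈ E.im x (Cfsg.pCore p G)
  central : ∀ a ∈ E.im x ⊤, ∀ c ∈ E.im x (Cz S), a * c = c * a
  move : ∀ a ∈ E.im (x * E.ι g) (S : Subgroup G), ∀ v ∈ E.im x (Vz S), ⁅a, v⁆ ∈ E.im (x * E.ι g) (Zs S)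
  fixS : ∀ a ∈ E.im (x * E.ι g) (S : Subgroup G), ∀ z ∈ E.im (x * E.ι g) (Zs S), a * z = z * a
  fix : ∀ a ∈ E.im (x * E.ι g) (S : Subgroup G), a ∉ E.im x (Cfsg.pCore p G) → ∀ v ∈ E.im x (Vz S),
    ⁅a, v⁆ ∈ E.im x (Cz S) → v ∈ E.im (x * E.ι g) (Zs S)
  inf_cent : ∀ a ∈ E.im (x * E.ι g) (S : Subgroup G), (∀ v ∈ E.im x (Vz S), a * v = v * a) →
    a ∈ E.im x (Cfsg.pCore p G)
  other : ∀ g' : G, g⁻¹ * g' ∉ fr.M →
    E.im (x * E.ι g) (Zs S) ⊓ E.im (x * E.ι g') (Zs S) ≤ E.im x (Cz S)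
  gen : ∀ g' : G, g⁻¹ * g' ∉ fr.M → ∀ a ∈ E.im (x * E.ι g) (S : Subgroup G), a ∉ E.im x (Cfsg.pCore p G) →
    ∀ N : Subgroup Γ, a ∈ N → E.im (x * E.ι g') (S : Subgroup G) ≤ N → E.im x ⊤ ≤ N
  cardQ : Nat.card (E.im (x * E.ι g) (S : Subgroup G)) = Fintype.card F * Nat.card (E.im x (Cfsg.pCore p G))
  cardV : Nat.card (E.im x (Vz S)) = Fintype.card F * Nat.card (E.im (x * E.ι g) (Zs S))
  cardZ : Nat.card (E.im (x * E.ι g) (Zs S)) = Fintype.card F * Nat.card (E.im x (Cz S))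

theorem exists_local {F : Type} [Field F] [Fintype F] {fr : Frame S F} (hv : IsVertex fr) (x : Γ) (g : G) :
    E.Local fr x g := by
  haveI hQn : (Cfsg.pCore p G).Normal := Grp.pCore_isNormal
  haveI hVn : (Vz S).Normal := normalClosure_normal
  obtain ⟨ρ, hρ, -⟩ := hv.nat
  have hQx := E.im_mul_normal x g (Cfsg.pCore p G)
  have hVx := E.im_mul_normal x g (Vz S)
  have hCx := E.im_mul_normal x g (Cz S)
  have hTx := E.im_mul_normal x g (⊤ : Subgroup G)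
  refine
    { Q_le_S := hQx ▸ E.im_mono (Grp.pCore_le_sylow S)
      S_le := hTx ▸ E.im_mono le_top
      V_le_Q := E.im_mono hv.le_core
      Z_le_V := hVx ▸ E.im_mono hv.Z_le
      C_le_Z := hCx ▸ E.im_mono hv.C0_le
      comm := ?_, normV := ?_, normQ := ?_, central := ?_, move := ?_, fixS := ?_, fix := ?_
      inf_cent := ?_, other := ?_, gen := ?_, cardQ := ?_, cardV := ?_, cardZ := ?_ }
  · rintro _ ⟨a, ha, rfl⟩ _ ⟨v, hv', rfl⟩; rw [← map_mul, hv.cent_core a ha v hv', map_mul]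
  · rintro _ ⟨a, -, rfl⟩ _ ⟨v, hv', rfl⟩
    exact ⟨_, hVn.conj_mem v hv' a, by simp⟩
  · rintro _ ⟨a, -, rfl⟩ _ ⟨v, hv', rfl⟩
    exact ⟨_, hQn.conj_mem v hv' a, by simp⟩
  · rintro _ ⟨a, -, rfl⟩ _ ⟨c, hc, rfl⟩
    rw [← map_mul, Subgroup.mem_center_iff.mp hc.2 a, map_mul]
  · rintro _ ⟨a, ha, rfl⟩ v hv'
    rw [← hVx] at hv'
    obtain ⟨v, hv', rfl⟩ := hv'
    exact ⟨_, hv.move a ha v hv', map_commutatorElement _ a v⟩
  · rintro _ ⟨a, ha, rfl⟩ _ ⟨z, hz, rfl⟩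
    rw [← map_mul, mem_centralizer_iff.mp (mem_Zs.mp hz).2.1 a ha, map_mul]
  · rintro _ ⟨a, ha, rfl⟩ haQ v hv' hc
    rw [← hQx] at haQ
    rw [← hVx] at hv'
    obtain ⟨v, hv', rfl⟩ := hv'
    rw [← map_commutatorElement, ← hCx, E.at'_mem_im] at hc
    exact E.at'_mem_im.mpr (hρ.fix a ha (fun h => haQ (E.at'_mem_im.mpr h)) v hv' hc)
  · rintro _ ⟨a, ha, rfl⟩ hc
    rw [← hQx, E.at'_mem_im, ← hv.S_inf_cent]
    refine ⟨ha, mem_centralizer_iff.mpr fun v hv' => E.at'_inj (x * E.ι g) ?_⟩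
    rw [map_mul, map_mul]
    exact (hc _ (hVx ▸ ⟨v, hv', rfl⟩)).symm
  · rintro g' hg' y ⟨⟨a, ha, rfl⟩, hy⟩
    rw [← hCx, E.at'_mem_im]
    obtain ⟨b, hb, hbe⟩ := hy
    have hab : a = g⁻¹ * g' * b * (g⁻¹ * g')⁻¹ := by
      refine E.at'_inj (x * E.ι g) ?_
      rw [← hbe, E.at'_mul, E.at'_mul]
      congr 1
      group
    refine hρ.moved a (hv.Z_le ha) ((g⁻¹ * g')⁻¹) (fun h => hg' (inv_mem_iff.mp h)) ha ?_
    rw [hab, show (g⁻¹ * g')⁻¹ * (g⁻¹ * g' * b * (g⁻¹ * g')⁻¹) * ((g⁻¹ * g')⁻¹)⁻¹ = b by group]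
    exact hb
  · rintro g' hg' _ ⟨a, ha, rfl⟩ haQ N haN hle y hy
    rw [← hQx] at haQ
    rw [← hTx] at hy
    obtain ⟨c, -, rfl⟩ := hy
    have htop : N.comap (E.at' (x * E.ι g)) = ⊤ := by
      refine fr.gen a ha (fun h => haQ (E.at'_mem_im.mpr h)) _ hg' _ haN fun s hs => ?_
      show E.at' (x * E.ι g) (g⁻¹ * g' * s * (g⁻¹ * g')⁻¹) ∈ N
      refine hle ⟨s, hs, ?_⟩
      rw [E.at'_mul, E.at'_mul]
      congr 1
      group
    exact htop.ge (mem_top c)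
  · rw [card_im, card_im]; exact fr.card_S
  · rw [card_im, card_im]; exact hρ.card_U
  · rw [card_im, card_im]; exact hρ.card_L

end Emb

end Cfsg.Agent.Invol.PushUp
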