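import Mathlib
import Cfsg.Agent.Lib.Invol.PushUp.Conj

/-!
# Critical pairs and the critical line
-/

set_option autoImplicit false
set_option linter.style.haveILetI false
set_option linter.unusedSectionVars false

namespace Cfsg.Agent.Invol.PushUp

open Subgroup
open scoped commutatorElement

universe u

variable {G : Type u} [Group G] [Finite G] {p : ℕ} [hp : Fact p.Prime]
variable {S : Sylow p G} {F : Type} [Field F] [Fintype F] {fr : Frame S F}
variable {Γ : Type u} [Group Γ] {E : Emb S Γ}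

namespace Emb

/-- Vertices at distance at most `k`. -/
def Near (E : Emb S Γ) : ℕ → Γ → Γ → Prop
  | 0, x, y => ∃ g : G, y = x * E.ι g
  | k + 1, x, y => ∃ g : G, ∃ h ∈ E.Hn, Near E k (x * E.ι g * h) y

/-- The module at `y` is not in the core at `x`. -/
def Bad (E : Emb S Γ) (x y : Γ) : Prop := ¬ E.im y (Vz S) ≤ E.im x (Cfsg.pCore p G)

theorem near_refl (x : Γ) : E.Near 0 x x := ⟨1, by simp⟩

theorem near_absorb : ∀ {k : ℕ} {x y : Γ} (g : G), E.Near k (x * E.ι g) y → E.Near k x y := by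
  intro k
  cases k with
  | zero => rintro x y g ⟨g', rfl⟩; exact ⟨g * g', by rw [map_mul, mul_assoc]⟩
  | succ k =>
    rintro x y g ⟨g', h, hh, hn⟩
    exact ⟨g * g', h, hh, by rw [map_mul, ← mul_assoc]; exact hn⟩

theorem near_mono : ∀ {k l : ℕ} {x y : Γ}, k ≤ l → E.Near k x y → E.Near l x y := by
  have step : ∀ (k : ℕ) (x y : Γ), E.Near k x y → E.Near (k + 1) x y := by
    intro k
    induction k with
    | zero => rintro x y ⟨g, rfl⟩; exact ⟨g, 1, one_mem _, 1, by simp⟩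
    | succ k ih => rintro x y ⟨g, h, hh, hn⟩; exact ⟨g, h, hh, ih _ _ hn⟩
  intro k l x y hkl
  induction hkl with
  | refl => exact id
  | step _ ih => exact fun h => step _ _ _ (ih h)

theorem near_trans : ∀ {k l : ℕ} {x y z : Γ}, E.Near k x y → E.Near l y z → E.Near (k + l) x z := by
  intro k
  induction k with
  | zero => rintro l x y z ⟨g, rfl⟩ h; rw [Nat.zero_add]; exact near_absorb g h
  | succ k ih =>
    rintro l x y z ⟨g, h, hh, hn⟩ hyz
    rw [Nat.add_right_comm]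
    exact ⟨g, h, hh, ih hn hyz⟩

theorem near_step (x : Γ) (g : G) {h : Γ} (hh : h ∈ E.Hn) : E.Near 1 x (x * E.ι g * h) :=
  ⟨g, h, hh, near_refl _⟩

theorem near_symm : ∀ {k : ℕ} {x y : Γ}, E.Near k x y → E.Near k y x := by
  intro k
  induction k with
  | zero => rintro x y ⟨g, rfl⟩; exact ⟨g⁻¹, by simp⟩
  | succ k ih =>
    rintro x y ⟨g, h, hh, hn⟩
    refine near_trans (k := k) (l := 1) (ih hn) ?_
    exact ⟨1, h⁻¹, inv_mem hh, g⁻¹, by simp⟩

theorem im_of_mul (x : Γ) (g : G) {h : Γ} (hh : h ∈ E.Hn) :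
    E.im (x * E.ι g * h) (S : Subgroup G) = E.im (x * E.ι g) (S : Subgroup G) :=
  E.im_mul_H _ hh

theorem at_one (x : Γ) : x * E.ι 1 = x := by rw [map_one, mul_one]

/-- Conjugating every member at the hub `x`. -/
theorem conj_member (hv : IsVertex fr) {x : Γ} {h : Γ} (hh : h ∈ E.Hn) {s : Γ} (hs : s ∈ E.im x (S : Subgroup G))
    {v : Γ} (hv' : v ∈ E.im (x * h) (Vz S)) : s * v * s⁻¹ ∈ E.im (x * h) (Vz S) := by
  have L := E.exists_local hv (x * h) 1
  refine L.normV s ?_ v hv'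
  rw [← E.im_mul_H x hh] at hs
  exact E.im_mono le_top hs

/-- The members of a hub generate a subgroup which is not normal at a vertex of the hub. -/
theorem no_normal_hub (hd : NoChar S) (hv : IsVertex fr) (x : Γ) {W : Subgroup Γ}
    (hW : W = ⨆ h : E.Hn, E.im (x * (h : Γ)) (Vz S)) :
    ¬ ∀ a ∈ E.im x ⊤, ∀ w ∈ W, a * w * a⁻¹ ∈ W := by
  intro hn
  obtain ⟨X, hX⟩ : ∃ X, X = W.comap (E.at' x) := ⟨_, rfl⟩
  have hVS : ∀ h : E.Hn, E.im (x * (h : Γ)) (Vz S) ≤ E.im x (S : Subgroup G) := fun h => by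
    have L := E.exists_local hv (x * (h : Γ)) 1
    have h1 := L.V_le_Q.trans L.Q_le_S
    rw [at_one, E.im_mul_H x h.2] at h1
    exact h1
  have hWS : W ≤ E.im x (S : Subgroup G) := hW ▸ iSup_le hVS
  have hXS : X ≤ (S : Subgroup G) := fun a ha => by
    rw [hX, Subgroup.mem_comap] at ha
    exact E.at'_mem_im.mp (hWS ha)
  have hVX : Vz S ≤ X := fun v hv' => by
    rw [hX, Subgroup.mem_comap, hW]
    refine Subgroup.mem_iSup_of_mem ⟨1, one_mem _⟩ ?_
    rw [mul_one]
    exact E.at'_mem_im.mpr hv'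
  have hmapX : (X.subgroupOf (S : Subgroup G)).map (S : Subgroup G).subtype = X := by
    rw [subgroupOf_map_subtype, inf_eq_left.mpr hXS]
  refine hd (X.subgroupOf (S : Subgroup G)) ?_ ?_ ?_
  · intro h
    rw [h, Subgroup.map_bot] at hmapX
    refine hv.Z_not_central fun z hz => ?_
    have h2 := hVX (hv.Z_le hz)
    rw [← hmapX, mem_bot] at h2
    rw [h2]; exact one_mem _
  · refine characteristic_iff_le_comap.mpr fun φ a ha => ?_
    obtain ⟨h0, hh0⟩ := E.lift φ
    have hh0' : h0 ∈ E.Hn := by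
      refine Subgroup.mem_normalizer_iff.mpr fun y => ⟨?_, ?_⟩
      · rintro ⟨s, hs, rfl⟩; exact ⟨_, (φ ⟨s, hs⟩).2, (hh0 ⟨s, hs⟩).symm⟩
      · rintro ⟨s, hs, hse⟩
        refine ⟨_, (φ.symm ⟨s, hs⟩).2, ?_⟩
        have h2 := hh0 (φ.symm ⟨s, hs⟩)
        rw [MulEquiv.apply_symm_apply, hse] at h2
        exact mul_left_cancel (mul_right_cancel h2)
    have key : W ≤ W.comap (MulAut.conj (x * h0 * x⁻¹)).toMonoidHom := by
      conv_lhs => rw [hW]
      refine iSup_le fun h => ?_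
      rintro _ ⟨v, hv', rfl⟩
      rw [Subgroup.mem_comap, hW]
      refine Subgroup.mem_iSup_of_mem ⟨h0 * h, mul_mem hh0' h.2⟩ ⟨v, hv', ?_⟩
      simp [Emb.at'_apply, mul_assoc]
    rw [Subgroup.mem_comap, Subgroup.mem_subgroupOf, hX, Subgroup.mem_comap]
    have h3 := key (show E.at' x (a : G) ∈ W by rw [← Subgroup.mem_comap, ← hX]; exact ha)
    rw [Subgroup.mem_comap] at h3
    show E.at' x ((φ a : ↥(S : Subgroup G)) : G) ∈ W
    rw [Emb.at'_apply, ← hh0 a]
    convert h3 using 1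
    simp [Emb.at'_apply, mul_assoc]
  · rw [hmapX]
    refine ⟨fun a ha g => ?_⟩
    rw [hX, Subgroup.mem_comap] at ha ⊢
    rw [map_mul, map_mul, map_inv]
    exact hn _ (E.at'_mem_im.mpr (mem_top g)) _ ha

theorem exists_bad (hd : NoChar S) (hv : IsVertex fr) : ∃ k x y, E.Near k x y ∧ E.Bad x y := by
  by_contra hc
  push Not at hc
  unfold Bad at hc
  push Not at hc
  -- the modules at the vertices connected to `1`
  obtain ⟨Y, hY⟩ : ∃ Y, Y = ⨆ y : {y : Γ // ∃ k, E.Near k 1 y}, E.im (y : Γ) (Vz S) := ⟨_, rfl⟩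
  obtain ⟨X, hX⟩ : ∃ X, X = Y.comap (E.at' 1) := ⟨_, rfl⟩
  have hYQ : Y ≤ E.im 1 (Cfsg.pCore p G) := hY ▸ iSup_le fun y => by
    obtain ⟨k, hk⟩ := y.2; exact hc k 1 y hk
  have hXS : X ≤ (S : Subgroup G) := fun a ha => by
    rw [hX, Subgroup.mem_comap] at ha
    exact Grp.pCore_le_sylow S (E.at'_mem_im.mp (hYQ ha))
  have hmapX : (X.subgroupOf (S : Subgroup G)).map (S : Subgroup G).subtype = X := by
    rw [subgroupOf_map_subtype, inf_eq_left.mpr hXS]
  have hmove : ∀ (c : Γ), E.Near 1 1 c → ∀ w ∈ Y, c * w * c⁻¹ ∈ Y := by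
    intro c hc1 w hw
    suffices h : Y ≤ Y.comap (MulAut.conj c).toMonoidHom from h hw
    conv_lhs => rw [hY]
    refine iSup_le fun y => ?_
    rintro _ ⟨v, hv', rfl⟩
    rw [Subgroup.mem_comap, hY]
    obtain ⟨k, hk⟩ := y.2
    have hcy : E.Near (1 + k) 1 (c * y) := by
      refine near_trans hc1 ?_
      have htr : ∀ (k : ℕ) (u v : Γ), E.Near k u v → E.Near k (c * u) (c * v) := by
        intro k
        induction k with
        | zero => rintro u v ⟨g, rfl⟩; exact ⟨g, (mul_assoc _ _ _).symm⟩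
        | succ k ih => rintro u v ⟨g, h, hh, hn⟩; exact ⟨g, h, hh, by simpa [mul_assoc] using ih _ _ hn⟩
      simpa using htr k 1 y hk
    refine Subgroup.mem_iSup_of_mem ⟨c * y, 1 + k, hcy⟩ ⟨v, hv', ?_⟩
    simp [Emb.at'_apply, mul_assoc]
  have hVX : Vz S ≤ X := fun v hv' => by
    rw [hX, Subgroup.mem_comap, hY]
    exact Subgroup.mem_iSup_of_mem ⟨1, 0, near_refl 1⟩ (E.at'_mem_im.mpr hv')
  refine hd (X.subgroupOf (S : Subgroup G)) ?_ ?_ ?_
  · intro h
    rw [h, Subgroup.map_bot] at hmapX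
    refine hv.Z_not_central fun z hz => ?_
    have h2 := hVX (hv.Z_le hz)
    rw [← hmapX, mem_bot] at h2
    rw [h2]; exact one_mem _
  · refine characteristic_iff_le_comap.mpr fun φ a ha => ?_
    obtain ⟨h0, hh0⟩ := E.lift φ
    have hh0' : h0 ∈ E.Hn := by
      refine Subgroup.mem_normalizer_iff.mpr fun y => ⟨?_, ?_⟩
      · rintro ⟨s, hs, rfl⟩; exact ⟨_, (φ ⟨s, hs⟩).2, (hh0 ⟨s, hs⟩).symm⟩
      · rintro ⟨s, hs, hse⟩
        refine ⟨_, (φ.symm ⟨s, hs⟩).2, ?_⟩
        have h2 := hh0 (φ.symm ⟨s, hs⟩)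
        rw [MulEquiv.apply_symm_apply, hse] at h2
        exact mul_left_cancel (mul_right_cancel h2)
    rw [Subgroup.mem_comap, Subgroup.mem_subgroupOf, hX, Subgroup.mem_comap]
    have h3 := hmove h0 ⟨1, h0, hh0', by simpa using near_refl h0⟩ (E.at' 1 (a : G))
      (by rw [← Subgroup.mem_comap, ← hX]; exact ha)
    show E.at' 1 ((φ a : ↥(S : Subgroup G)) : G) ∈ Y
    rw [Emb.at'_apply, ← hh0 a]
    simpa [Emb.at'_apply] using h3
  · rw [hmapX]
    refine ⟨fun a ha g => ?_⟩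
    rw [hX, Subgroup.mem_comap] at ha ⊢
    rw [map_mul, map_mul, map_inv]
    exact hmove _ ⟨g, 1, one_mem _, by simpa [Emb.at'_apply] using near_refl (E.ι g)⟩ _ ha

/-- A critical pair with hubs. -/
structure Crit (E : Emb S Γ) (x : Γ) (g : G) (y : Γ) (g' : G) : Prop where
  left : E.im y (Vz S) ≤ E.im (x * E.ι g) (S : Subgroup G)
  right : E.im x (Vz S) ≤ E.im (y * E.ι g') (S : Subgroup G)
  moveL : ∃ a ∈ E.im y (Vz S), a ∉ E.im x (Cfsg.pCore p G)
  moveR : ∃ a ∈ E.im x (Vz S), a ∉ E.im y (Cfsg.pCore p G)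
  infL : E.im x (Vz S) ⊓ E.im y (Cfsg.pCore p G) = E.im (x * E.ι g) (Zs S)
  infR : E.im y (Vz S) ⊓ E.im x (Cfsg.pCore p G) = E.im (y * E.ι g') (Zs S)
  decompL : ∀ s ∈ E.im (x * E.ι g) (S : Subgroup G), ∃ v ∈ E.im y (Vz S), v⁻¹ * s ∈ E.im x (Cfsg.pCore p G)
  decompR : ∀ s ∈ E.im (y * E.ι g') (S : Subgroup G), ∃ v ∈ E.im x (Vz S), v⁻¹ * s ∈ E.im y (Cfsg.pCore p G)

theorem bad_symm (hv : IsVertex fr) {x y : Γ} {g' : G} (hyx : E.im x (Vz S) ≤ E.im (y * E.ι g') (S : Subgroup G))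
    (hb : E.Bad y x) : E.Bad x y := by
  intro hle
  refine hb fun a ha => ?_
  exact (E.exists_local hv y g').inf_cent a (hyx ha) fun v hv' => ((E.exists_local hv x 1).comm v (hle hv') a ha).symm

theorem crit_half (hv : IsVertex fr) [Finite Γ] {x y : Γ} {g g' : G}
    (hxy : E.im y (Vz S) ≤ E.im (x * E.ι g) (S : Subgroup G))
    (hyx : E.im x (Vz S) ≤ E.im (y * E.ι g') (S : Subgroup G)) (hb : E.Bad x y) :
    E.im x (Vz S) ⊓ E.im y (Cfsg.pCore p G) = E.im (x * E.ι g) (Zs S) ∧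
      ∀ s ∈ E.im (y * E.ι g') (S : Subgroup G), ∃ v ∈ E.im x (Vz S), v⁻¹ * s ∈ E.im y (Cfsg.pCore p G) := by
  classical
  have Lx := E.exists_local hv x g
  have Ly := E.exists_local hv y g'
  obtain ⟨a, ha, haQ⟩ := SetLike.not_le_iff_exists.mp hb
  have hsub : E.im x (Vz S) ⊓ E.im y (Cfsg.pCore p G) ≤ E.im (x * E.ι g) (Zs S) := by
    intro v hv'
    refine Lx.fix a (hxy ha) haQ v hv'.1 ?_
    rw [commutatorElement_eq_one_iff_mul_comm.mpr (Ly.comm v hv'.2 a ha).symm]; exact one_mem _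
  have hnorm : E.im x (Vz S) ≤ normalizer (E.im y (Cfsg.pCore p G) : Set Γ) := fun v hv' =>
    mem_normalizer_fintype (fun q hq => Ly.normQ v (Ly.S_le (hyx hv')) q hq)
  have h1 := Grp.card_sup_mul_card_inf hnorm
  have hsup : E.im x (Vz S) ⊔ E.im y (Cfsg.pCore p G) ≤ E.im (y * E.ι g') (S : Subgroup G) := sup_le hyx Ly.Q_le_S
  have h2 := card_le_of_le hsup
  have h3 := card_le_of_le hsub
  rw [Ly.cardQ] at h2
  rw [Lx.cardV] at h1
  have hq : 0 < Fintype.card F := Fintype.card_pos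
  have hQ0 : 0 < Nat.card (E.im y (Cfsg.pCore p G)) := Nat.card_pos
  have hI0 : 0 < Nat.card ↥(E.im x (Vz S) ⊓ E.im y (Cfsg.pCore p G)) := Nat.card_pos
  have e1 : Nat.card ↥(E.im x (Vz S) ⊓ E.im y (Cfsg.pCore p G)) = Nat.card (E.im (x * E.ι g) (Zs S)) := by
    refine le_antisymm h3 (Nat.le_of_mul_le_mul_left ?_ (Nat.mul_pos hq hQ0))
    calc _ = Fintype.card F * Nat.card (E.im (x * E.ι g) (Zs S)) * Nat.card (E.im y (Cfsg.pCore p G)) := by ring
      _ = _ := h1.symm
      _ ≤ _ := Nat.mul_le_mul_right _ h2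
  refine ⟨eq_of_le_of_card_ge hsub e1.ge, fun s hs => ?_⟩
  have h4 : E.im x (Vz S) ⊔ E.im y (Cfsg.pCore p G) = E.im (y * E.ι g') (S : Subgroup G) := by
    refine eq_of_le_of_card_ge hsup ?_
    rw [Ly.cardQ]
    refine Nat.le_of_mul_le_mul_right (le_of_eq ?_) hI0
    rw [h1, e1]; ring
  rw [← h4, ← SetLike.mem_coe, coe_mul_of_left_le_normalizer_right _ _ hnorm] at hs
  obtain ⟨v, hv', q, hq', rfl⟩ := hs
  exact ⟨v, hv', by simpa using hq'⟩

theorem exists_crit (hv : IsVertex fr) [Finite Γ] {x y : Γ} {g g' : G}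
    (hxy : E.im y (Vz S) ≤ E.im (x * E.ι g) (S : Subgroup G))
    (hyx : E.im x (Vz S) ≤ E.im (y * E.ι g') (S : Subgroup G)) (hb : E.Bad x y) : E.Crit x g y g' := by
  have hb' := bad_symm hv hxy hb
  obtain ⟨h1, h2⟩ := crit_half hv hxy hyx hb
  obtain ⟨h3, h4⟩ := crit_half hv hyx hxy hb'
  exact ⟨hxy, hyx, SetLike.not_le_iff_exists.mp hb, SetLike.not_le_iff_exists.mp hb', h1, h3, h4, h2⟩

/-- No critical pair at a smaller distance than `b`. -/
def Small (E : Emb S Γ) (b : ℕ) : Prop := ∀ k x y, k < b → E.Near k x y → E.im y (Vz S) ≤ E.im x (Cfsg.pCore p G)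

theorem Small.le_hub {b : ℕ} (hs : E.Small b) (hv : IsVertex fr) {x : Γ} {g : G} {h : Γ} (hh : h ∈ E.Hn) {y : Γ}
    {k : ℕ} (hk : k < b) (hn : E.Near k (x * E.ι g * h) y) : E.im y (Vz S) ≤ E.im (x * E.ι g) (S : Subgroup G) := by
  refine (hs k _ y hk hn).trans ?_
  have L := E.exists_local hv (x * E.ι g * h) 1
  have h1 := L.Q_le_S
  rw [at_one, im_of_mul x g hh] at h1
  exact h1

/-- A critical pair extends beyond an end through every hub of another class. -/
theorem exists_next (hd : NoChar S) (hv : IsVertex fr) {b : ℕ} (hs : E.Small b) {x x₁ y : Γ}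
    {g g' g'' : G} {h : Γ} (hh : h ∈ E.Hn) (hx₁ : x₁ = x * E.ι g * h) {k : ℕ} (hk : k + 1 = b)
    (hn : E.Near k x₁ y) (hc : E.Crit x g y g') (hg : g'⁻¹ * g'' ∉ fr.M) :
    ∃ h' ∈ E.Hn, E.Bad x₁ (y * E.ι g'' * h') := by
  by_contra hall
  push Not at hall
  unfold Bad at hall
  push Not at hall
  obtain ⟨W, hW⟩ : ∃ W, W = ⨆ h : E.Hn, E.im (y * E.ι g'' * (h : Γ)) (Vz S) := ⟨_, rfl⟩
  have Lx := E.exists_local hv x g
  have Ly := E.exists_local hv y g'
  have Ly'' := E.exists_local hv y g''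
  haveI : (Vz S).Normal := normalClosure_normal
  have hVyW : E.im y (Vz S) ≤ W := fun v hv' => hW ▸ Subgroup.mem_iSup_of_mem ⟨1, one_mem _⟩ (by
    rw [mul_one, E.im_mul_normal]; exact hv')
  let N : Subgroup Γ :=
    { carrier := {a | (∀ w ∈ W, a * w * a⁻¹ ∈ W) ∧ ∀ w ∈ W, a⁻¹ * w * a ∈ W}
      one_mem' := ⟨fun w hw => by simpa using hw, fun w hw => by simpa using hw⟩
      mul_mem' := by
        rintro a b ⟨ha, ha'⟩ ⟨hb, hb'⟩
        refine ⟨fun w hw => ?_, fun w hw => ?_⟩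
        · rw [show a * b * w * (a * b)⁻¹ = a * (b * w * b⁻¹) * a⁻¹ by group]; exact ha _ (hb w hw)
        · rw [show (a * b)⁻¹ * w * (a * b) = b⁻¹ * (a⁻¹ * w * a) * b by group]; exact hb' _ (ha' w hw)
      inv_mem' := by
        rintro a ⟨ha, ha'⟩
        exact ⟨fun w hw => by rw [inv_inv]; exact ha' w hw, fun w hw => by rw [inv_inv]; exact ha w hw⟩ }
  have hgen : ∀ (T : Subgroup Γ), (∀ t ∈ T, ∀ h' : E.Hn, ∀ w ∈ E.im (y * E.ι g'' * (h' : Γ)) (Vz S), t * w * t⁻¹ ∈ W) →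
      T ≤ N := by
    intro T hT t ht
    have key : ∀ t ∈ T, ∀ w ∈ W, t * w * t⁻¹ ∈ W := by
      intro t ht w hw
      suffices h' : W ≤ W.comap (MulAut.conj t).toMonoidHom from h' hw
      conv_lhs => rw [hW]
      exact iSup_le fun h' w hw => hT t ht h' w hw
    exact ⟨key t ht, fun w hw => by simpa using key t⁻¹ (inv_mem ht) w hw⟩
  have hN1 : E.im x (Vz S) ≤ N := by
    refine hgen _ fun a ha h' w hw => ?_
    have hwQ : w ∈ E.im x₁ (Cfsg.pCore p G) := hall _ h'.2 hw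
    have hwS : w ∈ E.im (x * E.ι g) (S : Subgroup G) := by
      have h1 := (E.exists_local hv x₁ 1).Q_le_S hwQ
      rwa [at_one, hx₁, im_of_mul x g hh] at h1
    obtain ⟨v, hv', hq⟩ := hc.decompL w hwS
    obtain ⟨q, hqdef⟩ : ∃ q, q = v⁻¹ * w := ⟨_, rfl⟩
    rw [← hqdef] at hq
    have hwe : w = v * q := by rw [hqdef]; group
    have hqa : q * a = a * q := Lx.comm q hq a ha
    have hcomm : ⁅a, v⁆ ∈ W := hVyW (mul_mem (Ly.normV a (Ly.S_le (hc.right ha)) v hv') (inv_mem hv'))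
    have hwW : w ∈ W := hW ▸ Subgroup.mem_iSup_of_mem h' hw
    rw [show a * w * a⁻¹ = ⁅a, v⁆ * w by
      rw [hwe, commutatorElement_def]
      calc a * (v * q) * a⁻¹ = a * v * a⁻¹ * (a * q * a⁻¹) := by group
        _ = a * v * a⁻¹ * q := by rw [← hqa, mul_inv_cancel_right]
        _ = _ := by group]
    exact mul_mem hcomm hwW
  have hN2 : E.im (y * E.ι g'') (S : Subgroup G) ≤ N :=
    hgen _ fun s hs' h' w hw => hW ▸ Subgroup.mem_iSup_of_mem h' (conj_member hv h'.2 hs' hw)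
  obtain ⟨a, ha, haQ⟩ := hc.moveR
  have hle : E.im y ⊤ ≤ N := Ly.gen g'' hg a (hc.right ha) haQ N (hN1 ha) hN2
  refine no_normal_hub hd hv (y * E.ι g'') hW fun a ha w hw => (hle ?_).1 w hw
  rw [E.im_mul_normal] at ha
  exact ha

/-- A path all of whose pairs at distance `b` are critical. -/
structure Line (E : Emb S Γ) (fr : Frame S F) (b N : ℕ) where
  x : ℕ → Γ
  g : ℕ → G
  h : ℕ → Γ
  h_mem : ∀ i, i < N → h i ∈ E.Hn
  step : ∀ i, i < N → x (i + 1) = x i * E.ι (g i) * h i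
  turn : ∀ i, i < N → g i ∉ fr.M
  bad : ∀ i, i + b ≤ N → E.Bad (x i) (x (i + b))

theorem near_of_step {x : ℕ → Γ} {g : ℕ → G} {h : ℕ → Γ} {N : ℕ} (hh : ∀ i, i < N → h i ∈ E.Hn)
    (hs : ∀ i, i < N → x (i + 1) = x i * E.ι (g i) * h i) : ∀ {i j : ℕ}, i ≤ j → j ≤ N → E.Near (j - i) (x i) (x j) := by
  intro i j hij
  induction hij with
  | refl => intro _; rw [Nat.sub_self]; exact near_refl _
  | step hle ih =>
    rename_i j
    intro hjN
    rw [Nat.succ_eq_add_one, Nat.sub_add_comm hle]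
    exact near_trans (ih (by omega)) (hs j (by omega) ▸ near_step (x j) (g j) (hh j (by omega)))

theorem exists_seed : ∀ (k : ℕ) (x y : Γ), E.Near k x y → ∃ (f : ℕ → Γ) (g : ℕ → G) (h : ℕ → Γ),
    f 0 = x ∧ (∀ i, i < k → h i ∈ E.Hn) ∧ (∀ i, i < k → f (i + 1) = f i * E.ι (g i) * h i) ∧
      ∃ a : G, y = f k * E.ι a := by
  intro k
  induction k with
  | zero =>
    rintro x y ⟨a, rfl⟩
    exact ⟨fun _ => x, fun _ => 1, fun _ => 1, rfl, fun i hi => absurd hi (Nat.not_lt_zero i),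
      fun i hi => absurd hi (Nat.not_lt_zero i), a, rfl⟩
  | succ k ih =>
    rintro x y ⟨g₀, h₀, hh₀, hn⟩
    obtain ⟨f, g, h, hf0, hh, hs, a, ha⟩ := ih _ _ hn
    refine ⟨fun i => Nat.casesOn i x f, fun i => Nat.casesOn i g₀ g, fun i => Nat.casesOn i h₀ h, rfl,
      fun i hi => ?_, fun i hi => ?_, a, ha⟩
    · cases i with
      | zero => exact hh₀
      | succ i => exact hh i (by omega)
    · cases i with
      | zero => exact hf0
      | succ i => exact hs i (by omega)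

theorem exists_line (hd : NoChar S) (hv : IsVertex fr) [Finite Γ] (E : Emb S Γ) :
    ∃ b, 1 ≤ b ∧ E.Small b ∧ ∀ N, Nonempty (E.Line fr b N) := by
  classical
  obtain ⟨b, ⟨x₀, y₀, hnear, hbad⟩, hmin⟩ : ∃ b, (∃ x y, E.Near b x y ∧ E.Bad x y) ∧
      ∀ k, k < b → ¬ ∃ x y, E.Near k x y ∧ E.Bad x y :=
    ⟨_, Nat.find_spec (exists_bad hd hv), fun k hk => Nat.find_min (exists_bad hd hv) hk⟩
  have hs : E.Small b := fun k x y hk hn => by
    by_contra h'; exact hmin k hk ⟨x, y, hn, h'⟩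
  haveI : (Vz S).Normal := normalClosure_normal
  haveI : (Cfsg.pCore p G).Normal := Grp.pCore_isNormal
  have hb1 : 1 ≤ b := by
    by_contra h0
    obtain rfl : b = 0 := by omega
    obtain ⟨g, rfl⟩ := hnear
    refine hbad ?_
    rw [E.im_mul_normal]
    exact E.im_mono hv.le_core
  refine ⟨b, hb1, hs, ?_⟩
  -- paths whose turns are arbitrary before `b`
  have hpath : ∀ n, ∃ (f : ℕ → Γ) (g : ℕ → G) (h : ℕ → Γ), (∀ i, i < b + n → h i ∈ E.Hn) ∧
      (∀ i, i < b + n → f (i + 1) = f i * E.ι (g i) * h i) ∧ (∀ i, b ≤ i → i < b + n → g i ∉ fr.M) ∧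
      ∀ i, i ≤ n → E.Bad (f i) (f (i + b)) := by
    intro n
    induction n with
    | zero =>
      obtain ⟨f, g, h, hf0, hh, hst, a, ha⟩ := exists_seed b x₀ y₀ hnear
      refine ⟨f, g, h, fun i hi => hh i (by omega), fun i hi => hst i (by omega), fun i h1 h2 => by omega, fun i hi => ?_⟩
      obtain rfl : i = 0 := by omega
      rw [hf0, Nat.zero_add]
      intro hle
      refine hbad ?_
      rw [ha, E.im_mul_normal]
      exact hle
    | succ n ih =>
      obtain ⟨f, g, h, hh, hst, hturn, hbd⟩ := ih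
      have hnear' : ∀ i j, i ≤ j → j ≤ b + n → E.Near (j - i) (f i) (f j) := fun i j => near_of_step hh hst
      obtain ⟨m, hm⟩ : ∃ m, n + b = m + 1 := ⟨n + b - 1, by omega⟩
      have hend : f (n + b) = f m * E.ι (g m) * h m := by rw [hm]; exact hst m (by omega)
      have hcrit : E.Crit (f n) (g n) (f (n + b)) 1 := by
        refine exists_crit hv ?_ ?_ (hbd n le_rfl)
        · refine hs.le_hub hv (hh n (by omega)) (k := b - 1) (by omega) ?_
          rw [← hst n (by omega), show b - 1 = (n + b) - (n + 1) by omega]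
          exact hnear' _ _ (by omega) (by omega)
        · rw [at_one, hend, im_of_mul _ _ (hh m (by omega))]
          refine (hs (b - 1) (f m) (f n) (by omega) (near_symm (by
            rw [show b - 1 = m - n by omega]; exact hnear' _ _ (by omega) (by omega)))).trans ?_
          exact (E.exists_local hv (f m) (g m)).Q_le_S
      obtain ⟨h', hh', hb'⟩ := exists_next hd hv hs (g'' := fr.w) (hh n (by omega)) (hst n (by omega))
        (k := b - 1) (by omega) (by
          rw [show b - 1 = (n + b) - (n + 1) by omega]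
          exact hnear' _ _ (by omega) (by omega)) hcrit (by simpa using fr.w_not)
      refine ⟨fun i => if i ≤ n + b then f i else f (n + b) * E.ι fr.w * h',
        fun i => if i < n + b then g i else fr.w, fun i => if i < n + b then h i else h', ?_, ?_, ?_, ?_⟩
      · intro i hi; dsimp only; split
        · exact hh i (by omega)
        · exact hh'
      · intro i hi
        dsimp only
        by_cases hi' : i < n + b
        · rw [if_pos (by omega), if_pos (by omega), if_pos hi', if_pos hi']; exact hst i (by omega)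
        · obtain rfl : i = n + b := by omega
          rw [if_neg (by omega), if_pos le_rfl, if_neg hi', if_neg hi']
      · intro i h1 h2; dsimp only; split
        · exact hturn i h1 (by omega)
        · exact fr.w_not
      · intro i hi
        dsimp only
        by_cases hin : i ≤ n
        · rw [if_pos (by omega), if_pos (by omega)]; exact hbd i hin
        · obtain rfl : i = n + 1 := by omega
          rw [if_pos (by omega), if_neg (by omega)]
          exact hb'
  intro N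
  obtain ⟨f, g, h, hh, hst, hturn, hbd⟩ := hpath (b + N)
  refine ⟨{ x := fun i => f (b + i), g := fun i => g (b + i), h := fun i => h (b + i),
            h_mem := fun i hi => hh _ (by omega), step := fun i hi => hst (b + i) (by omega),
            turn := fun i hi => hturn _ (by omega) (by omega), bad := fun i hi => ?_ }⟩
  show E.Bad (f (b + i)) (f (b + (i + b)))
  rw [← Nat.add_assoc]
  exact hbd (b + i) (by omega)

end Emb

end Cfsg.Agent.Invol.PushUp
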