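import Mathlib
import Cfsg.Agent.Lib.Invol.PushUp.Vertex

/-!
# The second natural module at an interior vertex
-/

set_option autoImplicit false
set_option linter.style.haveILetI false
set_option linter.unusedSectionVars false

namespace Cfsg.Agent.Invol.PushUp

open Subgroup
open scoped commutatorElement

universe u

variable {G : Type u} [Group G] [Finite G] {p : ℕ} [hp : Fact p.Prime]
variable {S : Sylow p G} {F : Type} [Field F] [Fintype F]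

/-- The elements of `U` fixed modulo `W` by every element. -/
def fixMod (U W : Subgroup G) [hW : W.Normal] : Subgroup G where
  carrier := {u | u ∈ U ∧ ∀ g : G, ⁅g, u⁆ ∈ W}
  one_mem' := ⟨one_mem _, fun g => by rw [commutatorElement_one_right]; exact one_mem _⟩
  mul_mem' := by
    rintro a b ⟨ha, ha'⟩ ⟨hb, hb'⟩
    refine ⟨mul_mem ha hb, fun g => ?_⟩
    rw [show ⁅g, a * b⁆ = ⁅g, a⁆ * (a * ⁅g, b⁆ * a⁻¹) by simp only [commutatorElement_def]; group]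
    exact mul_mem (ha' g) (hW.conj_mem _ (hb' g) a)
  inv_mem' := by
    rintro a ⟨ha, ha'⟩
    refine ⟨inv_mem ha, fun g => ?_⟩
    rw [show ⁅g, a⁻¹⁆ = a⁻¹ * ⁅g, a⁆⁻¹ * a⁻¹⁻¹ by simp only [commutatorElement_def]; group]
    exact hW.conj_mem _ (inv_mem (ha' g)) _

/-- The hypotheses at an interior vertex. -/
structure MidHyp (fr : Frame S F) (U V₀ L : Subgroup G) (a : G) : Prop where
  normalU : U.Normal
  U_le : U ≤ Cfsg.pCore p G
  V_le : Vz S ≤ U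
  V₀_le : V₀ ≤ U
  L_le : L ≤ U
  V_le_L : Vz S ≤ L
  turn : a ∉ fr.M
  quad : ∀ x ∈ Cfsg.pCore p G, ∀ u ∈ U, ⁅x, u⁆ ∈ Vz S
  decomp : ∀ u ∈ U, ∃ v ∈ V₀, v⁻¹ * u ∈ L
  Z_le : ∀ z ∈ Zs S, a * z * a⁻¹ ∈ V₀
  inf_le : ∀ v ∈ V₀, v ∈ L → ∃ z ∈ Zs S, v = a * z * a⁻¹
  card_V₀ : Nat.card V₀ = Fintype.card F * Nat.card (Zs S)
  fixA : ∀ s ∈ (S : Subgroup G), ∀ v ∈ V₀, ⁅a * s * a⁻¹, v⁆ ∈ Vz S
  fixL : ∀ s ∈ (S : Subgroup G), ∀ l ∈ L, ⁅s, l⁆ ∈ Vz S
  moveU : ∀ s ∈ (S : Subgroup G), ∀ u ∈ U, ⁅s, u⁆ ∈ L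
  nontriv : ∃ u ∈ U, ∃ g : G, ⁅g, u⁆ ∉ Vz S

/-- The conclusions at an interior vertex. -/
structure Mid (fr : Frame S F) (U V₀ L F₀ : Subgroup G) (a : G) : Prop where
  normalF : F₀.Normal
  memF : ∀ u, u ∈ F₀ ↔ u ∈ U ∧ ∀ g : G, ⁅g, u⁆ ∈ Vz S
  V_le_F : Vz S ≤ F₀
  F_le_L : F₀ ≤ L
  nat : ∃ (_ : F₀.Normal) (ρ : G →* Matrix.SpecialLinearGroup (Fin 2) F), IsLineSection fr U L F₀ ∧ IsNatSection fr U L F₀ ρ
  infF : ∀ v ∈ V₀, v ∈ F₀ → ∃ z ∈ Zs S, v = a * z * a⁻¹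
  memA : ∀ v ∈ V₀, a⁻¹ * v * a ∈ L
  lineA : ∀ l ∈ L, ∃ v ∈ V₀, v⁻¹ * (a * l * a⁻¹) ∈ F₀

theorem MidHyp.exists_mid (fr : Frame S F) {U V₀ L : Subgroup G} {a : G} (h : MidHyp fr U V₀ L a) :
    ∃ F₀, Mid fr U V₀ L F₀ a := by
  classical
  haveI hVn : (Vz S).Normal := normalClosure_normal
  haveI := h.normalU
  obtain ⟨F₀, hF₀⟩ : ∃ F₀, F₀ = fixMod U (Vz S) := ⟨_, rfl⟩
  have hmemF : ∀ u, u ∈ F₀ ↔ u ∈ U ∧ ∀ g : G, ⁅g, u⁆ ∈ Vz S := fun u => by rw [hF₀]; rfl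
  have hVF : Vz S ≤ F₀ := fun v hv => (hmemF v).mpr ⟨h.V_le hv, fun g => by
    rw [commutatorElement_def]; exact mul_mem (hVn.conj_mem v hv g) (inv_mem hv)⟩
  haveI hFn : F₀.Normal := ⟨fun u hu g => by
    refine (hmemF _).mpr ⟨h.normalU.conj_mem u ((hmemF u).mp hu).1 g, fun k => ?_⟩
    rw [show ⁅k, g * u * g⁻¹⁆ = g * ⁅g⁻¹ * k * g, u⁆ * g⁻¹ by simp only [commutatorElement_def]; group]
    exact hVn.conj_mem _ (((hmemF u).mp hu).2 _) g⟩
  have hFU : F₀ ≤ U := fun u hu => ((hmemF u).mp hu).1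
  obtain ⟨L', hL'⟩ : ∃ L', L' = L ⊔ F₀ := ⟨_, rfl⟩
  have hL'U : L' ≤ U := hL' ▸ sup_le h.L_le hFU
  have hmemL' : ∀ x, x ∈ L' ↔ ∃ l ∈ L, ∃ f ∈ F₀, l * f = x := fun x => by
    rw [hL', ← SetLike.mem_coe, Subgroup.mul_normal L F₀]; exact Set.mem_mul
  have hfix' : ∀ s ∈ (S : Subgroup G), ∀ x ∈ L', ⁅s, x⁆ ∈ Vz S := fun s hs x hx => by
    obtain ⟨l, hl, f, hf, rfl⟩ := (hmemL' x).mp hx
    rw [show ⁅s, l * f⁆ = ⁅s, l⁆ * (l * ⁅s, f⁆ * l⁻¹) by simp only [commutatorElement_def]; group]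
    exact mul_mem (h.fixL s hs l hl) (hVn.conj_mem _ (((hmemF f).mp hf).2 s) l)
  -- some element of `V₀` lies outside `L'`
  obtain ⟨v, hvV, hvL⟩ : ∃ v ∈ V₀, v ∉ L' := by
    by_contra hc
    push Not at hc
    obtain ⟨u, hu, g, hg⟩ := h.nontriv
    let N : Subgroup G :=
      { carrier := {g | ∀ u ∈ U, ⁅g, u⁆ ∈ Vz S}
        one_mem' := fun u _ => by rw [commutatorElement_one_left]; exact one_mem _
        mul_mem' := by
          intro x y hx hy u hu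
          rw [show ⁅x * y, u⁆ = x * ⁅y, u⁆ * x⁻¹ * ⁅x, u⁆ by simp only [commutatorElement_def]; group]
          exact mul_mem (hVn.conj_mem _ (hy u hu) x) (hx u hu)
        inv_mem' := by
          intro x hx u hu
          rw [show ⁅x⁻¹, u⁆ = x⁻¹ * ⁅x, u⁆⁻¹ * x⁻¹⁻¹ by simp only [commutatorElement_def]; group]
          exact hVn.conj_mem _ (inv_mem (hx u hu)) _ }
    have hSN : ∀ s ∈ (S : Subgroup G), s ∈ N := fun s hs u hu => by
      obtain ⟨v, hv, hvu⟩ := h.decomp u hu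
      refine hfix' s hs u ?_
      have h1 := mul_mem (hc v hv) (hL' ▸ mem_sup_left hvu)
      simpa using h1
    haveI : N.Normal := ⟨fun x hx g u hu => by
      rw [show ⁅g * x * g⁻¹, u⁆ = g * ⁅x, g⁻¹ * u * g⁆ * g⁻¹ by simp only [commutatorElement_def]; group]
      exact hVn.conj_mem _ (hx _ (by simpa using h.normalU.conj_mem u hu g⁻¹)) g⟩
    exact hg ((fr.gen_conj fr.w_not N hSN fun s hs => (inferInstance : N.Normal).conj_mem s (hSN s hs) fr.w).ge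
      (mem_top g) u hu)
  -- the hom attached to an element fixed modulo `F₀`
  have hnofix : ∀ (x : G), x ∈ U → (∀ g : G, ⁅g, x⁆ ∈ F₀) → (∀ b : G, b ∉ fr.M →
      (∀ s ∈ (S : Subgroup G), ⁅b * s * b⁻¹, x⁆ ∈ Vz S) → x ∈ F₀) ∧
      ((∀ s ∈ (S : Subgroup G), ⁅s, x⁆ ∈ Vz S) → x ∈ F₀) := by
    intro x hxU hall
    obtain ⟨π, hπ⟩ : ∃ π, π = QuotientGroup.mk' (Vz S) := ⟨_, rfl⟩
    have hπ1 : ∀ y, π y = 1 ↔ y ∈ Vz S := fun y => hπ ▸ QuotientGroup.eq_one_iff y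
    have hcen : ∀ g y, y ∈ F₀ → π g * π y * (π g)⁻¹ = π y := fun g y hy => by
      rw [mul_inv_eq_iff_eq_mul, ← commutatorElement_eq_one_iff_mul_comm, ← map_commutatorElement, hπ1]
      exact ((hmemF y).mp hy).2 g
    let δ : G →* G ⧸ Vz S :=
      { toFun := fun g => π ⁅g, x⁆
        map_one' := by rw [commutatorElement_one_left, map_one]
        map_mul' := fun g k => by
          rw [show ⁅g * k, x⁆ = g * ⁅k, x⁆ * g⁻¹ * ⁅g, x⁆ by simp only [commutatorElement_def]; group, map_mul, map_mul,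
            map_mul, map_inv, hcen g _ (hall k), ← mul_inv_eq_iff_eq_mul]
          exact hcen _ _ (hall g) }
    have key : ∀ b : G, (∀ s ∈ (S : Subgroup G), ⁅b * s * b⁻¹, x⁆ ∈ Vz S) → x ∈ F₀ := by
      intro b hb
      have hk : ∀ g s, s ∈ (S : Subgroup G) → g * (b * s * b⁻¹) * g⁻¹ ∈ δ.ker := fun g s hs =>
        δ.normal_ker.conj_mem _ ((hπ1 _).mpr (hb s hs)) g
      have hS : ∀ s ∈ (S : Subgroup G), s ∈ δ.ker := fun s hs => by simpa [mul_assoc] using hk b⁻¹ s hs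
      have htop := fr.gen_conj fr.w_not δ.ker hS fun s hs => δ.normal_ker.conj_mem s (hS s hs) fr.w
      exact (hmemF x).mpr ⟨hxU, fun g => (hπ1 _).mp (htop.ge (mem_top g))⟩
    exact ⟨fun b _ => key b, fun hs => key 1 fun s hs' => by simpa using hs s hs'⟩
  have hcardL : Fintype.card F * Nat.card F₀ ≤ Nat.card L' := by
    rw [card_eq_map_mul F₀ L' (hL' ▸ le_sup_right)]
    refine Nat.mul_le_mul_right _ ?_
    rw [← Nat.card_eq_fintype_card]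
    have hmove : ∀ t, ⁅fr.σ t, v⁆ ∈ L' := fun t =>
      hL' ▸ mem_sup_left (h.moveU _ (fr.σ_mem t) v (h.V₀_le hvV))
    let φ : F → L'.map (QuotientGroup.mk' F₀) := fun t => ⟨QuotientGroup.mk' F₀ ⁅fr.σ t, v⁆, _, hmove t, rfl⟩
    refine Nat.card_le_card_of_injective φ fun t u he => ?_
    have he' : QuotientGroup.mk' F₀ ⁅fr.σ t, v⁆ = QuotientGroup.mk' F₀ ⁅fr.σ u, v⁆ := congrArg Subtype.val he
    by_contra hne
    obtain ⟨π, hπ⟩ : ∃ π, π = QuotientGroup.mk' F₀ := ⟨_, rfl⟩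
    rw [← hπ] at he'
    obtain ⟨c, hcd⟩ : ∃ c, c = (fr.σ u)⁻¹ * fr.σ t := ⟨_, rfl⟩
    have hcQ : c ∉ Cfsg.pCore p G := by
      intro hcQ'
      refine hne ?_
      have h1 := fr.σ_add u (t - u)
      rw [add_sub_cancel] at h1
      have h2 : fr.σ (t - u) ∈ Cfsg.pCore p G := by
        have h3 := mul_mem hcQ' h1
        rwa [hcd, show (fr.σ u)⁻¹ * fr.σ t * ((fr.σ t)⁻¹ * (fr.σ u * fr.σ (t - u))) = fr.σ (t - u) by group] at h3
      exact sub_eq_zero.mp (fr.σ_eq_zero _ h2)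
    have hcv : π c * π v * (π c)⁻¹ = π v := by
      rw [map_commutatorElement, map_commutatorElement, commutatorElement_def, commutatorElement_def] at he'
      have h1 : π (fr.σ t) * π v * (π (fr.σ t))⁻¹ = π (fr.σ u) * π v * (π (fr.σ u))⁻¹ := mul_right_cancel he'
      rw [hcd, map_mul, map_inv]
      calc (π (fr.σ u))⁻¹ * π (fr.σ t) * π v * ((π (fr.σ u))⁻¹ * π (fr.σ t))⁻¹
          = (π (fr.σ u))⁻¹ * (π (fr.σ t) * π v * (π (fr.σ t))⁻¹) * π (fr.σ u) := by group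
        _ = _ := by rw [h1]; group
    let H : Subgroup G :=
      { carrier := {g | π g * π v * (π g)⁻¹ = π v}
        one_mem' := by simp
        mul_mem' := by
          intro x y (hx : π x * π v * (π x)⁻¹ = π v) (hy : π y * π v * (π y)⁻¹ = π v)
          show π (x * y) * π v * (π (x * y))⁻¹ = π v
          calc _ = π x * (π y * π v * (π y)⁻¹) * (π x)⁻¹ := by rw [map_mul]; group
            _ = _ := by rw [hy, hx]
        inv_mem' := by
          intro x (hx : π x * π v * (π x)⁻¹ = π v)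
          show π x⁻¹ * π v * (π x⁻¹)⁻¹ = π v
          conv_lhs => rw [← hx]
          rw [map_inv]; group }
    have htop : H = ⊤ := by
      refine fr.gen c (mul_mem (inv_mem (fr.σ_mem u)) (fr.σ_mem t) |> hcd.symm.subst) hcQ a h.turn H hcv fun s hs => ?_
      exact (hπ ▸ mk_commutator F₀ _ v).mpr (hVF (h.fixA s hs v hvV))
    exact hvL (hL' ▸ mem_sup_right ((hnofix v (h.V₀_le hvV) fun g => (hπ ▸ mk_commutator F₀ g v).mp
      (htop.ge (mem_top g))).1 a h.turn fun s hs => h.fixA s hs v hvV))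
  have hZc : Nat.card ↥(V₀ ⊓ L) = Nat.card (Zs S) := by
    rw [← card_map_of_injective (K := Zs S) (f := (MulAut.conj a).toMonoidHom) (MulAut.conj a).injective]
    refine congrArg (fun X : Subgroup G => Nat.card X) (le_antisymm ?_ ?_)
    · rintro x ⟨hx, hx'⟩
      obtain ⟨z, hz, rfl⟩ := h.inf_le x hx hx'
      exact ⟨z, hz, rfl⟩
    · rintro _ ⟨z, hz, rfl⟩
      exact ⟨h.Z_le z hz, h.V_le_L (hVn.conj_mem z (le_normalClosure hz) a)⟩
  have hUle : Nat.card U ≤ Fintype.card F * Nat.card L := by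
    let φ : (↥V₀ × ↥L) → G := fun x => (x.1 : G) * (x.2 : G)
    let ψ : ↥(V₀ ⊓ L) × ↥U → ↥V₀ × ↥L := fun x =>
      (⟨(h.decomp x.2 x.2.2).choose * (x.1 : G), mul_mem (h.decomp x.2 x.2.2).choose_spec.1 x.1.2.1⟩,
        ⟨(x.1 : G)⁻¹ * ((h.decomp x.2 x.2.2).choose⁻¹ * (x.2 : G)),
          mul_mem (inv_mem x.1.2.2) (h.decomp x.2 x.2.2).choose_spec.2⟩)
    have hψ : Function.Injective ψ := by
      rintro ⟨z, u⟩ ⟨z', u'⟩ he
      have hu : (u : G) = u' := by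
        have h1 : φ (ψ (z, u)) = φ (ψ (z', u')) := congrArg φ he
        simp only [φ, ψ] at h1
        simpa [mul_assoc] using h1
      obtain rfl : u = u' := Subtype.ext hu
      have h2 := congrArg (fun x : ↥V₀ × ↥L => (x.1 : G)) he
      exact Prod.ext (Subtype.ext (mul_left_cancel h2)) rfl
    have hle := Nat.card_le_card_of_injective ψ hψ
    rw [Nat.card_prod, Nat.card_prod, hZc, h.card_V₀, mul_assoc, mul_left_comm] at hle
    exact Nat.le_of_mul_le_mul_left hle Nat.card_pos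
  have hLL' : L ≤ L' := hL' ▸ le_sup_left
  have hline : IsLineSection fr U L' F₀ := by
    refine ⟨h.normalU, hFn, hL' ▸ le_sup_right, hL'U, fun x hx y hy => hVF (h.quad x (h.U_le hx) y hy),
      fun x hx u hu => hVF (h.quad x hx u hu), fun s hs l hl => hVF (hfix' s hs l hl),
      fun s hs u hu => hLL' (h.moveU s hs u hu),
      fun l hl hall => (hnofix l (hL'U hl) hall).2 (fun s hs => hfix' s hs l hl),
      hcardL, hUle.trans (Nat.mul_le_mul_left _ (card_le_of_le hLL'))⟩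
  obtain ⟨ρ, hρ⟩ := hline.natural_section fr
  have hLeq : L = L' := by
    refine eq_of_le_of_card_ge hLL' (Nat.le_of_mul_le_mul_left ?_ (Fintype.card_pos (α := F)))
    rw [← hρ.card_U]; exact hUle
  subst hLeq
  have hFL : F₀ ≤ L := hL'.ge.trans' le_sup_right
  have hinfF : ∀ x ∈ V₀, x ∈ F₀ → ∃ z ∈ Zs S, x = a * z * a⁻¹ := fun x hx hxF => h.inf_le x hx (hFL hxF)
  have hmemA : ∀ x ∈ V₀, a⁻¹ * x * a ∈ L := fun x hx => by
    refine hρ.fix (fr.σ 1) (fr.σ_mem 1) (fun h' => one_ne_zero (fr.σ_eq_zero 1 h')) _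
      (by simpa using h.normalU.conj_mem x (h.V₀_le hx) a⁻¹) (hVF ?_)
    rw [show ⁅fr.σ 1, a⁻¹ * x * a⁆ = a⁻¹ * ⁅a * fr.σ 1 * a⁻¹, x⁆ * a⁻¹⁻¹ by simp only [commutatorElement_def]; group]
    exact hVn.conj_mem _ (h.fixA _ (fr.σ_mem 1) x hx) _
  refine ⟨F₀, hFn, hmemF, hVF, hFL, ⟨hFn, ρ, hline, hρ⟩, hinfF, hmemA, fun l hl => ?_⟩
  have hsup : V₀ ⊔ F₀ = L.map (MulAut.conj a).toMonoidHom := by
    refine eq_of_le_of_card_ge (sup_le (fun x hx => ⟨_, hmemA x hx, by simp [mul_assoc]⟩)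
      fun x hx => ⟨a⁻¹ * x * a⁻¹⁻¹, hFL (hFn.conj_mem x hx a⁻¹), by simp [mul_assoc]⟩) ?_
    rw [card_map_of_injective (f := (MulAut.conj a).toMonoidHom) (MulAut.conj a).injective]
    have h1 := Grp.card_sup_mul_card_inf (H := V₀) (N := F₀) (by rw [normalizer_eq_top]; exact le_top)
    have h2 : Nat.card ↥(V₀ ⊓ F₀) ≤ Nat.card (Zs S) := hZc ▸ card_le_of_le (inf_le_inf_left _ hFL)
    refine Nat.le_of_mul_le_mul_right (?_ : _ * Nat.card (Zs S) ≤ _ * Nat.card (Zs S)) Nat.card_pos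
    calc Nat.card L * Nat.card (Zs S) = Nat.card V₀ * Nat.card F₀ := by rw [hρ.card_L, h.card_V₀]; ring
      _ = _ := h1.symm
      _ ≤ _ := Nat.mul_le_mul_left _ h2
  have hal : a * l * a⁻¹ ∈ V₀ ⊔ F₀ := hsup ▸ ⟨l, hl, rfl⟩
  rw [← SetLike.mem_coe, Subgroup.mul_normal V₀ F₀] at hal
  obtain ⟨x, hx, f, hf, he⟩ := Set.mem_mul.mp hal
  exact ⟨x, hx, by rw [← he, inv_mul_cancel_left]; exact hf⟩

end Cfsg.Agent.Invol.PushUp
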