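import Mathlib
import Cfsg.Agent.Lib.Invol.PushUp.Line
import Cfsg.Agent.Lib.Invol.PushUp.Middle

/-!
# The interior vertices of the critical line
-/

set_option autoImplicit false
set_option linter.style.haveILetI false
set_option linter.unusedSectionVars false

namespace Cfsg.Agent.Invol.PushUp

open Subgroup
open scoped commutatorElement

universe u

variable {G : Type u} [Group G] [Finite G] {p : ℕ} [hp : Fact p.Prime]
variable {S : Sylow p G} {F : Type} [Field F] [Fintype F] {fr : Frame S F}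
variable {Γ : Type u} [Group Γ] {E : Emb S Γ}

namespace Emb

theorem im_V_mul (E : Emb S Γ) (x : Γ) (g : G) : E.im (x * E.ι g) (Vz S) = E.im x (Vz S) :=
  haveI : (Vz S).Normal := normalClosure_normal
  E.im_mul_normal x g _

theorem im_Q_mul (E : Emb S Γ) (x : Γ) (g : G) :
    E.im (x * E.ι g) (Cfsg.pCore p G) = E.im x (Cfsg.pCore p G) :=
  haveI : (Cfsg.pCore p G).Normal := Grp.pCore_isNormal
  E.im_mul_normal x g _

theorem im_C_mul (E : Emb S Γ) (x : Γ) (g : G) : E.im (x * E.ι g) (Cz S) = E.im x (Cz S) :=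
  E.im_mul_normal x g _

theorem im_T_mul (E : Emb S Γ) (x : Γ) (g : G) : E.im (x * E.ι g) (⊤ : Subgroup G) = E.im x ⊤ :=
  E.im_mul_normal x g _

theorem bad_mul_left (x y : Γ) (g : G) : E.Bad (x * E.ι g) y ↔ E.Bad x y := by
  rw [Bad, Bad, im_Q_mul]

theorem bad_mul_right (x y : Γ) (g : G) : E.Bad x (y * E.ι g) ↔ E.Bad x y := by
  rw [Bad, Bad, im_V_mul]

theorem Crit.symm {x y : Γ} {g g' : G} (h : E.Crit x g y g') : E.Crit y g' x g :=
  ⟨h.right, h.left, h.moveR, h.moveL, h.infR, h.infL, h.decompR, h.decompL⟩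

/-- Change of representative of the left end. -/
theorem Crit.rebase (hv : IsVertex fr) [Finite Γ] {x y : Γ} {g g' : G} (h : E.Crit x g y g') :
    E.Crit (x * E.ι g) 1 y g' := by
  refine exists_crit hv ?_ ?_ ?_
  · rw [at_one]; exact h.left
  · rw [im_V_mul]; exact h.right
  · rw [bad_mul_left]; exact fun hle => h.moveL.choose_spec.2 (hle h.moveL.choose_spec.1)

/-- The subgroup generated by the modules of all neighbours. -/
def nbrs (E : Emb S Γ) (x : Γ) : Subgroup Γ := ⨆ g : G, ⨆ h : E.Hn, E.im (x * E.ι g * (h : Γ)) (Vz S)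

theorem mem_nbrs {x : Γ} (g : G) {h : Γ} (hh : h ∈ E.Hn) : E.im (x * E.ι g * h) (Vz S) ≤ E.nbrs x :=
  le_iSup_of_le g (le_iSup_of_le ⟨h, hh⟩ le_rfl)

theorem V_le_nbrs (x : Γ) : E.im x (Vz S) ≤ E.nbrs x := by
  have h := mem_nbrs (E := E) (x := x) 1 (one_mem E.Hn)
  rwa [mul_one, at_one] at h

theorem nbrs_le {b : ℕ} (hs : E.Small b) {x y : Γ} {k : ℕ} (hk : k + 1 < b) (hn : E.Near k x y) :
    E.nbrs x ≤ E.im y (Cfsg.pCore p G) :=
  iSup_le fun g => iSup_le fun h => hs (k + 1) y _ hk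
    (near_trans (near_symm hn) (near_step x g h.2))

theorem nbrs_normal (x : Γ) : ∀ a ∈ E.im x ⊤, ∀ u ∈ E.nbrs x, a * u * a⁻¹ ∈ E.nbrs x := by
  intro a ha u hu
  suffices h : E.nbrs x ≤ (E.nbrs x).comap (MulAut.conj a).toMonoidHom from h hu
  refine iSup_le fun g => iSup_le fun h => ?_
  rintro _ ⟨v, hv, rfl⟩
  obtain ⟨c, -, rfl⟩ := ha
  refine mem_nbrs (c * g) h.2 ⟨v, hv, ?_⟩
  simp [Emb.at'_apply, mul_assoc]

theorem nbrs_quad (hv : IsVertex fr) {b : ℕ} (hs : E.Small b) (hb : 2 ≤ b) (x : Γ) :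
    ∀ q ∈ E.im x (Cfsg.pCore p G), ∀ u ∈ E.nbrs x, ⁅q, u⁆ ∈ E.im x (Vz S) := by
  intro q hq u hu
  have hle : E.nbrs x ≤ E.im x (Cfsg.pCore p G) := nbrs_le hs (k := 0) (by omega) (near_refl x)
  have Lx := E.exists_local hv x 1
  let T : Subgroup Γ :=
    { carrier := {u | u ∈ E.im x (Cfsg.pCore p G) ∧ ⁅q, u⁆ ∈ E.im x (Vz S)}
      one_mem' := ⟨one_mem _, by rw [commutatorElement_one_right]; exact one_mem _⟩
      mul_mem' := by
        rintro u v ⟨hu, hu'⟩ ⟨hv', hv''⟩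
        refine ⟨mul_mem hu hv', ?_⟩
        rw [show ⁅q, u * v⁆ = ⁅q, u⁆ * (u * ⁅q, v⁆ * u⁻¹) by simp only [commutatorElement_def]; group]
        exact mul_mem hu' (Lx.normV u (E.im_mono le_top hu) _ hv'')
      inv_mem' := by
        rintro u ⟨hu, hu'⟩
        refine ⟨inv_mem hu, ?_⟩
        rw [show ⁅q, u⁻¹⁆ = u⁻¹ * ⁅q, u⁆⁻¹ * u⁻¹⁻¹ by simp only [commutatorElement_def]; group]
        exact Lx.normV _ (E.im_mono le_top (inv_mem hu)) _ (inv_mem hu') }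
  refine ((iSup_le fun g => iSup_le fun h => ?_ : E.nbrs x ≤ T) hu).2
  intro v hv'
  have Ly := E.exists_local hv (x * E.ι g * (h : Γ)) 1
  have Lg := E.exists_local hv x g
  refine ⟨hle (mem_nbrs g h.2 hv'), ?_⟩
  have h1 : q ∈ E.im (x * E.ι g * (h : Γ) * E.ι 1) (S : Subgroup G) := by
    rw [at_one, im_of_mul x g h.2]; exact Lg.Q_le_S hq
  have h2 := Ly.move q h1 v hv'
  rw [at_one, E.im_Zs_mul_H _ h.2] at h2
  exact Lg.Z_le_V h2

theorem nbrs_nontriv (hd : NoChar S) (hv : IsVertex fr) (x : Γ) :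
    ∃ u ∈ E.nbrs x, ∃ a ∈ E.im x ⊤, ⁅a, u⁆ ∉ E.im x (Vz S) := by
  by_contra hc
  push Not at hc
  refine no_normal_hub hd hv x (W := ⨆ h : E.Hn, E.im (x * (h : Γ)) (Vz S)) rfl fun a ha w hw => ?_
  have hVW : E.im x (Vz S) ≤ ⨆ h : E.Hn, E.im (x * (h : Γ)) (Vz S) :=
    le_iSup_of_le ⟨1, one_mem _⟩ (by rw [mul_one])
  have hWU : ⨆ h : E.Hn, E.im (x * (h : Γ)) (Vz S) ≤ E.nbrs x :=
    iSup_le fun h => by
      have h' := mem_nbrs (E := E) (x := x) 1 h.2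
      rwa [at_one] at h'
  rw [show a * w * a⁻¹ = ⁅a, w⁆ * w by rw [commutatorElement_def]; group]
  exact mul_mem (hVW (hc w (hWU hw) a ha)) hw

/-- Geometry around a turn. -/
structure TurnData (E : Emb S Γ) (fr : Frame S F) (x : Γ) (a : G) (x₀ : Γ) (g₀ : G) (xb : Γ) (gb : G) (z : Γ) (gz : G) :
    Prop where
  turn : a ∉ fr.M
  crit₀ : E.Crit x₀ g₀ xb gb
  crit₁ : E.Crit x 1 z gz
  hubS : E.im (x₀ * E.ι g₀) (S : Subgroup G) = E.im (x * E.ι a) (S : Subgroup G)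
  hubZ : E.im (x₀ * E.ι g₀) (Zs S) = E.im (x * E.ι a) (Zs S)
  Qb_le : E.im xb (Cfsg.pCore p G) ≤ E.im (z * E.ι gz) (S : Subgroup G)
  Vz_le : E.im z (Vz S) ≤ E.im xb (Cfsg.pCore p G)
  Vx_le : E.im x (Vz S) ≤ E.im xb (Cfsg.pCore p G)

/-- The hypotheses on a subgroup generated by neighbours. -/
structure TurnSub (E : Emb S Γ) (fr : Frame S F) (x x₀ xb : Γ) (gb : G) (U : Subgroup Γ) : Prop where
  le : U ≤ E.im x (Cfsg.pCore p G)
  V_le : E.im x (Vz S) ≤ U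
  V₀_le : E.im x₀ (Vz S) ≤ U
  normal : ∀ a ∈ E.im x ⊤, ∀ u ∈ U, a * u * a⁻¹ ∈ U
  quad : ∀ q ∈ E.im x (Cfsg.pCore p G), ∀ u ∈ U, ⁅q, u⁆ ∈ E.im x (Vz S)
  far : U ≤ E.im (xb * E.ι gb) (S : Subgroup G)
  nontriv : ∃ u ∈ U, ∃ c ∈ E.im x ⊤, ⁅c, u⁆ ∉ E.im x (Vz S)

theorem TurnData.exists_mid (hv : IsVertex fr) [Finite Γ] {x x₀ xb z : Γ} {a g₀ gb gz : G}
    (d : E.TurnData fr x a x₀ g₀ xb gb z gz) {U : Subgroup Γ} (hU : E.TurnSub fr x x₀ xb gb U) :
    ∃ F₀, Mid fr (U.comap (E.at' x)) ((E.im x₀ (Vz S)).comap (E.at' x))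
      ((U ⊓ E.im xb (Cfsg.pCore p G)).comap (E.at' x)) F₀ a := by
  classical
  haveI : (Vz S).Normal := normalClosure_normal
  have Lx := E.exists_local hv x 1
  have La := E.exists_local hv x a
  have L0 := E.exists_local hv x₀ g₀
  have Lb := E.exists_local hv xb gb
  have Lz := E.exists_local hv z gz
  have hin : ∀ y, y ∈ U → ∃ c, E.at' x c = y ∧ c ∈ U.comap (E.at' x) := fun y hy => by
    obtain ⟨c, -, rfl⟩ := hU.le hy
    exact ⟨c, rfl, hy⟩
  have hV0 : ∀ y, y ∈ E.im x₀ (Vz S) → ∃ c, E.at' x c = y := fun y hy => by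
    obtain ⟨c, hc, -⟩ := hin y (hU.V₀_le hy)
    exact ⟨c, hc⟩
  have hS1 : ∀ s ∈ (S : Subgroup G), E.at' x s ∈ E.im (x * E.ι 1) (S : Subgroup G) := fun s hs => by
    rw [at_one]; exact E.at'_mem_im.mpr hs
  have hSa : ∀ s ∈ (S : Subgroup G), E.at' x (a * s * a⁻¹) ∈ E.im (x₀ * E.ι g₀) (S : Subgroup G) := fun s hs => by
    rw [d.hubS, ← E.at'_mul]; exact E.at'_mem_im.mpr hs
  refine MidHyp.exists_mid fr ⟨⟨fun u hu g => ?_⟩, fun u hu => ?_, fun u hu => ?_, comap_mono hU.V₀_le,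
    comap_mono inf_le_left, fun u hu => ?_, d.turn, ?_, ?_, ?_, ?_, ?_, ?_, ?_, ?_, ?_⟩
  · rw [Subgroup.mem_comap, map_mul, map_mul, map_inv]
    exact hU.normal _ (E.at'_mem_im.mpr (mem_top g)) _ hu
  · exact E.at'_mem_im.mp (hU.le hu)
  · exact hU.V_le (E.at'_mem_im.mpr hu)
  · exact ⟨hU.V_le (E.at'_mem_im.mpr hu), d.Vx_le (E.at'_mem_im.mpr hu)⟩
  · intro q hq u hu
    have h := hU.quad _ (E.at'_mem_im.mpr hq) _ hu
    rwa [← map_commutatorElement, E.at'_mem_im] at h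
  · intro u hu
    obtain ⟨v, hv', hvu⟩ := d.crit₀.decompR _ (hU.far hu)
    obtain ⟨c, rfl⟩ := hV0 v hv'
    refine ⟨c, hv', ?_, ?_⟩
    · show E.at' x (c⁻¹ * u) ∈ U
      rw [map_mul, map_inv]; exact mul_mem (inv_mem (hU.V₀_le hv')) hu
    · show E.at' x (c⁻¹ * u) ∈ E.im xb _
      rw [map_mul, map_inv]; exact hvu
  · intro z' hz'
    rw [Subgroup.mem_comap, ← E.at'_mul]
    refine L0.Z_le_V ?_
    rw [d.hubZ]; exact E.at'_mem_im.mpr hz'
  · rintro v hv' ⟨-, hvQ⟩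
    have h : E.at' x v ∈ E.im (x * E.ι a) (Zs S) := by
      rw [← d.hubZ, ← d.crit₀.infL]; exact ⟨hv', hvQ⟩
    obtain ⟨w, hw, he⟩ := h
    rw [E.at'_mul] at he
    exact ⟨w, hw, (E.at'_inj x he).symm⟩
  · have h1 : ((E.im x₀ (Vz S)).comap (E.at' x)).map (E.at' x) = E.im x₀ (Vz S) :=
      le_antisymm (map_comap_le _ _) fun y hy => by
        obtain ⟨c, rfl⟩ := hV0 y hy; exact ⟨c, hy, rfl⟩
    have h2 := congrArg (fun X : Subgroup Γ => Nat.card X) h1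
    simp only [card_map_of_injective (E.at'_inj x)] at h2
    rw [h2, L0.cardV, card_im]
  · intro s hs v hv'
    have h := L0.move _ (hSa s hs) _ hv'
    rw [← map_commutatorElement, d.hubZ] at h
    exact E.at'_mem_im.mp (La.Z_le_V h)
  · rintro s hs l ⟨hlU, hlQ⟩
    obtain ⟨v, hv', hq⟩ := d.crit₁.decompR _ (d.Qb_le hlQ)
    -- split the acting element
    obtain ⟨w, hw, hwq⟩ := d.crit₁.decompL _ (hS1 s hs)
    obtain ⟨q, hqd⟩ : ∃ q, q = w⁻¹ * E.at' x s := ⟨_, rfl⟩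
    rw [← hqd] at hwq
    obtain ⟨y, hyd⟩ : ∃ y, y = v⁻¹ * E.at' x l := ⟨_, rfl⟩
    rw [← hyd] at hq
    refine E.at'_mem_im.mp (?_ : E.at' x ⁅s, l⁆ ∈ E.im x (Vz S))
    have hwG : w ∈ E.im x ⊤ := Lx.S_le (d.crit₁.left hw)
    have hw1 : ⁅w, E.at' x l⁆ ∈ E.im x (Vz S) := by
      have hyw : y * w = w * y := Lz.comm y hq w hw
      rw [show E.at' x l = v * y by rw [hyd]; group, commutatorElement_def,
        show w * (v * y) * w⁻¹ * (v * y)⁻¹ = w * v * (y * w⁻¹) * y⁻¹ * v⁻¹ by rw [mul_inv_rev]; simp [mul_assoc],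
        show y * w⁻¹ = w⁻¹ * y by
          rw [eq_inv_mul_iff_mul_eq, ← mul_assoc, ← hyw, mul_inv_cancel_right]]
      rw [show w * v * (w⁻¹ * y) * y⁻¹ * v⁻¹ = w * v * w⁻¹ * v⁻¹ by group]
      exact mul_mem (Lx.normV w hwG v hv') (inv_mem hv')
    rw [map_commutatorElement, show E.at' x s = w * q by rw [hqd]; group,
      show ⁅w * q, E.at' x l⁆ = w * ⁅q, E.at' x l⁆ * w⁻¹ * ⁅w, E.at' x l⁆ by simp only [commutatorElement_def]; group]
    exact mul_mem (Lx.normV w hwG _ (hU.quad q hwq _ hlU)) hw1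
  · intro s hs u hu
    have hsG : E.at' x s ∈ E.im x ⊤ := E.at'_mem_im.mpr (mem_top s)
    obtain ⟨w, hw, hwq⟩ := d.crit₁.decompL _ (hS1 s hs)
    obtain ⟨q, hqd⟩ : ∃ q, q = w⁻¹ * E.at' x s := ⟨_, rfl⟩
    rw [← hqd] at hwq
    refine ⟨?_, ?_⟩
    · show E.at' x ⁅s, u⁆ ∈ U
      rw [map_commutatorElement, commutatorElement_def]; exact mul_mem (hU.normal _ hsG _ hu) (inv_mem hu)
    · show E.at' x ⁅s, u⁆ ∈ E.im xb (Cfsg.pCore p G)
      have hwG : w ∈ E.im x ⊤ := Lx.S_le (d.crit₁.left hw)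
      have hwQ : w ∈ E.im xb (Cfsg.pCore p G) := d.Vz_le hw
      have huG : E.at' x u ∈ E.im xb ⊤ := Lb.S_le (hU.far hu)
      have h1 : ⁅w, E.at' x u⁆ ∈ E.im xb (Cfsg.pCore p G) := by
        rw [commutatorElement_def, show w * E.at' x u * w⁻¹ * (E.at' x u)⁻¹ =
          w * (E.at' x u * w⁻¹ * (E.at' x u)⁻¹) by group]
        exact mul_mem hwQ (Lb.normQ _ huG _ (inv_mem hwQ))
      rw [map_commutatorElement, show E.at' x s = w * q by rw [hqd]; group,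
        show ⁅w * q, E.at' x u⁆ = w * ⁅q, E.at' x u⁆ * w⁻¹ * ⁅w, E.at' x u⁆ by simp only [commutatorElement_def]; group]
      exact mul_mem (d.Vx_le (Lx.normV w hwG _ (hU.quad q hwq _ hu))) h1
  · obtain ⟨u, hu, c, hc, hcu⟩ := hU.nontriv
    obtain ⟨u', rfl, hu'⟩ := hin u hu
    obtain ⟨c', -, rfl⟩ := hc
    refine ⟨u', hu', c', fun h => hcu ?_⟩
    rw [← map_commutatorElement]; exact E.at'_mem_im.mpr h

variable {b N : ℕ}

theorem Line.near (l : E.Line fr b N) {i j : ℕ} (hij : i ≤ j) (hj : j ≤ N) : E.Near (j - i) (l.x i) (l.x j) :=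
  near_of_step l.h_mem l.step hij hj

theorem Line.hubS (l : E.Line fr b N) {i : ℕ} (hi : i < N) :
    E.im (l.x (i + 1)) (S : Subgroup G) = E.im (l.x i * E.ι (l.g i)) (S : Subgroup G) := by
  rw [l.step i hi, im_of_mul _ _ (l.h_mem i hi)]

theorem Line.hubZ (l : E.Line fr b N) {i : ℕ} (hi : i < N) :
    E.im (l.x (i + 1)) (Zs S) = E.im (l.x i * E.ι (l.g i)) (Zs S) := by
  rw [l.step i hi, E.im_Zs_mul_H _ (l.h_mem i hi)]

theorem Line.crit (hv : IsVertex fr) [Finite Γ] (l : E.Line fr b N) (hs : E.Small b) (hb : 1 ≤ b) {i : ℕ}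
    (hi : i + b ≤ N) : E.Crit (l.x i) (l.g i) (l.x (i + b)) 1 := by
  obtain ⟨m, hm⟩ : ∃ m, i + b = m + 1 := ⟨i + b - 1, by omega⟩
  refine exists_crit hv ?_ ?_ (l.bad i hi)
  · refine hs.le_hub hv (l.h_mem i (by omega)) (k := b - 1) (by omega) ?_
    rw [← l.step i (by omega), show b - 1 = (i + b) - (i + 1) by omega]
    exact l.near (by omega) hi
  · rw [at_one, hm, l.hubS (by omega)]
    refine (hs (b - 1) (l.x m) (l.x i) (by omega) (near_symm ?_)).trans (E.exists_local hv (l.x m) (l.g m)).Q_le_S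
    rw [show b - 1 = m - i by omega]; exact l.near (by omega) (by omega)

/-- The forward turn at `i + 1`. -/
theorem Line.turnF (hv : IsVertex fr) [Finite Γ] (l : E.Line fr b N) (hs : E.Small b) (hb : 2 ≤ b) {i : ℕ}
    (hi : i + 1 + b ≤ N) :
    E.TurnData fr (l.x (i + 1) * E.ι (l.g (i + 1))) (l.g (i + 1))⁻¹ (l.x i) (l.g i) (l.x (i + b)) 1 (l.x (i + 1 + b)) 1 := by
  have hx : l.x (i + 1) * E.ι (l.g (i + 1)) * E.ι (l.g (i + 1))⁻¹ = l.x (i + 1) := by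
    rw [map_inv, mul_inv_cancel_right]
  refine ⟨fun h => l.turn (i + 1) (by omega) (inv_mem_iff.mp h), l.crit hv hs (by omega) (by omega),
    (l.crit hv hs (by omega) hi).rebase hv, ?_, ?_, ?_, ?_, ?_⟩
  · rw [hx]; exact (l.hubS (by omega)).symm
  · rw [hx]; exact (l.hubZ (by omega)).symm
  · rw [at_one, show i + 1 + b = i + b + 1 by omega, l.hubS (by omega)]
    exact (E.exists_local hv (l.x (i + b)) (l.g (i + b))).Q_le_S
  · refine hs 1 _ _ (by omega) ?_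
    rw [show i + 1 + b = i + b + 1 by omega]
    simpa using l.near (i := i + b) (j := i + b + 1) (by omega) (by omega)
  · rw [im_V_mul]
    refine hs (b - 1) _ _ (by omega) (near_symm ?_)
    rw [show b - 1 = (i + b) - (i + 1) by omega]
    exact l.near (by omega) (by omega)

/-- The backward turn at `i + b`. -/
theorem Line.turnB (hv : IsVertex fr) [Finite Γ] (l : E.Line fr b N) (hs : E.Small b) (hb : 2 ≤ b) {i : ℕ}
    (hi : i + b + 1 ≤ N) :
    E.TurnData fr (l.x (i + b)) (l.g (i + b)) (l.x (i + b + 1)) 1 (l.x (i + 1)) (l.g (i + 1)) (l.x i) (l.g i) := by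
  refine ⟨l.turn _ (by omega), ?_, (l.crit hv hs (by omega) (by omega)).symm, ?_, ?_, ?_, ?_, ?_⟩
  · rw [show i + b + 1 = i + 1 + b by omega]
    exact (l.crit hv hs (by omega) (by omega)).symm
  · rw [at_one]; exact l.hubS (by omega)
  · rw [at_one]; exact l.hubZ (by omega)
  · have h := (E.exists_local hv (l.x (i + 1)) 1).Q_le_S
    rw [at_one, l.hubS (by omega)] at h
    exact h
  · refine hs 1 _ _ (by omega) (near_symm ?_)
    simpa using l.near (i := i) (j := i + 1) (by omega) (by omega)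
  · refine hs (b - 1) _ _ (by omega) ?_
    rw [show b - 1 = (i + b) - (i + 1) by omega]
    exact l.near (by omega) (by omega)

theorem Line.subF (hd : NoChar S) (hv : IsVertex fr) (l : E.Line fr b N) (hs : E.Small b) (hb : 2 ≤ b) {i : ℕ}
    (hi : i + 1 + b ≤ N) :
    E.TurnSub fr (l.x (i + 1) * E.ι (l.g (i + 1))) (l.x i) (l.x (i + b)) 1 (E.nbrs (l.x (i + 1) * E.ι (l.g (i + 1)))) := by
  obtain ⟨x, hx⟩ : ∃ x, x = l.x (i + 1) * E.ι (l.g (i + 1)) := ⟨_, rfl⟩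
  rw [← hx]
  refine ⟨nbrs_le hs (k := 0) (by omega) (near_refl x), V_le_nbrs x, ?_, nbrs_normal x, nbrs_quad hv hs hb x, ?_,
    nbrs_nontriv hd hv x⟩
  · -- the predecessor is a neighbour
    have h := mem_nbrs (E := E) (x := x) (l.g (i + 1))⁻¹ (inv_mem (l.h_mem i (by omega)))
    rwa [show x * E.ι (l.g (i + 1))⁻¹ * (l.h i)⁻¹ = l.x i * E.ι (l.g i) by
      rw [hx, map_inv, mul_inv_cancel_right, l.step i (by omega), mul_inv_cancel_right], im_V_mul] at h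
  · obtain ⟨m, hm⟩ : ∃ m, i + b = m + 1 := ⟨i + b - 1, by omega⟩
    rw [at_one, hm, l.hubS (by omega)]
    refine (nbrs_le hs (k := b - 2) (by omega) ?_).trans (E.exists_local hv (l.x m) (l.g m)).Q_le_S
    rw [show b - 2 = 0 + (m - (i + 1)) by omega]
    refine near_trans (near_symm ⟨l.g (i + 1), hx⟩) (l.near (by omega) (by omega))

theorem Line.subB (hd : NoChar S) (hv : IsVertex fr) (l : E.Line fr b N) (hs : E.Small b) (hb : 2 ≤ b) {i : ℕ}
    (hi : i + b + 1 ≤ N) :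
    E.TurnSub fr (l.x (i + b)) (l.x (i + b + 1)) (l.x (i + 1)) (l.g (i + 1)) (E.nbrs (l.x (i + b))) := by
  refine ⟨nbrs_le hs (k := 0) (by omega) (near_refl _), V_le_nbrs _, ?_, nbrs_normal _, nbrs_quad hv hs hb _, ?_,
    nbrs_nontriv hd hv _⟩
  · rw [l.step (i + b) (by omega)]; exact mem_nbrs _ (l.h_mem _ (by omega))
  · refine (nbrs_le hs (k := b - 2) (by omega) (near_symm (l.near (i := i + 2) (j := i + b) (by omega) (by omega)) |> fun h =>
      near_mono (by omega) h)).trans ?_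
    have h := (E.exists_local hv (l.x (i + 2)) 1).Q_le_S
    rw [at_one, l.hubS (i := i + 1) (by omega)] at h
    exact h

end Emb

end Cfsg.Agent.Invol.PushUp
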