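import Mathlib
import Cfsg.Agent.Lib.Invol.PushUp.Turn

/-!
# The critical distance is at most two
-/

set_option autoImplicit false
set_option linter.style.haveILetI false
set_option linter.unusedSectionVars false

namespace Cfsg.Agent.Invol.PushUp

open Subgroup
open scoped commutatorElement

universe u

variable {G : Type u} [Group G] [Finite G] {p : ℕ} [hp : Fact p.Prime]
variable {S : Sylow p G} {F : Type} [Field F] [Fintype F] {fr : Frame S F}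
variable {Γ : Type u} [Group Γ] {E : Emb S Γ}

namespace Emb

theorem nbrs_mul (x : Γ) (g : G) : E.nbrs (x * E.ι g) = E.nbrs x := by
  refine le_antisymm (iSup_le fun k => iSup_le fun h => ?_) (iSup_le fun k => iSup_le fun h => ?_)
  · rw [mul_assoc x (E.ι g), ← map_mul]; exact mem_nbrs _ h.2
  · have h' := mem_nbrs (E := E) (x := x * E.ι g) (g⁻¹ * k) h.2
    rwa [mul_assoc x (E.ι g), ← map_mul, mul_inv_cancel_left] at h'

/-- Some element of `V` moves under an element outside the core by a noncentral amount. -/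
theorem exists_moved (hv : IsVertex fr) [Finite Γ] {x : Γ} {g : G} {a : Γ} (ha : a ∈ E.im (x * E.ι g) (S : Subgroup G))
    (haQ : a ∉ E.im x (Cfsg.pCore p G)) : ∃ v ∈ E.im x (Vz S), ⁅a, v⁆ ∉ E.im x (Cz S) := by
  by_contra hc
  push Not at hc
  have L := E.exists_local hv x g
  have h1 := card_le_of_le (fun v hv' => L.fix a ha haQ v hv' (hc v hv') :
    E.im x (Vz S) ≤ E.im (x * E.ι g) (Zs S))
  rw [L.cardV] at h1
  have hZ : 0 < Nat.card (E.im (x * E.ι g) (Zs S)) := Nat.card_pos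
  have hF : 1 < Fintype.card F := Fintype.one_lt_card
  nlinarith

theorem b_le_two (hd : NoChar S) (hv : IsVertex fr) [Finite Γ] {b : ℕ} (hs : E.Small b)
    (hline : ∀ N, Nonempty (E.Line fr b N)) : b ≤ 2 := by
  classical
  by_contra hb
  obtain ⟨l⟩ := hline (2 * b + 1)
  obtain ⟨m, rfl⟩ : ∃ m, b = m + 1 := ⟨b - 1, by omega⟩
  obtain ⟨X, hX⟩ : ∃ X, X = l.x (m + 1) * E.ι (l.g (m + 1)) := ⟨_, rfl⟩
  obtain ⟨F₁, hF₁⟩ := (l.turnF hv hs (by omega) (i := m) (by omega)).exists_mid hv (l.subF hd hv hs (by omega) (by omega))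
  obtain ⟨F₂, hF₂⟩ := (l.turnB hv hs (by omega) (i := 0) (by omega)).exists_mid hv (l.subB hd hv hs (by omega) (by omega))
  rw [← hX] at hF₁
  rw [Nat.zero_add, Nat.zero_add] at hF₂
  haveI := hF₁.normalF
  have L1 := E.exists_local hv (l.x 1) 1
  have LA := E.exists_local hv (l.x m) (l.g m)
  have LXA := E.exists_local hv X (l.g (m + 1))⁻¹
  have LXB := E.exists_local hv X 1
  have hX' : X * E.ι (l.g (m + 1))⁻¹ = l.x (m + 1) := by rw [hX, map_inv, mul_inv_cancel_right]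
  have hhubA : E.im (X * E.ι (l.g (m + 1))⁻¹) (Zs S) = E.im (l.x m * E.ι (l.g m)) (Zs S) := by
    rw [hX']; exact l.hubZ (by omega)
  have hhubAS : E.im (X * E.ι (l.g (m + 1))⁻¹) (S : Subgroup G) = E.im (l.x m * E.ι (l.g m)) (S : Subgroup G) := by
    rw [hX']; exact l.hubS (by omega)
  have hc0 := l.crit hv hs (by omega) (i := m) (by omega)
  have hc1 : E.Crit X 1 (l.x (m + 1 + (m + 1))) 1 := hX ▸ (l.crit hv hs (by omega) (i := m + 1) (by omega)).rebase hv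
  have hcB := l.crit hv hs (by omega) (i := 1) (by omega)
  rw [show 1 + (m + 1) = m + 2 by omega] at hcB
  have hc2 := l.crit hv hs (by omega) (i := m + 2) (by omega)
  obtain ⟨y, hy, hyQ⟩ := hcB.symm.moveL
  obtain ⟨v₂, hv₂, hr⟩ := exists_moved hv (hcB.symm.left hy) hyQ
  apply hr
  -- the module of the successor inside the line
  have hv₂U : v₂ ∈ E.nbrs X := by
    have h := mem_nbrs (E := E) (x := l.x (m + 1)) (l.g (m + 1)) (l.h_mem (m + 1) (by omega))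
    rw [← l.step (m + 1) (by omega)] at h
    rw [hX, nbrs_mul]
    exact h hv₂
  have hv₂Q : v₂ ∈ E.im (l.x (m + (m + 1))) (Cfsg.pCore p G) := by
    refine hs (m + (m + 1) - (m + 2)) _ _ (by omega) (near_symm ?_) hv₂
    exact l.near (by omega) (by omega)
  obtain ⟨c, -, rfl⟩ : v₂ ∈ E.im X ⊤ := E.im_mono le_top (nbrs_le hs (k := 0) (by omega) (near_refl X) hv₂U)
  obtain ⟨v, hv', hvf⟩ := hF₁.lineA c ⟨hv₂U, hv₂Q⟩
  obtain ⟨g, hg⟩ : ∃ g, g = l.g (m + 1) := ⟨_, rfl⟩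
  rw [← hg] at hvf
  obtain ⟨f, hfdef⟩ : ∃ f, f = v⁻¹ * (g⁻¹ * c * g⁻¹⁻¹) := ⟨_, rfl⟩
  rw [← hfdef] at hvf
  have hce : c = g * v * g⁻¹ * (g * f * g⁻¹) := by rw [hfdef]; group
  have hfQ : E.at' X (g * f * g⁻¹) ∈ E.im (l.x 1) (Cfsg.pCore p G) := by
    have hfg : g * f * g⁻¹ ∈ F₁ := hF₁.normalF.conj_mem f hvf g
    have h2 : g * (g * f * g⁻¹) * g⁻¹ ∈ F₂ := by
      refine (hF₂.memF _).mpr ⟨?_, ((hF₁.memF _).mp (hF₁.normalF.conj_mem _ hfg g)).2⟩
      show E.at' (l.x (m + 1)) _ ∈ E.nbrs (l.x (m + 1))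
      rw [← E.at'_mul, ← nbrs_mul _ g, hg, ← hX, ← hg]
      exact ((hF₁.memF _).mp hfg).1
    have h3 : E.at' (l.x (m + 1)) _ ∈ E.im (l.x 1) (Cfsg.pCore p G) := (hF₂.F_le_L h2).2
    rwa [← E.at'_mul, hg, ← hX, ← hg] at h3
  have hyf : y * E.at' X (g * f * g⁻¹) = E.at' X (g * f * g⁻¹) * y := (L1.comm _ hfQ y hy).symm
  -- transport to the predecessor
  obtain ⟨γ, hγ⟩ : ∃ γ, γ = E.at' X g := ⟨_, rfl⟩
  have hγG : γ ∈ E.im X ⊤ := hγ ▸ E.at'_mem_im.mpr (mem_top g)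
  have hyX : y ∈ E.im X (Cfsg.pCore p G) := by
    refine hs m _ _ (by omega) ?_ hy
    have h1 : E.Near m (l.x (m + 1)) (l.x 1) := near_symm (by
      simpa using l.near (i := 1) (j := m + 1) (by omega) (by omega))
    have h0 : E.Near 0 X (l.x (m + 1)) := ⟨(l.g (m + 1))⁻¹, hX'.symm⟩
    simpa using near_trans h0 h1
  have hy' : γ⁻¹ * y * γ ∈ E.im (l.x m * E.ι (l.g m)) (S : Subgroup G) := by
    rw [← hhubAS]
    refine LXA.Q_le_S ?_
    simpa using LXA.normQ γ⁻¹ (inv_mem hγG) y hyX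
  obtain ⟨w, hw, hwq⟩ := hc0.decompL _ hy'
  obtain ⟨q, hq⟩ : ∃ q, q = w⁻¹ * (γ⁻¹ * y * γ) := ⟨_, rfl⟩
  rw [← hq] at hwq
  obtain ⟨v₀, hv₀⟩ : ∃ v₀, v₀ = E.at' X v := ⟨_, rfl⟩
  have hv₀V : v₀ ∈ E.im (l.x m) (Vz S) := hv₀ ▸ hv'
  have hqv : q * v₀ = v₀ * q := LA.comm q hwq v₀ hv₀V
  obtain ⟨ρ, hρ⟩ : ∃ ρ, ρ = ⁅w, v₀⁆ := ⟨_, rfl⟩
  have hρA : ρ ∈ E.im (X * E.ι (l.g (m + 1))⁻¹) (Zs S) := by
    rw [hhubA, hρ]; exact LA.move w (hc0.left hw) v₀ hv₀V
  have hρfar : ρ ∈ E.im (l.x (m + (m + 1))) (Vz S) := by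
    have Lf := E.exists_local hv (l.x (m + (m + 1))) 1
    rw [hρ, commutatorElement_def, show w * v₀ * w⁻¹ * v₀⁻¹ = w * (v₀ * w⁻¹ * v₀⁻¹) by group]
    exact mul_mem hw (Lf.normV _ (Lf.S_le (hc0.right hv₀V)) _ (inv_mem hw))
  have hρC : ρ ∈ E.im X (Cz S) := by
    refine LXA.other 1 (fun h => l.turn (m + 1) (by omega) (by simpa using h)) ⟨hρA, ?_⟩
    obtain ⟨a, ha, haQ⟩ := hc1.moveL
    refine LXB.fix a (hc1.left ha) haQ ρ (LXA.Z_le_V hρA) ?_
    have hcom : ρ * a = a * ρ := by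
      refine (E.exists_local hv (l.x (m + 1 + (m + 1))) 1).comm ρ ?_ a ha
      refine hs 1 _ _ (by omega) (near_symm ?_) hρfar
      rw [show m + 1 + (m + 1) = m + (m + 1) + 1 by omega]
      simpa using l.near (i := m + (m + 1)) (j := m + (m + 1) + 1) (by omega) (by omega)
    rw [commutatorElement_eq_one_iff_mul_comm.mpr hcom.symm]; exact one_mem _
  have hre : ⁅y, E.at' X c⁆ = ρ := by
    rw [hce, map_mul (E.at' X) (g * v * g⁻¹)]
    rw [show ⁅y, E.at' X (g * v * g⁻¹) * E.at' X (g * f * g⁻¹)⁆ = ⁅y, E.at' X (g * v * g⁻¹)⁆ *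
      (E.at' X (g * v * g⁻¹) * ⁅y, E.at' X (g * f * g⁻¹)⁆ * (E.at' X (g * v * g⁻¹))⁻¹) by
        simp only [commutatorElement_def]; group, commutatorElement_eq_one_iff_mul_comm.mpr hyf, mul_one,
      mul_inv_cancel, mul_one, map_mul, map_mul, map_inv, ← hγ, ← hv₀]
    rw [show ⁅y, γ * v₀ * γ⁻¹⁆ = γ * ⁅γ⁻¹ * y * γ, v₀⁆ * γ⁻¹ by simp only [commutatorElement_def]; group,
      show γ⁻¹ * y * γ = w * q by rw [hq]; group,
      show ⁅w * q, v₀⁆ = w * ⁅q, v₀⁆ * w⁻¹ * ⁅w, v₀⁆ by simp only [commutatorElement_def]; group,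
      commutatorElement_eq_one_iff_mul_comm.mpr hqv, mul_one, mul_inv_cancel, one_mul, ← hρ,
      LXA.central γ hγG ρ hρC, mul_inv_cancel_right]
  -- the commutator is central at the successor
  have L2 := E.exists_local hv (l.x (m + 2)) 1
  have L2' := E.exists_local hv (l.x (m + 2)) (l.g (m + 2))
  have hr1 : ⁅y, E.at' X c⁆ ∈ E.im (l.x (m + 2) * E.ι 1) (Zs S) :=
    L2.move y (hcB.symm.left hy) _ hv₂
  refine L2.other (l.g (m + 2)) (by simpa using l.turn (m + 2) (by omega)) ⟨hr1, ?_⟩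
  obtain ⟨a, ha, haQ⟩ := hc2.moveL
  refine L2'.fix a (hc2.left ha) haQ _ (L2.Z_le_V hr1) ?_
  have hcom : ρ * a = a * ρ := by
    refine (E.exists_local hv (l.x (m + 2 + (m + 1))) 1).comm ρ ?_ a ha
    refine hs 2 _ _ (by omega) (near_symm ?_) hρfar
    rw [show m + 2 + (m + 1) = m + (m + 1) + 2 by omega]
    simpa using l.near (i := m + (m + 1)) (j := m + (m + 1) + 2) (by omega) (by omega)
  rw [hre, commutatorElement_eq_one_iff_mul_comm.mpr hcom.symm]; exact one_mem _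

end Emb

end Cfsg.Agent.Invol.PushUp
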