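import Mathlib
import Cfsg.Agent.Lib.Invol.PushUp.Vertex

/-!
# Chief factors along a series of natural and hypercentral sections
-/

set_option autoImplicit false
set_option linter.style.haveILetI false
set_option linter.unusedSectionVars false

namespace Cfsg.Agent.Invol.PushUp

open Subgroup
open scoped commutatorElement

universe u

variable {G : Type u} [Group G] [Finite G] {p : ℕ} [hp : Fact p.Prime]
variable {S : Sylow p G} {F : Type} [Field F] [Fintype F] {fr : Frame S F}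

theorem mul_of_mem_sup {A W : Subgroup G} [W.Normal] {x : G} (h : x ∈ A ⊔ W) : ∃ a ∈ A, ∃ w ∈ W, a * w = x := by
  rw [← SetLike.mem_coe, Subgroup.mul_normal A W] at h
  exact Set.mem_mul.mp h

theorem commutator_sup_le (A W : Subgroup G) [hW : W.Normal] :
    ⁅A ⊔ W, (⊤ : Subgroup G)⁆ ≤ ⁅A, (⊤ : Subgroup G)⁆ ⊔ W := by
  refine commutator_le.mpr fun x hx g _ => ?_
  obtain ⟨a, ha, w, hw, rfl⟩ := mul_of_mem_sup hx
  rw [show ⁅a * w, g⁆ = a * ⁅w, g⁆ * a⁻¹ * ⁅a, g⁆ by simp only [commutatorElement_def]; group]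
  refine mul_mem (mem_sup_right (hW.conj_mem _ ?_ a)) (mem_sup_left (commutator_mem_commutator ha (mem_top g)))
  rw [commutatorElement_def, show w * g * w⁻¹ * g⁻¹ = w * (g * w⁻¹ * g⁻¹) by group]
  exact mul_mem hw (hW.conj_mem _ (inv_mem hw) g)

/-- A noncentral chief factor below `A` lies below `B` when `A/B` is hypercentral. -/
theorem descend_hyper {U W A B : Subgroup G} [W.Normal] (hUW : Cfsg.IsChiefFactor U W)
    (hnc : ¬ ⁅U, (⊤ : Subgroup G)⁆ ≤ W) (hUA : U ≤ A ⊔ W) {k : ℕ} (hk : Cfsg.iterCommutator A ⊤ k ≤ B) :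
    U ≤ B ⊔ W := by
  obtain ⟨hlt, hUn, hWn, hchief⟩ := hUW
  haveI := hUn
  have hU : U ≤ ⁅U, (⊤ : Subgroup G)⁆ ⊔ W := by
    rcases hchief (⁅U, (⊤ : Subgroup G)⁆ ⊔ W) inferInstance le_sup_right
      (sup_le (commutator_le_left U ⊤) hlt.le) with h | h
    · exact absurd (le_sup_left.trans h.le) hnc
    · exact h.ge
  have hind : ∀ j, U ≤ Cfsg.iterCommutator A ⊤ j ⊔ W := by
    intro j
    induction j with
    | zero => exact hUA
    | succ j ih =>
      refine hU.trans (sup_le ?_ le_sup_right)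
      exact (commutator_mono ih le_rfl).trans (commutator_sup_le _ W)
  exact (hind k).trans (sup_le_sup_right hk W)

/-- A noncentral chief factor below `A` not below `B` is natural when `A/B` is. -/
theorem descend_natural (fr : Frame S F) {U W A B L : Subgroup G} [W.Normal] [B.Normal] [A.Normal]
    {ρ : G →* Matrix.SpecialLinearGroup (Fin 2) F} (hnat : IsNatSection fr A L B ρ)
    (hsec : IsLineSection fr A L B) (hUW : Cfsg.IsChiefFactor U W) (hUA : U ≤ A ⊔ W) (hUB : ¬ U ≤ B ⊔ W) :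
    Cfsg.IsNaturalSL2Module F (U.map (QuotientGroup.mk' W)) (⊤ : Subgroup (G ⧸ W)) := by
  obtain ⟨hlt, hUn, hWn, hchief⟩ := hUW
  haveI := hUn
  have hWU := hlt.le
  have hBA : B ≤ A := hsec.WL.trans hsec.LU
  have hdec : ∀ u ∈ U, ∃ a ∈ U ⊓ A, ∃ w ∈ W, a * w = u := fun u hu => by
    obtain ⟨a, ha, w, hw, rfl⟩ := mul_of_mem_sup (hUA hu)
    exact ⟨a, ⟨by simpa using mul_mem hu (inv_mem (hWU hw)), ha⟩, w, hw, rfl⟩
  have hUAB : U ⊓ A ⊔ B = A := by
    rcases hnat.irr (U ⊓ A ⊔ B) inferInstance le_sup_right (sup_le inf_le_right hBA) with h | h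
    · refine absurd (fun u hu => ?_) hUB
      obtain ⟨a, ha, w, hw, rfl⟩ := hdec u hu
      exact mul_mem (mem_sup_left (h.le (mem_sup_left ha))) (mem_sup_right hw)
    · exact h
  have hWAB : W ⊓ A ≤ B := by
    rcases hnat.irr (W ⊓ A ⊔ B) inferInstance le_sup_right (sup_le inf_le_right hBA) with h | h
    · exact le_sup_left.trans h.le
    · refine absurd (hUA.trans (sup_le (h.ge.trans ?_) le_sup_right)) hUB
      exact sup_le (inf_le_left.trans le_sup_right) le_sup_left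
  have hUBW : U ⊓ B ≤ W := by
    rcases hchief (U ⊓ B ⊔ W) inferInstance le_sup_right (sup_le inf_le_left hWU) with h | h
    · exact le_sup_left.trans h.le
    · exact absurd (h.ge.trans (sup_le (inf_le_right.trans le_sup_left) le_sup_right)) hUB
  obtain ⟨L', hL'⟩ : ∃ L', L' = U ⊓ L ⊔ W := ⟨_, rfl⟩
  have hcomm : ∀ g : G, ∀ u ∈ U, ∀ a ∈ U ⊓ A, ∀ w ∈ W, a * w = u →
      ⁅g, u⁆ ∈ W ∨ ⁅g, a⁆ ∈ W → ⁅g, u⁆ ∈ W ∧ ⁅g, a⁆ ∈ W := by
    intro g u _ a _ w hw he h
    have hgw : ⁅g, w⁆ ∈ W := by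
      rw [commutatorElement_def]; exact mul_mem (hWn.conj_mem w hw g) (inv_mem hw)
    have e : ⁅g, u⁆ = ⁅g, a⁆ * (a * ⁅g, w⁆ * a⁻¹) := by rw [← he]; simp only [commutatorElement_def]; group
    rcases h with h | h
    · exact ⟨h, (Subgroup.mul_mem_cancel_right W (hWn.conj_mem _ hgw a)).mp (e ▸ h)⟩
    · exact ⟨e ▸ mul_mem h (hWn.conj_mem _ hgw a), h⟩
  have hinW : ∀ g : G, ∀ a ∈ U, ⁅g, a⁆ ∈ B → ⁅g, a⁆ ∈ W := fun g a ha hb =>
    hUBW ⟨by rw [commutatorElement_def]; exact U.mul_mem (hUn.conj_mem a ha g) (U.inv_mem ha), hb⟩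
  have hcard : ∀ X : Subgroup G, B ≤ X → X ≤ A →
      Nat.card ↥(U ⊓ X ⊔ W) * Nat.card B = Nat.card X * Nat.card W := by
    intro X hBX hXA
    have hX : U ⊓ X ⊔ B = X := by
      refine le_antisymm (sup_le inf_le_right hBX) fun x hx => ?_
      obtain ⟨a, ha, b, hb, rfl⟩ := mul_of_mem_sup (hUAB.ge (hXA hx))
      exact mul_mem (mem_sup_left ⟨ha.1, by simpa using mul_mem hx (inv_mem (hBX hb))⟩) (mem_sup_right hb)
    have h1 := Grp.card_sup_mul_card_inf_normal (H := U ⊓ X) (N := B)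
    have h2 := Grp.card_sup_mul_card_inf_normal (H := U ⊓ X) (N := W)
    have e : U ⊓ X ⊓ W = U ⊓ X ⊓ B :=
      le_antisymm (fun y hy => ⟨hy.1, hWAB ⟨hy.2, hXA hy.1.2⟩⟩) fun y hy => ⟨hy.1, hUBW ⟨hy.1.1, hy.2⟩⟩
    rw [hX] at h1
    rw [e] at h2
    refine Nat.eq_of_mul_eq_mul_right (Nat.card_pos (α := ↥(U ⊓ X ⊓ B))) ?_
    calc _ = Nat.card ↥(U ⊓ X ⊔ W) * Nat.card ↥(U ⊓ X ⊓ B) * Nat.card B := by ring
      _ = Nat.card ↥(U ⊓ X) * Nat.card B * Nat.card W := by rw [h2]; ring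
      _ = _ := by rw [← h1]; ring
  have hcL : Nat.card L' = Fintype.card F * Nat.card W := by
    have h := hcard L hsec.WL hsec.LU
    rw [← hL', hnat.card_L] at h
    refine Nat.eq_of_mul_eq_mul_right (Nat.card_pos (α := B)) (h.trans ?_)
    ring
  have hcU : Nat.card U = Fintype.card F * Nat.card L' := by
    have h := hcard A hBA le_rfl
    have e : U ⊓ A ⊔ W = U := le_antisymm (sup_le inf_le_left hWU) fun u hu => by
      obtain ⟨a, ha, w, hw, rfl⟩ := hdec u hu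
      exact mul_mem (mem_sup_left ha) (mem_sup_right hw)
    rw [e, hnat.card_U, hnat.card_L] at h
    refine Nat.eq_of_mul_eq_mul_right (Nat.card_pos (α := B)) (h.trans ?_)
    rw [hcL]; ring
  have hline : IsLineSection fr U L' W := by
    refine ⟨hUn, hWn, hL' ▸ le_sup_right, hL' ▸ sup_le inf_le_left hWU, fun x hx y hy => ?_, fun x hx u hu => ?_,
      fun s hs l hl => ?_, fun s hs u hu => ?_, fun l hl hall => ?_, hcL.ge, hcU.le⟩
    · obtain ⟨a, ha, w, hw, he⟩ := hdec y hy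
      refine (hcomm x y hy a ha w hw he (Or.inr ?_)).1
      obtain ⟨a', ha', w', hw', he'⟩ := hdec x hx
      have h1 : ⁅a, a'⁆ ∈ W := hinW a a' ha'.1 (hsec.comm a ha.2 a' ha'.2)
      have h2 := (hcomm a x hx a' ha' w' hw' he' (Or.inr h1)).1
      rw [← commutatorElement_inv a x]; exact inv_mem h2
    · obtain ⟨a, ha, w, hw, he⟩ := hdec u hu
      exact (hcomm x u hu a ha w hw he (Or.inr (hinW x a ha.1 (hsec.core x hx a ha.2)))).1
    · obtain ⟨a, ha, w, hw, he⟩ := mul_of_mem_sup (hL' ▸ hl : l ∈ U ⊓ L ⊔ W)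
      refine (hcomm s l (he ▸ mul_mem ha.1 (hWU hw)) a ⟨ha.1, hsec.LU ha.2⟩ w hw he (Or.inr ?_)).1
      exact hinW s a ha.1 (hsec.fixL s hs a ha.2)
    · obtain ⟨a, ha, w, hw, he⟩ := hdec u hu
      have e : ⁅s, u⁆ = ⁅s, a⁆ * (a * ⁅s, w⁆ * a⁻¹) := by rw [← he]; simp only [commutatorElement_def]; group
      rw [e, hL']
      refine mul_mem (mem_sup_left ⟨?_, hsec.move s hs a ha.2⟩) (mem_sup_right (hWn.conj_mem _ ?_ a))
      · rw [commutatorElement_def]; exact U.mul_mem (hUn.conj_mem a ha.1 s) (U.inv_mem ha.1)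
      · rw [commutatorElement_def]; exact mul_mem (hWn.conj_mem w hw s) (inv_mem hw)
    · obtain ⟨a, ha, w, hw, he⟩ := mul_of_mem_sup (hL' ▸ hl : l ∈ U ⊓ L ⊔ W)
      have haB : a ∈ B := hsec.noFix a ha.2 fun g => hWAB
        ⟨(hcomm g l (he ▸ mul_mem ha.1 (hWU hw)) a ⟨ha.1, hsec.LU ha.2⟩ w hw he (Or.inl (hall g))).2, by
          rw [commutatorElement_def]
          exact A.mul_mem ((inferInstance : A.Normal).conj_mem a (hsec.LU ha.2) g) (A.inv_mem (hsec.LU ha.2))⟩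
      exact he ▸ mul_mem (hUBW ⟨ha.1, haB⟩) hw
  obtain ⟨ρ', hρ'⟩ := hline.natural_section fr
  exact hρ'.natural

/-- An element of order prime to `p` fixing `⁅c, x⁆` in a `p`-group fixes `x`. -/
theorem stab_step {P : Subgroup G} (hP : IsPGroup p P) {c x : G} (hc : (orderOf c).Coprime p)
    (hcx : ⁅c, x⁆ ∈ P) (hfix : c * ⁅c, x⁆ = ⁅c, x⁆ * c) : c * x = x * c := by
  obtain ⟨u, hu⟩ : ∃ u, u = ⁅c, x⁆ := ⟨_, rfl⟩
  rw [← hu] at hcx hfix
  have hstep : ∀ k : ℕ, c ^ k * x = u ^ k * x * c ^ k := by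
    intro k
    induction k with
    | zero => simp
    | succ k ih =>
      have h1 : c * x = u * x * c := by rw [hu, commutatorElement_def]; group
      have h2 : c ^ k * u = u * c ^ k := (Commute.pow_left hfix k).eq
      rw [pow_succ, mul_assoc, h1, ← mul_assoc, ← mul_assoc, h2, mul_assoc u, ih, pow_succ' u, ← mul_assoc, ← mul_assoc,
        ← mul_assoc]
  have h1 := hstep (orderOf c)
  rw [pow_orderOf_eq_one, one_mul, mul_one] at h1
  have hur : u ^ orderOf c = 1 := by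
    have := mul_right_cancel (h1.symm.trans (one_mul x).symm)
    exact this
  obtain ⟨k, hk⟩ := hP ⟨u, hcx⟩
  have hk' : u ^ p ^ k = 1 := congrArg Subtype.val hk
  have hu1 : u = 1 := by
    have h2 := Nat.dvd_gcd (orderOf_dvd_of_pow_eq_one hur) (orderOf_dvd_of_pow_eq_one hk')
    rw [(Nat.Coprime.pow_right k hc).gcd_eq_one, Nat.dvd_one, orderOf_eq_one_iff] at h2
    exact h2
  exact commutatorElement_eq_one_iff_mul_comm.mp (hu.symm.trans hu1)

/-- Consequences of one element outside the core acting trivially on `Q/U`. -/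
theorem quotient_hyper (fr : Frame S F) {U : Subgroup G} [hU : U.Normal] {a : G} (ha : a ∈ (S : Subgroup G))
    (haQ : a ∉ Cfsg.pCore p G) (hmove : ∀ q ∈ Cfsg.pCore p G, ⁅a, q⁆ ∈ U) :
    (∃ k, Cfsg.iterCommutator (Cfsg.pCore p G) ⊤ k ≤ U) ∧
      ∀ c : G, (orderOf c).Coprime p → ∀ q ∈ Cfsg.pCore p G, ⁅c, q⁆ ∈ U := by
  classical
  obtain ⟨Q, hQ⟩ : ∃ Q, Q = Cfsg.pCore p G := ⟨_, rfl⟩
  haveI hQn : Q.Normal := hQ ▸ Grp.pCore_isNormal
  rw [← hQ] at haQ hmove ⊢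
  let N : Subgroup G :=
    { carrier := {g | ∀ q ∈ Q, ⁅g, q⁆ ∈ U}
      one_mem' := fun q _ => by rw [commutatorElement_one_left]; exact one_mem _
      mul_mem' := by
        intro x y hx hy q hq
        rw [show ⁅x * y, q⁆ = x * ⁅y, q⁆ * x⁻¹ * ⁅x, q⁆ by simp only [commutatorElement_def]; group]
        exact mul_mem (hU.conj_mem _ (hy q hq) x) (hx q hq)
      inv_mem' := by
        intro x hx q hq
        rw [show ⁅x⁻¹, q⁆ = x⁻¹ * ⁅x, q⁆⁻¹ * x⁻¹⁻¹ by simp only [commutatorElement_def]; group]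
        exact hU.conj_mem _ (inv_mem (hx q hq)) _ }
  haveI hNn : N.Normal := ⟨fun x hx g q hq => by
    rw [show ⁅g * x * g⁻¹, q⁆ = g * ⁅x, g⁻¹ * q * g⁆ * g⁻¹ by simp only [commutatorElement_def]; group]
    exact hU.conj_mem _ (hx _ (by simpa using hQn.conj_mem q hq g⁻¹)) g⟩
  have htop : N ⊔ (S : Subgroup G) = ⊤ := (PushUnique.sup_eq_top_or_normal S fr.unique N).resolve_right fun hn =>
    haQ (hQ ▸ Grp.le_pCore hn (S.isPGroup'.to_le inf_le_left) ⟨ha, hmove⟩)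
  have hgs : ∀ g : G, ∃ s ∈ (S : Subgroup G), ∃ m ∈ N, s * m = g := fun g =>
    mul_of_mem_sup (by rw [sup_comm, htop]; exact mem_top g)
  refine ⟨?_, fun c hc => ?_⟩
  · obtain ⟨π, hπ⟩ : ∃ π, π = QuotientGroup.mk' U := ⟨_, rfl⟩
    have hπ1 : ∀ x, π x = 1 ↔ x ∈ U := fun x => hπ ▸ QuotientGroup.eq_one_iff x
    have hmap : ∀ k, (Cfsg.iterCommutator Q ⊤ k).map π ≤ ((S : Subgroup G).lowerCentralSeries k).map π ∧
        Cfsg.iterCommutator Q ⊤ k ≤ Q := by
      intro k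
      induction k with
      | zero => exact ⟨map_mono (hQ ▸ Grp.pCore_le_sylow S), le_rfl⟩
      | succ k ih =>
        refine ⟨?_, (commutator_mono ih.2 le_rfl).trans (commutator_le_left Q ⊤)⟩
        show (⁅Cfsg.iterCommutator Q ⊤ k, (⊤ : Subgroup G)⁆ : Subgroup G).map π ≤ _
        rw [Subgroup.lowerCentralSeries_succ, Subgroup.map_commutator, Subgroup.map_commutator, commutator_le]
        rintro _ ⟨x, hx, rfl⟩ _ ⟨g, -, rfl⟩
        obtain ⟨s, hs, m, hm, rfl⟩ := hgs g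
        have hxm : π ⁅x, m⁆ = 1 := by
          rw [hπ1, ← commutatorElement_inv m x]; exact inv_mem (hm x (ih.2 hx))
        rw [map_mul, show ⁅π x, π s * π m⁆ = ⁅π x, π s⁆ * (π s * ⁅π x, π m⁆ * (π s)⁻¹) by
          simp only [commutatorElement_def]; group, ← map_commutatorElement π x m, hxm, mul_one, mul_inv_cancel, mul_one]
        exact commutator_mem_commutator (ih.1 ⟨x, hx, rfl⟩) ⟨s, hs, rfl⟩
    obtain ⟨k, hk⟩ := (Subgroup.isNilpotent_iff_lowerCentralSeries _).mp S.isPGroup'.isNilpotent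
    refine ⟨k, fun x hx => (hπ1 x).mp ?_⟩
    have h := (hmap k).1 ⟨x, hx, rfl⟩
    rwa [hk, Subgroup.map_bot, mem_bot] at h
  · obtain ⟨π, hπ⟩ : ∃ π, π = QuotientGroup.mk' N := ⟨_, rfl⟩
    obtain ⟨s, hs, m, hm, he⟩ := hgs c
    obtain ⟨k, hk⟩ := S.isPGroup' ⟨s, hs⟩
    have hk' : s ^ p ^ k = 1 := congrArg Subtype.val hk
    have h1 : π c = π s := by
      rw [← he, map_mul, show π m = 1 from hπ ▸ (QuotientGroup.eq_one_iff m).mpr hm, mul_one]
    have h2 : π c = 1 := by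
      have hd1 : orderOf (π c) ∣ orderOf c := orderOf_map_dvd π c
      have hd2 : orderOf (π c) ∣ p ^ k := orderOf_dvd_of_pow_eq_one (by rw [h1, ← map_pow, hk', map_one])
      have h3 := Nat.dvd_gcd hd1 hd2
      rwa [(Nat.Coprime.pow_right k hc).gcd_eq_one, Nat.dvd_one, orderOf_eq_one_iff] at h3
    rw [hπ] at h2
    exact fun q hq => ((QuotientGroup.eq_one_iff c).mp h2 : c ∈ N) q hq

end Cfsg.Agent.Invol.PushUp
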