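import Mathlib
import Cfsg.Agent.Lib.Invol.PushUp.Chief

/-!
# The regular case: two conjugate offenders inside `S`
-/

set_option autoImplicit false
set_option linter.style.haveILetI false
set_option linter.unusedSectionVars false

namespace Cfsg.Agent.Invol.PushUp

open Subgroup
open scoped commutatorElement

universe u

variable {G : Type u} [Group G] [Finite G] {p : ℕ} [hp : Fact p.Prime]
variable {S : Sylow p G} {F : Type} [Field F] [Fintype F] {fr : Frame S F}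

/-- The conclusion of the pushing up theorem. -/
structure PushResult (fr : Frame S F) : Prop where
  cent : ∀ c ∈ centralizer (Vz S : Set G), c ∈ Cfsg.pCore p G
  chief : ∀ (U W : Subgroup G) [W.Normal], U ≤ Cfsg.pCore p G → Cfsg.IsChiefFactor U W →
    ¬ ⁅U, (⊤ : Subgroup G)⁆ ≤ W → Cfsg.IsNaturalSL2Module F (U.map (QuotientGroup.mk' W)) (⊤ : Subgroup (G ⧸ W))
  shape : ((S : Subgroup G).lowerCentralSeries 2 = ⊥ ∧ (S : Subgroup G).lowerCentralSeries 1 ≠ ⊥ ∧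
      (p = 2 → Monoid.exponent ↥(S : Subgroup G) = 4) ∧ (p ≠ 2 → Monoid.exponent ↥(S : Subgroup G) = p) ∧
      (∀ c : G, (orderOf c).Coprime p → ∀ q ∈ Cfsg.pCore p G, ⁅c, q⁆ ∈ Vz S) ∧
      (∃ U W : Subgroup G, W ≤ U ∧ U ≤ (Cfsg.pCore p G) ∧ Cfsg.IsChiefFactor U W ∧ ¬ ⁅U, (⊤ : Subgroup G)⁆ ≤ W ∧
        (∃ k : ℕ, Cfsg.iterCommutator W ⊤ k = ⊥) ∧ (∃ k : ℕ, Cfsg.iterCommutator (Cfsg.pCore p G) ⊤ k ≤ U))) ∨
    (p = 3 ∧ (S : Subgroup G).lowerCentralSeries 3 = ⊥ ∧ (S : Subgroup G).lowerCentralSeries 2 ≠ ⊥ ∧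
      Monoid.exponent ↥(S : Subgroup G) = 9 ∧
      (∃ U₁ W₁ U₂ W₂ : Subgroup G, W₁ ≤ U₁ ∧ U₁ ≤ W₂ ∧ W₂ ≤ U₂ ∧ U₂ ≤ (Cfsg.pCore p G) ∧
        Cfsg.IsChiefFactor U₁ W₁ ∧ Cfsg.IsChiefFactor U₂ W₂ ∧ ¬ ⁅U₁, (⊤ : Subgroup G)⁆ ≤ W₁ ∧
        ¬ ⁅U₂, (⊤ : Subgroup G)⁆ ≤ W₂ ∧ (∃ k : ℕ, Cfsg.iterCommutator W₁ ⊤ k = ⊥) ∧
        (∃ k : ℕ, Cfsg.iterCommutator W₂ ⊤ k ≤ U₁) ∧ (∃ k : ℕ, Cfsg.iterCommutator (Cfsg.pCore p G) ⊤ k ≤ U₂)))

theorem IsVertex.line (hv : IsVertex fr) : IsLineSection fr (Vz S) (Zs S) (Cz S) := by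
  haveI hVn : (Vz S).Normal := normalClosure_normal
  obtain ⟨ρ, hρ, -⟩ := hv.nat
  refine ⟨hVn, inferInstance, hv.C0_le, hv.Z_le, fun x hx y hy => ?_, fun x hx v hv' => ?_, fun s hs l hl => ?_, hv.move,
    fun l hl hall => ?_, hρ.card_L.ge, hρ.card_U.le⟩
  · rw [commutatorElement_eq_one_iff_mul_comm.mpr (hv.comm x hx y hy)]; exact one_mem _
  · rw [commutatorElement_eq_one_iff_mul_comm.mpr (hv.cent_core x hx v hv')]; exact one_mem _
  · rw [commutatorElement_eq_one_iff_mul_comm.mpr (mem_centralizer_iff.mp (mem_Zs.mp hl).2.1 s hs)]; exact one_mem _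
  · refine hρ.moved l (hv.Z_le hl) fr.w fr.w_not hl ?_
    rw [show fr.w * l * fr.w⁻¹ = ⁅fr.w, l⁆ * l by rw [commutatorElement_def]; group]
    exact mul_mem (hv.C0_le (hall fr.w)) hl

/-- A natural section is a noncentral chief factor. -/
theorem IsNatSection.chief {U L W : Subgroup G} [W.Normal] {ρ : G →* Matrix.SpecialLinearGroup (Fin 2) F}
    (h : IsNatSection fr U L W ρ) (hU : U.Normal) (hWU : W ≤ U) :
    Cfsg.IsChiefFactor U W ∧ ¬ ⁅U, (⊤ : Subgroup G)⁆ ≤ W := by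
  refine ⟨⟨lt_of_le_of_ne hWU fun he => ?_, hU, inferInstance, h.irr⟩, fun hle => ?_⟩
  · have h1 := h.card_U
    rw [h.card_L, ← he] at h1
    have hpos : 0 < Nat.card W := Nat.card_pos
    have hq : 1 < Fintype.card F := Fintype.one_lt_card
    nlinarith [Nat.mul_le_mul_right (Nat.card W) (Nat.mul_le_mul hq hq)]
  · have h1 := (h.ker (fr.σ 1)).mp fun u hu => by
      rw [← commutatorElement_inv u (fr.σ 1)]
      exact inv_mem (hle (commutator_mem_commutator hu (mem_top _)))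
    rw [h.std.up'] at h1
    exact one_ne_zero (up_central (h1 ▸ one_mem _))

theorem iter_center {Z : Subgroup G} (hZ : Z ≤ center G) : Cfsg.iterCommutator Z ⊤ 1 = ⊥ := by
  refine le_bot_iff.mp (commutator_le.mpr fun z hz g _ => ?_)
  exact commutatorElement_eq_one_iff_mul_comm.mpr (Subgroup.mem_center_iff.mp (hZ hz) g).symm

/-- An element of a normal subgroup meeting `S` in the core lies in the core once its powers of order prime to `p` do. -/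
theorem le_core_of_coprime {C : Subgroup G} [C.Normal] (hC : (S : Subgroup G) ⊓ C ≤ Cfsg.pCore p G)
    (h : ∀ c ∈ C, (orderOf c).Coprime p → c ∈ Cfsg.pCore p G) : C ≤ Cfsg.pCore p G := by
  intro c hc
  obtain ⟨k, r, hr, hkr⟩ := Nat.exists_eq_pow_mul_and_not_dvd (orderOf_pos c).ne' p hp.out.ne_one
  have hr0 : r ≠ 0 := fun h0 => hr (h0 ▸ dvd_zero p)
  have h1 : c ^ r ∈ Cfsg.pCore p G := pElement_mem_core S hC (pow_mem hc r) (k := k) (by
    rw [← pow_mul, mul_comm, ← hkr]; exact pow_orderOf_eq_one c)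
  have hrc : Nat.Coprime r p := ((Nat.Prime.coprime_iff_not_dvd hp.out).mpr hr).symm
  have h2 : c ^ (p ^ k) ∈ Cfsg.pCore p G := by
    refine h _ (pow_mem hc _) ?_
    refine hrc.coprime_dvd_left (orderOf_dvd_of_pow_eq_one ?_)
    rw [← pow_mul, ← hkr]; exact pow_orderOf_eq_one c
  have hcop : Int.gcd ((p ^ k : ℕ) : ℤ) (r : ℤ) = 1 := by
    rw [Int.gcd_natCast_natCast]; exact (hrc.pow_right k).symm
  have e : c = (c ^ (p ^ k)) ^ Int.gcdA (p ^ k : ℕ) r * (c ^ r) ^ Int.gcdB (p ^ k : ℕ) r := by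
    rw [← zpow_natCast c (p ^ k), ← zpow_natCast c r, ← _root_.zpow_mul, ← _root_.zpow_mul, ← zpow_add, ← Int.gcd_eq_gcd_ab, hcop,
      Nat.cast_one, zpow_one]
  rw [e]
  exact mul_mem (zpow_mem h2 _) (zpow_mem h1 _)

/-- A conjugate pair of offenders. -/
structure OfPair (fr : Frame S F) (V' Q' : Subgroup G) : Prop where
  V'_le : V' ≤ (S : Subgroup G)
  V'_exp : ∀ v ∈ V', v ^ p = 1
  V'_comm : ∀ v ∈ V', ∀ w ∈ V', v * w = w * v
  Q'_comm : ∀ x ∈ Q', ∀ v ∈ V', x * v = v * x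
  outside : ∃ v ∈ V', v ∉ Cfsg.pCore p G
  decompS : ∀ s ∈ (S : Subgroup G), ∃ v ∈ V', v⁻¹ * s ∈ Cfsg.pCore p G
  decompS' : ∀ s ∈ (S : Subgroup G), ∃ v ∈ Vz S, v⁻¹ * s ∈ Q'

theorem OfPair.result (hd : NoChar S) (hv : IsVertex fr) {V' Q' : Subgroup G} (h : OfPair fr V' Q') :
    PushResult fr := by
  classical
  haveI hVn : (Vz S).Normal := normalClosure_normal
  obtain ⟨Q, hQ⟩ : ∃ Q, Q = Cfsg.pCore p G := ⟨_, rfl⟩
  haveI hQn : Q.Normal := hQ ▸ Grp.pCore_isNormal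
  have hQS : Q ≤ (S : Subgroup G) := hQ ▸ Grp.pCore_le_sylow S
  have hQp : IsPGroup p Q := S.isPGroup'.to_le hQS
  have hVQ : Vz S ≤ Q := hQ ▸ hv.le_core
  have hcQ : ∀ x ∈ Q, ∀ v ∈ Vz S, x * v = v * x := fun x hx => hv.cent_core x (hQ ▸ hx)
  have hVS : Vz S ≤ (S : Subgroup G) := hVQ.trans hQS
  obtain ⟨a, ha, haQ⟩ := h.outside
  -- the common part
  have hdec : ∀ x ∈ Q, ∃ v ∈ Vz S, ∃ d ∈ Q ⊓ Q', v * d = x := fun x hx => by
    obtain ⟨v, hv', hvx⟩ := h.decompS' x (hQS hx)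
    exact ⟨v, hv', v⁻¹ * x, ⟨Q.mul_mem (Q.inv_mem (hVQ hv')) hx, hvx⟩, mul_inv_cancel_left v x⟩
  have hdec' : ∀ s ∈ (S : Subgroup G), ∃ v' ∈ V', ∃ v ∈ Vz S, ∃ d ∈ Q ⊓ Q', v' * v * d = s := fun s hs => by
    obtain ⟨v', hv', hq⟩ := h.decompS s hs
    obtain ⟨v, hv'', d, hd', he⟩ := hdec _ (hQ ▸ hq)
    exact ⟨v', hv', v, hv'', d, hd', by rw [mul_assoc, he, mul_inv_cancel_left]⟩
  have hdv : ∀ d ∈ Q ⊓ Q', ∀ v' ∈ V', d * v' = v' * d := fun d hd' v' hv' => h.Q'_comm d hd'.2 v' hv'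
  have hdv2 : ∀ d ∈ Q ⊓ Q', ∀ v ∈ Vz S, d * v = v * d := fun d hd' v hv'' => hcQ d hd'.1 v hv''
  have hmoveV : ∀ v' ∈ V', ∀ q ∈ Q, ⁅v', q⁆ ∈ Vz S := fun v' hv' q hq => by
    obtain ⟨v, hv'', d, hd', rfl⟩ := hdec q hq
    rw [show ⁅v', v * d⁆ = ⁅v', v⁆ * (v * ⁅v', d⁆ * v⁻¹) by simp only [commutatorElement_def]; group,
      commutatorElement_eq_one_iff_mul_comm.mpr (hdv d hd' v' hv').symm, mul_one, mul_inv_cancel, mul_one]
    exact hv.Z_le (hv.move v' (h.V'_le hv') v hv'')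
  obtain ⟨hiter, hcop⟩ := quotient_hyper fr (U := Vz S) (h.V'_le ha) haQ (hQ ▸ hmoveV a ha)
  haveI hCn := PushUnique.centralizer_normal' (Vz S)
  have hcent : ∀ c ∈ centralizer (Vz S : Set G), c ∈ Cfsg.pCore p G := by
    refine le_core_of_coprime (S := S) hv.S_inf_cent.le fun c hc hcp => ?_
    rw [← hQ] at hcop ⊢
    refine hQ ▸ fr.hcore (mem_centralizer_iff.mpr fun q hq => ?_)
    rw [← hQ] at hq
    refine (stab_step hQp hcp (hVQ (hcop c hcp q hq)) ?_).symm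
    exact (mem_centralizer_iff.mp hc _ (hcop c hcp q hq)).symm
  obtain ⟨ρ, hρ, -⟩ := hv.nat
  obtain ⟨hch, hnc⟩ := hρ.chief hVn (hv.C0_le.trans hv.Z_le)
  have hC0 : Cz S ≤ center G := inf_le_right
  refine ⟨hcent, fun U W _ hUQ hUW hUnc => ?_, Or.inl ?_⟩
  · obtain ⟨k, hk⟩ := hiter
    have hUV : U ≤ Vz S ⊔ W := descend_hyper hUW hUnc (hUQ.trans le_sup_left) hk
    refine descend_natural fr hρ hv.line hUW hUV fun hUC => ?_
    have h0 := descend_hyper hUW hUnc hUC (iter_center hC0).le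
    rw [bot_sup_eq] at h0
    exact hUW.1.not_ge h0
  -- commutators
  have hSS : ∀ x ∈ (S : Subgroup G), ∀ y ∈ (S : Subgroup G), ∀ d ∈ Q ⊓ Q', ∀ e ∈ Q ⊓ Q', ∀ v' ∈ V', ∀ w' ∈ V',
      ∀ v ∈ Vz S, ∀ w ∈ Vz S, v' * v * d = x → w' * w * e = y → ∃ z ∈ Zs S, ⁅x, y⁆ = z * ⁅d, e⁆ := by
    intro x _ y _ d hd' e he v' hv' w' hw' v hv'' w hw'' hx hy
    have hzc : ∀ z ∈ Zs S, ∀ s ∈ (S : Subgroup G), s * z = z * s := fun z hz s hs =>
      mem_centralizer_iff.mp (mem_Zs.mp hz).2.1 s hs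
    obtain ⟨a₀, ha₀⟩ : ∃ a₀, a₀ = v' * v := ⟨_, rfl⟩
    obtain ⟨b₀, hb₀⟩ : ∃ b₀, b₀ = w' * w := ⟨_, rfl⟩
    have ha0S : a₀ ∈ (S : Subgroup G) := ha₀ ▸ mul_mem (h.V'_le hv') (hVS hv'')
    have hdb : d * b₀ = b₀ * d := by rw [hb₀, ← mul_assoc, hdv d hd' w' hw', mul_assoc, hdv2 d hd' w hw'', mul_assoc]
    have hea : e * a₀ = a₀ * e := by rw [ha₀, ← mul_assoc, hdv e he v' hv', mul_assoc, hdv2 e he v hv'', mul_assoc]
    have hab : ⁅a₀, b₀⁆ ∈ Zs S := by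
      rw [ha₀, hb₀]
      have h1 : ⁅v', w⁆ ∈ Zs S := hv.move v' (h.V'_le hv') w hw''
      have h2 : ⁅v, w'⁆ ∈ Zs S := by
        rw [← commutatorElement_inv w' v]; exact inv_mem (hv.move w' (h.V'_le hw') v hv'')
      have e1 : ⁅v', w'⁆ = 1 := commutatorElement_eq_one_iff_mul_comm.mpr (h.V'_comm v' hv' w' hw')
      have e2 : ⁅v, w⁆ = 1 := commutatorElement_eq_one_iff_mul_comm.mpr (hv.comm v hv'' w hw'')
      have e3 : ⁅v' * v, w' * w⁆ = v' * ⁅v, w' * w⁆ * v'⁻¹ * ⁅v', w' * w⁆ := by simp only [commutatorElement_def]; group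
      have e4 : ⁅v, w' * w⁆ = ⁅v, w'⁆ * (w' * ⁅v, w⁆ * w'⁻¹) := by simp only [commutatorElement_def]; group
      have e5 : ⁅v', w' * w⁆ = ⁅v', w'⁆ * (w' * ⁅v', w⁆ * w'⁻¹) := by simp only [commutatorElement_def]; group
      rw [e3, e4, e5, e1, e2, mul_one, mul_inv_cancel, mul_one, one_mul, hzc _ h1 w' (h.V'_le hw'), mul_inv_cancel_right,
        hzc _ h2 v' (h.V'_le hv'), mul_inv_cancel_right]
      exact mul_mem h2 h1
    refine ⟨_, hab, ?_⟩
    rw [← hx, ← hy, ← ha₀, ← hb₀]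
    rw [show ⁅a₀ * d, b₀ * e⁆ = a₀ * (d * b₀ * (e * d⁻¹)) * a₀⁻¹ * e⁻¹ * b₀⁻¹ by
      simp only [commutatorElement_def]; group, hdb]
    have hea' : a₀⁻¹ * e⁻¹ = e⁻¹ * a₀⁻¹ := by rw [← mul_inv_rev, ← mul_inv_rev, hea]
    calc a₀ * (b₀ * d * (e * d⁻¹)) * a₀⁻¹ * e⁻¹ * b₀⁻¹
        = a₀ * b₀ * (d * e * d⁻¹) * (a₀⁻¹ * e⁻¹) * b₀⁻¹ := by group
      _ = a₀ * b₀ * (⁅d, e⁆ * a₀⁻¹) * b₀⁻¹ := by rw [hea', commutatorElement_def]; group
      _ = _ := by
        have hca : ⁅d, e⁆ * a₀⁻¹ = a₀⁻¹ * ⁅d, e⁆ := by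
          have hd0 : Commute d a₀ := by
            show d * a₀ = a₀ * d
            rw [ha₀, ← mul_assoc, hdv d hd' v' hv', mul_assoc, hdv2 d hd' v hv'', mul_assoc]
          exact (((hd0.mul_left (show Commute e a₀ from hea)).mul_left hd0.inv_left).mul_left
            (show Commute e a₀ from hea).inv_left).inv_right.eq
        have hcb : ⁅d, e⁆ * b₀⁻¹ = b₀⁻¹ * ⁅d, e⁆ := by
          have he0 : Commute e b₀ := by
            show e * b₀ = b₀ * e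
            rw [hb₀, ← mul_assoc, hdv e he w' hw', mul_assoc, hdv2 e he w hw'', mul_assoc]
          exact ((((show Commute d b₀ from hdb).mul_left he0).mul_left (show Commute d b₀ from hdb).inv_left).mul_left
            he0.inv_left).inv_right.eq
        rw [hca, mul_assoc _ (a₀⁻¹ * ⁅d, e⁆) b₀⁻¹, mul_assoc a₀⁻¹, hcb]
        simp [commutatorElement_def, mul_assoc]
  have hderiv : (S : Subgroup G).lowerCentralSeries 1 ≤ Zs S ⊔ ⁅Q, Q⁆ := by
    show ⁅(S : Subgroup G), (S : Subgroup G)⁆ ≤ _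
    refine commutator_le.mpr fun x hx y hy => ?_
    obtain ⟨v', hv', v, hv'', d, hd', hxe⟩ := hdec' x hx
    obtain ⟨w', hw', w, hw'', e, he, hye⟩ := hdec' y hy
    obtain ⟨z, hz, hze⟩ := hSS x hx y hy d hd' e he v' hv' w' hw' v hv'' w hw'' hxe hye
    exact hze ▸ mul_mem (mem_sup_left hz) (mem_sup_right (commutator_mem_commutator hd'.1 he.1))
  have hQQD : ⁅Q, Q⁆ ≤ ⁅Q ⊓ Q', Q ⊓ Q'⁆ := by
    refine commutator_le.mpr fun x hx y hy => ?_
    obtain ⟨v, hv'', d, hd', rfl⟩ := hdec x hx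
    obtain ⟨w, hw'', e, he, rfl⟩ := hdec y hy
    have : ⁅v * d, w * e⁆ = ⁅d, e⁆ := by
      have hvq : ∀ u ∈ Vz S, ∀ q ∈ Q, Commute q u := fun u hu q hq => hcQ q hq u hu
      simp only [commutatorElement_def]
      calc v * d * (w * e) * (v * d)⁻¹ * (w * e)⁻¹ = v * (d * w) * e * d⁻¹ * v⁻¹ * e⁻¹ * w⁻¹ := by group
        _ = v * w * (d * e * d⁻¹ * (v⁻¹ * e⁻¹)) * w⁻¹ := by rw [(hvq w hw'' d hd'.1).eq]; group
        _ = v * w * (d * e * d⁻¹ * e⁻¹ * v⁻¹) * w⁻¹ := by rw [((hvq v hv'' e he.1).inv_inv).eq.symm]; group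
        _ = v * w * (v⁻¹ * w⁻¹) * (d * e * d⁻¹ * e⁻¹) := by
          have hc : Commute (d * e * d⁻¹ * e⁻¹) (v⁻¹ * w⁻¹) :=
            (hvq _ (mul_mem (inv_mem hv'') (inv_mem hw'')) _
              (mul_mem (mul_mem (mul_mem hd'.1 he.1) (inv_mem hd'.1)) (inv_mem he.1)))
          rw [mul_assoc _ (d * e * d⁻¹ * e⁻¹ * v⁻¹), mul_assoc (d * e * d⁻¹ * e⁻¹) v⁻¹, hc.eq]; group
        _ = _ := by rw [hv.comm v hv'' w hw'']; group
    exact this ▸ commutator_mem_commutator hd' he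
  -- the class
  have hclass : (S : Subgroup G).lowerCentralSeries 2 = ⊥ := by
    have hle : (S : Subgroup G).lowerCentralSeries 2 ≤ ⁅⁅Q, Q⁆, Q⁆ := by
      show ⁅(S : Subgroup G).lowerCentralSeries 1, (S : Subgroup G)⁆ ≤ _
      refine commutator_le.mpr fun x hx s hs => ?_
      obtain ⟨z, hz, c, hc, rfl⟩ := mul_of_mem_sup (hderiv hx)
      have hz1 : ⁅z, s⁆ = 1 :=
        commutatorElement_eq_one_iff_mul_comm.mpr (mem_centralizer_iff.mp (mem_Zs.mp hz).2.1 s hs).symm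
      obtain ⟨v', hv', v, hv'', d, hd', rfl⟩ := hdec' s hs
      have hcQ' : c ∈ Q := commutator_le_left Q Q hc
      have hcv' : c * v' = v' * c := by
        have hle' : ⁅Q ⊓ Q', Q ⊓ Q'⁆ ≤ centralizer ({v'} : Set G) := commutator_le.mpr fun d hd' e he => by
          have h1 : Commute d v' := hdv d hd' v' hv'
          have h2 : Commute e v' := hdv e he v' hv'
          exact mem_centralizer_singleton_iff.mpr (((h1.mul_left h2).mul_left h1.inv_left).mul_left h2.inv_left).eq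
        exact mem_centralizer_singleton_iff.mp (hle' (hQQD hc))
      rw [show ⁅z * c, v' * v * d⁆ = z * ⁅c, v' * v * d⁆ * z⁻¹ * ⁅z, v' * v * d⁆ by simp only [commutatorElement_def]; group,
        hz1, mul_one,
        show ⁅c, v' * v * d⁆ = ⁅c, v'⁆ * (v' * ⁅c, v⁆ * v'⁻¹) * (v' * v * ⁅c, d⁆ * (v' * v)⁻¹) by
          simp only [commutatorElement_def]; group,
        commutatorElement_eq_one_iff_mul_comm.mpr hcv', commutatorElement_eq_one_iff_mul_comm.mpr (hcQ c hcQ' v hv''),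
        one_mul, mul_one, mul_inv_cancel, one_mul]
      exact (inferInstance : (⁅⁅Q, Q⁆, Q⁆).Normal).conj_mem _
        ((inferInstance : (⁅⁅Q, Q⁆, Q⁆).Normal).conj_mem _ (commutator_mem_commutator hc hd'.1) _) z
    have hge : ⁅⁅Q, Q⁆, Q⁆ ≤ (S : Subgroup G).lowerCentralSeries 2 :=
      commutator_mono (commutator_mono hQS hQS) hQS
    by_contra hne
    refine hd ((⊤ : Subgroup ↥(S : Subgroup G)).lowerCentralSeries 2) (fun h0 => hne ?_) inferInstance ?_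
    · rw [← Subgroup.top_subtype_lowerCentralSeries, h0, Subgroup.map_bot]
    · rw [Subgroup.top_subtype_lowerCentralSeries, le_antisymm hle hge]; infer_instance
  have hnab : (S : Subgroup G).lowerCentralSeries 1 ≠ ⊥ := by
    intro h0
    refine haQ (hv.S_inf_cent ▸ ⟨h.V'_le ha, mem_centralizer_iff.mpr fun v hv'' => ?_⟩)
    have h1 : ⁅a, v⁆ ∈ (S : Subgroup G).lowerCentralSeries 1 :=
      commutator_mem_commutator (H₁ := (S : Subgroup G)) (H₂ := (S : Subgroup G)) (h.V'_le ha) (hVS hv'')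
    rw [h0, mem_bot, commutatorElement_eq_one_iff_mul_comm] at h1
    exact h1.symm
  -- powers
  have hpow : ∀ (n : ℕ), (∀ x ∈ V', ∀ y ∈ Vz S, (x * y) ^ n = 1) →
      ∀ s ∈ (S : Subgroup G), ∃ q ∈ Q, s ^ n = q ^ n := by
    intro n hn s hs
    obtain ⟨v', hv', v, hv'', d, hd', rfl⟩ := hdec' s hs
    refine ⟨d, hd'.1, ?_⟩
    have hc : Commute (v' * v) d := by
      show v' * v * d = d * (v' * v)
      rw [← mul_assoc, hdv d hd' v' hv', mul_assoc v' d, hdv2 d hd' v hv'', mul_assoc]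
    rw [hc.mul_pow, hn v' hv' v hv'', one_mul]
  have hchar : ∀ n : ℕ, (∀ x ∈ V', ∀ y ∈ Vz S, (x * y) ^ n = 1) → ∀ s ∈ (S : Subgroup G), s ^ n = 1 := by
    intro n hn
    obtain ⟨T, hT⟩ : ∃ T, T = closure {y : ↥(S : Subgroup G) | ∃ x, x ^ n = y} := ⟨_, rfl⟩
    by_contra hne
    push Not at hne
    obtain ⟨s, hs, hs1⟩ := hne
    refine hd T ?_ ?_ ?_
    · intro h0
      have h1 : (⟨s, hs⟩ : ↥(S : Subgroup G)) ^ n ∈ T := hT ▸ subset_closure ⟨_, rfl⟩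
      rw [h0, mem_bot] at h1
      exact hs1 (congrArg Subtype.val h1)
    · refine characteristic_iff_map_le.mpr fun φ => ?_
      conv_lhs => rw [hT]
      rw [MonoidHom.map_closure, closure_le]
      rintro _ ⟨_, ⟨x, rfl⟩, rfl⟩
      exact hT ▸ subset_closure ⟨φ x, (map_pow φ x n).symm⟩
    · refine ⟨fun y hy g => ?_⟩
      suffices hle : T.map (S : Subgroup G).subtype ≤ (T.map (S : Subgroup G).subtype).comap (MulAut.conj g).toMonoidHom from hle hy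
      conv_lhs => rw [hT]
      rw [MonoidHom.map_closure, closure_le]
      rintro _ ⟨_, ⟨x, rfl⟩, rfl⟩
      obtain ⟨q, hq, he⟩ := hpow n hn x x.2
      refine ⟨⟨g * q * g⁻¹, hQS (hQn.conj_mem q hq g)⟩ ^ n, hT ▸ subset_closure ⟨_, rfl⟩, ?_⟩
      show (g * q * g⁻¹) ^ n = g * ((x ^ n : ↥(S : Subgroup G)) : G) * g⁻¹
      rw [conj_pow, SubgroupClass.coe_pow, he]
  have hvw : ∀ x ∈ V', ∀ y ∈ Vz S, ∀ n : ℕ, (x * y) ^ n = x ^ n * y ^ n * ⁅y, x⁆ ^ (n * (n - 1) / 2) := by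
    intro x hx y hy n
    have hz : ⁅y, x⁆ ∈ Zs S := by rw [← commutatorElement_inv x y]; exact inv_mem (hv.move x (h.V'_le hx) y hy)
    have hzc : ∀ s ∈ (S : Subgroup G), Commute ⁅y, x⁆ s := fun s hs =>
      (mem_centralizer_iff.mp (mem_Zs.mp hz).2.1 s hs).symm
    have hk : ∀ m : ℕ, y ^ m * x = ⁅y, x⁆ ^ m * x * y ^ m := by
      intro m
      induction m with
      | zero => simp
      | succ m ih =>
        have h1 : y * x = ⁅y, x⁆ * x * y := by rw [commutatorElement_def]; group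
        have h2 : y ^ m * ⁅y, x⁆ = ⁅y, x⁆ * y ^ m := (((hzc y (hVS hy)).pow_right m).eq).symm
        rw [pow_succ, mul_assoc, h1, ← mul_assoc, ← mul_assoc, h2, mul_assoc ⁅y, x⁆, ih, pow_succ' ⁅y, x⁆, ← mul_assoc,
          ← mul_assoc, ← mul_assoc]
    induction n with
    | zero => simp
    | succ n ih =>
      have hz2 : ∀ s ∈ (S : Subgroup G), ∀ m : ℕ, Commute (⁅y, x⁆ ^ m) s := fun s hs m => (hzc s hs).pow_left m
      rw [pow_succ, ih, show (n + 1) * (n + 1 - 1) / 2 = n * (n - 1) / 2 + n by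
        rw [Nat.add_sub_cancel]
        cases n with
        | zero => rfl
        | succ k =>
          simp only [Nat.add_sub_cancel]
          rw [show (k + 1 + 1) * (k + 1) = (k + 1) * k + 2 * (k + 1) by ring, Nat.add_mul_div_left _ _ (by norm_num : 0 < 2)],
        pow_add]
      calc x ^ n * y ^ n * ⁅y, x⁆ ^ (n * (n - 1) / 2) * (x * y)
          = x ^ n * (y ^ n * x) * (⁅y, x⁆ ^ (n * (n - 1) / 2) * y) := by
            rw [mul_assoc _ (⁅y, x⁆ ^ _) (x * y), ← mul_assoc (⁅y, x⁆ ^ _) x y, (hz2 x (h.V'_le hx) _).eq]; group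
        _ = x ^ n * (⁅y, x⁆ ^ n * x * y ^ n) * (y * ⁅y, x⁆ ^ (n * (n - 1) / 2)) := by rw [hk, (hz2 y (hVS hy) _).eq]
        _ = x ^ n * (x * ⁅y, x⁆ ^ n) * (y ^ n * y) * ⁅y, x⁆ ^ (n * (n - 1) / 2) := by rw [(hz2 x (h.V'_le hx) n).eq]; group
        _ = x ^ (n + 1) * (⁅y, x⁆ ^ n * y ^ (n + 1)) * ⁅y, x⁆ ^ (n * (n - 1) / 2) := by
            rw [← pow_succ y, pow_succ x]; group
        _ = _ := by rw [(hz2 _ (pow_mem (hVS hy) (n + 1)) n).eq]; simp only [pow_add, pow_one, mul_assoc]; rw [((Commute.refl ⁅y, x⁆).pow_pow n (n * (n - 1) / 2)).eq]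
  have hZp : ∀ x ∈ V', ∀ y ∈ Vz S, ⁅y, x⁆ ^ p = 1 := fun x hx y hy => by
    rw [← commutatorElement_inv x y, inv_pow, (mem_Zs.mp (hv.move x (h.V'_le hx) y hy)).2.2, inv_one]
  refine ⟨hclass, hnab, fun hp2 => ?_, fun hp2 => ?_, hcop, Vz S, Cz S, hv.C0_le.trans hv.Z_le, hv.le_core, hch, hnc,
    ⟨1, iter_center hC0⟩, hiter⟩
  · subst hp2
    have h4 : ∀ s ∈ (S : Subgroup G), s ^ 4 = 1 := hchar 4 fun x hx y hy => by
      rw [hvw x hx y hy, show (4 : ℕ) * (4 - 1) / 2 = 2 * 3 by norm_num, pow_mul, hZp x hx y hy, one_pow,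
        show (4 : ℕ) = 2 * 2 by norm_num, pow_mul, pow_mul, h.V'_exp x hx, hv.exp y hy, one_pow, mul_one, mul_one]
    have hd4 : Monoid.exponent ↥(S : Subgroup G) ∣ 4 :=
      Monoid.exponent_dvd_of_forall_pow_eq_one fun s => Subtype.ext (h4 s s.2)
    have hmem : Monoid.exponent ↥(S : Subgroup G) ∈ Nat.divisors 4 := Nat.mem_divisors.mpr ⟨hd4, by norm_num⟩
    rw [show Nat.divisors 4 = {1, 2, 4} by decide, Finset.mem_insert, Finset.mem_insert, Finset.mem_singleton] at hmem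
    have habel : Monoid.exponent ↥(S : Subgroup G) ∣ 2 → False := fun hd2 => by
      refine hnab (le_bot_iff.mp (commutator_le.mpr fun x hx y hy => ?_))
      have hsq : ∀ z ∈ (S : Subgroup G), z⁻¹ = z := fun z hz => by
        have h2 := congrArg Subtype.val ((Monoid.pow_exponent_eq_one (⟨z, hz⟩ : ↥(S : Subgroup G))))
        obtain ⟨k, hk⟩ := hd2
        have h3 : z ^ 2 = 1 := by
          have h2' : z ^ Monoid.exponent ↥(S : Subgroup G) = 1 := h2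
          rw [hk, pow_mul, h2', one_pow]
        rw [inv_eq_iff_mul_eq_one, ← pow_two, h3]
      rw [mem_bot, commutatorElement_eq_one_iff_mul_comm]
      calc x * y = (x * y)⁻¹ := (hsq _ (mul_mem hx hy)).symm
        _ = _ := by rw [mul_inv_rev, hsq x hx, hsq y hy]
    rcases hmem with h1 | h1 | h1
    · exact (habel (by rw [h1]; exact one_dvd 2)).elim
    · exact (habel (by rw [h1])).elim
    · exact h1
  · have hp' : ∀ s ∈ (S : Subgroup G), s ^ p = 1 := hchar p fun x hx y hy => by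
      obtain ⟨k, hk⟩ := hp.out.odd_of_ne_two hp2
      rw [hvw x hx y hy, h.V'_exp x hx, hv.exp y hy, one_mul, one_mul,
        show p * (p - 1) / 2 = p * k by rw [hk, Nat.add_sub_cancel, Nat.mul_left_comm, Nat.mul_div_cancel_left _ (by norm_num)],
        pow_mul, hZp x hx y hy, one_pow]
    refine ((Nat.dvd_prime hp.out).mp (Monoid.exponent_dvd_of_forall_pow_eq_one fun s => Subtype.ext (hp' s s.2))).resolve_left
      fun h1 => hnab (le_bot_iff.mp (commutator_le.mpr fun x hx y _ => ?_))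
    have hx1 : x = 1 := congrArg Subtype.val (by
      have h2 := Monoid.pow_exponent_eq_one (⟨x, hx⟩ : ↥(S : Subgroup G))
      simpa [h1] using h2)
    rw [hx1, commutatorElement_one_left, mem_bot]

end Cfsg.Agent.Invol.PushUp
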