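import Mathlib
import Cfsg.Agent.Lib.Invol.PushUp.One
import Cfsg.Agent.Lib.Invol.PushUp.Middle

/-!
# The exceptional case: critical distance two
-/

set_option autoImplicit false
set_option linter.style.haveILetI false
set_option linter.unusedSectionVars false

namespace Cfsg.Agent.Invol.PushUp

open Subgroup
open scoped commutatorElement

universe u

variable {G : Type u} [Group G] [Finite G] {p : ℕ} [hp : Fact p.Prime]
variable {S : Sylow p G} {F : Type} [Field F] [Fintype F] {fr : Frame S F}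

/-- The normal closure of the two neighbouring modules and `Vz S`. -/
def twoU (S : Sylow p G) (Vl Vr : Subgroup G) : Subgroup G :=
  normalClosure ((Vl : Set G) ∪ (Vr : Set G) ∪ (Vz S : Set G))

instance instNormalTwoU (S : Sylow p G) (Vl Vr : Subgroup G) : (twoU S Vl Vr).Normal := normalClosure_normal

/-- Five consecutive vertices read in the middle one. -/
structure TwoData (fr : Frame S F) (a : G) (Vll Vl Vr Ql Qr Cl : Subgroup G) : Prop where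
  turn : a ∉ fr.M
  Ql_le : Ql ≤ (S : Subgroup G)
  Ql_normal : ∀ s ∈ (S : Subgroup G), ∀ x ∈ Ql, s * x * s⁻¹ ∈ Ql
  Vll_le : Vll ≤ Ql
  Vl_le : Vl ≤ Cfsg.pCore p G ⊓ Ql
  Vr_le : Vr ≤ Cfsg.pCore p G
  V_le_Ql : Vz S ≤ Ql
  Vll_exp : ∀ v ∈ Vll, v ^ p = 1
  Vl_exp : ∀ v ∈ Vl, v ^ p = 1
  Vr_exp : ∀ v ∈ Vr, v ^ p = 1
  Vll_comm : ∀ v ∈ Vll, ∀ w ∈ Vll, v * w = w * v
  Ql_comm : ∀ x ∈ Ql, ∀ v ∈ Vl, x * v = v * x
  Qr_comm : ∀ x ∈ Qr, ∀ v ∈ Vr, x * v = v * x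
  decompA : ∀ s ∈ (S : Subgroup G), ∃ t ∈ Vll, t⁻¹ * s ∈ Cfsg.pCore p G
  decompR : ∀ s ∈ (S : Subgroup G), ∃ v ∈ Vr, v⁻¹ * s ∈ Ql
  decompL : ∀ q ∈ Cfsg.pCore p G, ∃ v ∈ Vl, v⁻¹ * q ∈ Qr
  movC : ∀ q ∈ Cfsg.pCore p G, (∀ v ∈ Vl, ⁅v, q⁆ ∈ Cz S) ∧ ∀ v ∈ Vr, ⁅v, q⁆ ∈ Cz S
  movCl : ∀ y ∈ Ql, ∀ t ∈ Vll, ⁅t, y⁆ ∈ Cl
  Cl_le : Cl ≤ Zs S
  outside : ∃ t ∈ Vll, t ∉ Cfsg.pCore p G
  outsideR : ∃ v ∈ Vr, v ∉ Ql
  engel : ∀ t ∈ Vll, t ∉ Cfsg.pCore p G → ∀ v ∈ Vr, v ∉ Ql → ⁅t, ⁅t, v⁆⁆ ∉ Cz S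
  sec : ∃ F₀, Mid fr (twoU S Vl Vr) Vr (twoU S Vl Vr ⊓ Ql) F₀ a

/-- In a group of exponent three every element commutes with its conjugates. -/
theorem engel_of_exp_three {H : Type*} [Group H] (h : ∀ z : H, z ^ 3 = 1) (y x : H) : ⁅y, ⁅y, x⁆⁆ = 1 := by
  have key : ∀ a b : H, a * b * a = b⁻¹ * a⁻¹ * b⁻¹ := fun a b => by
    have h1 : b * a * b * a * b * a = 1 := by
      calc b * a * b * a * b * a = (b * a) ^ 3 := by rw [pow_succ, pow_succ, pow_one]; group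
        _ = 1 := h _
    calc a * b * a = b⁻¹ * a⁻¹ * b⁻¹ * (b * a * b * a * b * a) := by group
      _ = _ := by rw [h1, mul_one]
  have hsq : ∀ a : H, a * a = a⁻¹ := fun a => eq_inv_of_mul_eq_one_left (by rw [← pow_three', h a])
  have hc : y * (x * y * x⁻¹) = x * y * x⁻¹ * y := by
    have e1 : y * (x * y * x⁻¹) = x⁻¹ * y⁻¹ * x := by
      calc y * (x * y * x⁻¹) = y * (x * y * x) * (x⁻¹ * x⁻¹) := by group
        _ = x⁻¹ * y⁻¹ * (x⁻¹ * x⁻¹) := by rw [key x y]; group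
        _ = _ := by rw [hsq x⁻¹, inv_inv]
    have e2 : x * y * x⁻¹ * y = x⁻¹ * y⁻¹ * x := by
      calc x * y * x⁻¹ * y = x * x * (x⁻¹ * y * x⁻¹) * y := by group
        _ = x⁻¹ * (x⁻¹ * y * x⁻¹) * y := by rw [hsq x]
        _ = _ := by rw [key x⁻¹ y, inv_inv]; group
    rw [e1, e2]
  rw [commutatorElement_eq_one_iff_mul_comm, commutatorElement_def]
  have hc' : Commute y (x * y * x⁻¹) := hc
  have h2 : Commute y (x * y * x⁻¹)⁻¹ := hc'.inv_right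
  rw [show y * x * y⁻¹ * x⁻¹ = y * (x * y * x⁻¹)⁻¹ by group]
  calc y * (y * (x * y * x⁻¹)⁻¹) = y * ((x * y * x⁻¹)⁻¹ * y) := by rw [h2.eq]
    _ = _ := (mul_assoc _ _ _).symm

theorem TwoData.result (hd : NoChar S) (hv : IsVertex fr) {a : G} {Vll Vl Vr Ql Qr Cl : Subgroup G}
    (h : TwoData fr a Vll Vl Vr Ql Qr Cl) : PushResult fr := by
  classical
  haveI hVn : (Vz S).Normal := normalClosure_normal
  obtain ⟨Q, hQ⟩ : ∃ Q, Q = Cfsg.pCore p G := ⟨_, rfl⟩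
  haveI hQn : Q.Normal := hQ ▸ Grp.pCore_isNormal
  have hQS : Q ≤ (S : Subgroup G) := hQ ▸ Grp.pCore_le_sylow S
  have hQp : IsPGroup p Q := S.isPGroup'.to_le hQS
  obtain ⟨U, hU⟩ : ∃ U, U = twoU S Vl Vr := ⟨_, rfl⟩
  haveI hUn : U.Normal := hU ▸ inferInstance
  obtain ⟨F₀, hF⟩ := h.sec
  rw [← hU] at hF
  obtain ⟨hFn, ρ, hline, hnat⟩ := hF.nat
  haveI := hFn
  obtain ⟨ρV, hρV, hkerV⟩ := hv.nat
  have hρeq : ρ = ρV := hnat.std.unique hρV.std
  have hVQ : Vz S ≤ Q := hQ ▸ hv.le_core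
  have hcQ : ∀ x ∈ Q, ∀ v ∈ Vz S, x * v = v * x := fun x hx => hv.cent_core x (hQ ▸ hx)
  have hC0 : Cz S ≤ center G := inf_le_right
  have hzS : ∀ z ∈ Zs S, ∀ s ∈ (S : Subgroup G), s * z = z * s := fun z hz s hs =>
    mem_centralizer_iff.mp (mem_Zs.mp hz).2.1 s hs
  have hgenU : ∀ (T : Subgroup G), T.Normal → Vl ≤ T → Vr ≤ T → Vz S ≤ T → U ≤ T := fun T hT h1 h2 h3 => by
    rw [hU]; exact normalClosure_le_normal (Set.union_subset (Set.union_subset h1 h2) h3)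
  have hVlU : Vl ≤ U := fun x hx => hU ▸ subset_normalClosure (Or.inl (Or.inl hx))
  have hVrU : Vr ≤ U := fun x hx => hU ▸ subset_normalClosure (Or.inl (Or.inr hx))
  have hVU : Vz S ≤ U := fun x hx => hU ▸ subset_normalClosure (Or.inr hx)
  have hUQ : U ≤ Q := hgenU Q hQn (fun x hx => hQ ▸ (h.Vl_le hx).1) (hQ ▸ h.Vr_le) hVQ
  -- the core moves `U` centrally
  have hquad : ∀ u ∈ U, ∀ q ∈ Q, ⁅u, q⁆ ∈ Cz S := by
    let T : Subgroup G :=
      { carrier := {u | ∀ q ∈ Q, ⁅u, q⁆ ∈ Cz S}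
        one_mem' := fun q _ => by rw [commutatorElement_one_left]; exact one_mem _
        mul_mem' := by
          intro x y hx hy q hq
          rw [show ⁅x * y, q⁆ = x * ⁅y, q⁆ * x⁻¹ * ⁅x, q⁆ by simp only [commutatorElement_def]; group,
            Subgroup.mem_center_iff.mp (hC0 (hy q hq)) x, mul_inv_cancel_right]
          exact mul_mem (hy q hq) (hx q hq)
        inv_mem' := by
          intro x hx q hq
          rw [show ⁅x⁻¹, q⁆ = x⁻¹ * ⁅x, q⁆⁻¹ * x⁻¹⁻¹ by simp only [commutatorElement_def]; group,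
            Subgroup.mem_center_iff.mp (inv_mem (hC0 (hx q hq))) x⁻¹, mul_inv_cancel_right]
          exact inv_mem (hx q hq) }
    haveI : T.Normal := ⟨fun x hx g q hq => by
      rw [show ⁅g * x * g⁻¹, q⁆ = g * ⁅x, g⁻¹ * q * g⁆ * g⁻¹ by simp only [commutatorElement_def]; group,
        Subgroup.mem_center_iff.mp (hC0 (hx _ (by simpa using hQn.conj_mem q hq g⁻¹))) g, mul_inv_cancel_right]
      exact hx _ (by simpa using hQn.conj_mem q hq g⁻¹)⟩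
    refine fun u hu => hgenU T inferInstance (fun v hv' q hq => (h.movC q (hQ ▸ hq)).1 v hv')
      (fun v hv' q hq => (h.movC q (hQ ▸ hq)).2 v hv') (fun v hv' q hq => ?_) hu
    rw [commutatorElement_eq_one_iff_mul_comm.mpr (hcQ q hq v hv').symm]; exact one_mem _
  have hUcomm : ∀ x ∈ U, ∀ y ∈ U, ⁅x, y⁆ ∈ Cz S := fun x hx y hy => hquad x hx y (hUQ hy)
  have hUexp : p ≠ 2 → ∀ x ∈ U, x ^ p = 1 := by
    intro hp2
    let T : Subgroup G :=
      { carrier := {x | x ∈ U ∧ x ^ p = 1}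
        one_mem' := ⟨one_mem _, one_pow p⟩
        mul_mem' := by
          rintro x y ⟨hx, hxp⟩ ⟨hy, hyp⟩
          refine ⟨mul_mem hx hy, ?_⟩
          obtain ⟨k, hk⟩ := hp.out.odd_of_ne_two hp2
          have hz : ⁅y, x⁆ ∈ Cz S := hUcomm y hy x hx
          have hzc : ∀ g : G, Commute ⁅y, x⁆ g := fun g => (Subgroup.mem_center_iff.mp (hC0 hz) g).symm
          have hzp : ⁅y, x⁆ ^ p = 1 := hv.exp _ hz.1
          have hm : ∀ n : ℕ, y ^ n * x = ⁅y, x⁆ ^ n * x * y ^ n := by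
            intro n
            induction n with
            | zero => simp
            | succ n ih =>
              have h1 : y * x = ⁅y, x⁆ * x * y := by rw [commutatorElement_def]; group
              rw [pow_succ, mul_assoc, h1, ← mul_assoc, ← mul_assoc, ((hzc (y ^ n)).eq).symm, mul_assoc ⁅y, x⁆, ih,
                pow_succ' ⁅y, x⁆, ← mul_assoc, ← mul_assoc, ← mul_assoc]
          have hpow : ∀ n : ℕ, (x * y) ^ n = x ^ n * y ^ n * ⁅y, x⁆ ^ (n * (n - 1) / 2) := by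
            intro n
            induction n with
            | zero => simp
            | succ n ih =>
              rw [pow_succ, ih, show (n + 1) * (n + 1 - 1) / 2 = n * (n - 1) / 2 + n by
                rw [Nat.add_sub_cancel]
                cases n with
                | zero => rfl
                | succ k =>
                  simp only [Nat.add_sub_cancel]
                  rw [show (k + 1 + 1) * (k + 1) = (k + 1) * k + 2 * (k + 1) by ring,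
                    Nat.add_mul_div_left _ _ (by norm_num : 0 < 2)]]
              calc x ^ n * y ^ n * ⁅y, x⁆ ^ (n * (n - 1) / 2) * (x * y)
                  = x ^ n * (y ^ n * x) * (y * ⁅y, x⁆ ^ (n * (n - 1) / 2)) := by
                    rw [mul_assoc (x ^ n * y ^ n), (((hzc (x * y)).pow_left _)).eq]; group
                _ = x ^ n * (⁅y, x⁆ ^ n * x * y ^ n) * (y * ⁅y, x⁆ ^ (n * (n - 1) / 2)) := by rw [hm]
                _ = x ^ n * (x * y ^ n * ⁅y, x⁆ ^ n) * (y * ⁅y, x⁆ ^ (n * (n - 1) / 2)) := by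
                    rw [mul_assoc (⁅y, x⁆ ^ n) x (y ^ n), ((hzc (x * y ^ n)).pow_left n).eq]
                _ = x ^ n * x * (y ^ n * (⁅y, x⁆ ^ n * y)) * ⁅y, x⁆ ^ (n * (n - 1) / 2) := by group
                _ = _ := by
                    rw [((hzc y).pow_left n).eq, pow_succ x, pow_succ y, pow_add]
                    simp only [mul_assoc]
                    rw [((Commute.refl ⁅y, x⁆).pow_pow n (n * (n - 1) / 2)).eq]
          rw [hpow, hxp, hyp, one_mul, one_mul, show p * (p - 1) / 2 = p * k by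
            rw [hk, Nat.add_sub_cancel, Nat.mul_left_comm, Nat.mul_div_cancel_left _ (by norm_num)], pow_mul, hzp, one_pow]
        inv_mem' := by
          rintro x ⟨hx, hxp⟩
          exact ⟨inv_mem hx, by rw [inv_pow, hxp, inv_one]⟩ }
    haveI : T.Normal := ⟨fun x hx g => ⟨hUn.conj_mem x hx.1 g, by rw [conj_pow, hx.2, mul_one, mul_inv_cancel]⟩⟩
    exact fun x hx => (hgenU T inferInstance (fun v hv' => ⟨hVlU hv', h.Vl_exp v hv'⟩)
      (fun v hv' => ⟨hVrU hv', h.Vr_exp v hv'⟩) (fun v hv' => ⟨hVU hv', hv.exp v hv'⟩) hx).2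
  -- the chosen elements
  obtain ⟨t, ht, htQ⟩ := h.outside
  obtain ⟨v, hv', hvQl⟩ := h.outsideR
  have htS : t ∈ (S : Subgroup G) := h.Ql_le (h.Vll_le ht)
  have hvU : v ∈ U := hVrU hv'
  have heQl : ∀ t ∈ Vll, ∀ x ∈ (S : Subgroup G), ⁅t, x⁆ ∈ Ql := fun t ht x hx => by
    rw [commutatorElement_def, show t * x * t⁻¹ * x⁻¹ = t * (x * t⁻¹ * x⁻¹) by group]
    exact mul_mem (h.Vll_le ht) (h.Ql_normal x hx _ (inv_mem (h.Vll_le ht)))
  have hD : ∀ y ∈ Ql, ⁅t, ⁅t, y⁆⁆ = 1 := fun y hy =>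
    commutatorElement_eq_one_iff_mul_comm.mpr (hzS _ (h.Cl_le (h.movCl y hy t ht)) t htS)
  have hz : ⁅t, ⁅t, v⁆⁆ ∈ Zs S :=
    h.Cl_le (h.movCl _ (heQl t ht v (hQS (hUQ hvU))) t ht)
  have hengel := h.engel t ht htQ v hv' hvQl
  -- the characteristic is three
  have hp2 : p ≠ 2 := by
    intro hp2
    subst hp2
    apply hengel
    obtain ⟨e, he⟩ : ∃ e, e = ⁅t, v⁆ := ⟨_, rfl⟩
    rw [← he]
    have heU : e ∈ U := he ▸ (by rw [commutatorElement_def]; exact U.mul_mem (hUn.conj_mem v hvU t) (U.inv_mem hvU))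
    have ht2 : t⁻¹ = t := inv_eq_of_mul_eq_one_left (by rw [← pow_two, h.Vll_exp t ht])
    have hv2 : v⁻¹ = v := inv_eq_of_mul_eq_one_left (by rw [← pow_two, h.Vr_exp v hv'])
    have hsq : ∀ u ∈ U, u ^ 2 ∈ Cz S := by
      let T : Subgroup G :=
        { carrier := {x | x ∈ U ∧ x ^ 2 ∈ Cz S}
          one_mem' := ⟨one_mem _, by rw [one_pow]; exact one_mem _⟩
          mul_mem' := by
            rintro x y ⟨hx, hxp⟩ ⟨hy, hyp⟩
            refine ⟨mul_mem hx hy, ?_⟩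
            have hzc := Subgroup.mem_center_iff.mp (hC0 (hUcomm y hy x hx)) x
            rw [show (x * y) ^ 2 = x * ⁅y, x⁆ * x⁻¹ * (x ^ 2) * (y ^ 2) by
              simp only [pow_two, commutatorElement_def]; group, hzc, mul_inv_cancel_right]
            exact mul_mem (mul_mem (hUcomm y hy x hx) hxp) hyp
          inv_mem' := by
            rintro x ⟨hx, hxp⟩
            exact ⟨inv_mem hx, by rw [inv_pow]; exact inv_mem hxp⟩ }
      haveI : T.Normal := ⟨fun x hx g => ⟨hUn.conj_mem x hx.1 g, by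
        rw [conj_pow]; exact (inferInstance : (Cz S).Normal).conj_mem _ hx.2 g⟩⟩
      refine fun u hu => (hgenU T inferInstance (fun w hw => ⟨hVlU hw, ?_⟩) (fun w hw => ⟨hVrU hw, ?_⟩)
        (fun w hw => ⟨hVU hw, ?_⟩) hu).2
      · rw [h.Vl_exp w hw]; exact one_mem _
      · rw [h.Vr_exp w hw]; exact one_mem _
      · rw [hv.exp w hw]; exact one_mem _
    have hte : t * e * t⁻¹ = e⁻¹ := by
      rw [he, commutatorElement_def]
      simp only [mul_inv_rev, ht2, hv2]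
      calc t * (t * v * t * v) * t = t * t * v * t * v * t := by group
        _ = _ := by
          rw [show t * t = 1 by rw [← pow_two, h.Vll_exp t ht], one_mul]
          simp [mul_assoc]
    rw [commutatorElement_def, hte, ← mul_inv_rev, ← pow_two]
    exact inv_mem (hsq e heU)
  -- the kernel
  haveI hCn := PushUnique.centralizer_normal' (Vz S)
  have hVrF : ¬ v ∈ F₀ := fun hvF => hvQl (hF.F_le_L hvF).2
  have hiterFV : ∀ x ∈ F₀, ∀ g : G, ⁅g, x⁆ ∈ Vz S := fun x hx => ((hF.memF x).mp hx).2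
  have hmoveQ : ∀ q ∈ Q, ⁅t, q⁆ ∈ U := by
    intro q hq
    obtain ⟨w, hw, hy⟩ := h.decompR q (hQS hq)
    rw [show ⁅t, q⁆ = ⁅t, w⁆ * (w * ⁅t, w⁻¹ * q⁆ * w⁻¹) by simp only [commutatorElement_def]; group]
    refine mul_mem ?_ (hUn.conj_mem _ (hVU (hv.Z_le (h.Cl_le (h.movCl _ hy t ht)))) w)
    rw [commutatorElement_def]; exact U.mul_mem (hUn.conj_mem w (hVrU hw) t) (U.inv_mem (hVrU hw))
  obtain ⟨hiterQ, hcop⟩ := quotient_hyper fr (U := U) htS (hQ ▸ htQ) (hQ ▸ hmoveQ)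
  have hcent : ∀ c ∈ centralizer (Vz S : Set G), c ∈ Cfsg.pCore p G := by
    refine le_core_of_coprime (S := S) hv.S_inf_cent.le fun c hc hcp => ?_
    have hρc : ρ c = 1 := by rw [hρeq, hkerV]; exact hc
    have hcF : ∀ f ∈ F₀, c * f = f * c := fun f hf =>
      stab_step hQp hcp (hVQ (hiterFV f hf c)) ((mem_centralizer_iff.mp hc _ (hiterFV f hf c)).symm)
    have hcU : ∀ u ∈ U, c * u = u * c := fun u hu => by
      have h1 := (hnat.ker c).mpr hρc u hu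
      exact stab_step hQp hcp (hUQ ((hF.memF _).mp h1).1) (hcF _ h1)
    refine fr.hcore (mem_centralizer_iff.mpr fun q hq => ?_)
    have h1 := hcop c hcp q hq
    exact (stab_step hQp hcp (hUQ h1) (hcU _ h1)).symm
  have hkerQ : ∀ c, ρ c = 1 → c ∈ Q := fun c hc => hQ ▸ hcent c ((hkerV c).mp (hρeq ▸ hc))
  -- the torus forces three
  have hp3 : p = 3 := by
    by_contra hp3
    obtain ⟨π, hπ⟩ : ∃ π, π = QuotientGroup.mk' (Cz S) := ⟨_, rfl⟩
    have hπ1 : ∀ x, π x = 1 ↔ x ∈ Cz S := fun x => hπ ▸ QuotientGroup.eq_one_iff x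
    have hπc : ∀ x ∈ U, ∀ y ∈ Q, π x * π y = π y * π x := fun x hx y hy => by
      rw [← commutatorElement_eq_one_iff_mul_comm, ← map_commutatorElement, hπ1]; exact hquad x hx y hy
    haveI := Nat2.charP_of_card (F := F) (p := p) (n := Nat.log p (Fintype.card F)) (by
      obtain ⟨k, hk⟩ := IsPGroup.iff_card.mp (hQp.to_le (le_refl Q))
      obtain ⟨j, hj⟩ := IsPGroup.iff_card.mp S.isPGroup'
      have h1 := fr.card_S
      rw [← hQ, hk, hj] at h1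
      obtain ⟨i, -, hi⟩ := (Nat.dvd_prime_pow hp.out).mp (Dvd.intro _ h1.symm : Fintype.card F ∣ p ^ j)
      rw [hi, Nat.log_pow hp.out.one_lt])
    have h2 : (2 : F) ≠ 0 := Cfsg.Agent.Grp.SL2.two_ne_zero' p hp2
    obtain ⟨τ, hτ⟩ := hnat.std.surjective (Nat2.dg (2 : F) h2)
    obtain ⟨ts, hts⟩ : ∃ ts, ts = τ * t * τ⁻¹ := ⟨_, rfl⟩
    -- the conjugate acts as the fourth power
    obtain ⟨tu, htu⟩ : ∃ x, Cfsg.Agent.Grp.SL2.up x = ρ t := by
      obtain ⟨x, hx⟩ := fr.σ_surj t htS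
      refine ⟨x, ?_⟩
      have h1 := hnat.std.core _ hx
      rw [map_mul, map_inv, inv_mul_eq_one] at h1
      rw [← h1, hnat.std.up']
    have hact : ∀ u ∈ U, π (ts * u * ts⁻¹) = π (t ^ 4 * u * (t ^ 4)⁻¹) := by
      intro u hu
      have hk : ρ ((t ^ 4)⁻¹ * ts) = 1 := by
        rw [hts, map_mul, map_inv, map_pow, map_mul, map_mul, map_inv, ← htu, hτ, Nat2.dg_up, mul_inv_cancel_right,
          inv_mul_eq_one, Cfsg.Agent.Grp.SL2.up_pow]
        congr 1; push_cast; ring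
      obtain ⟨c, hc⟩ : ∃ c, c = (t ^ 4)⁻¹ * ts := ⟨_, rfl⟩
      rw [← hc] at hk
      have hcu := hπc u hu c (hkerQ c hk)
      rw [show ts = t ^ 4 * c by rw [hc]; group]
      simp only [map_mul, map_inv, mul_inv_rev]
      calc π (t ^ 4) * π c * π u * ((π c)⁻¹ * (π (t ^ 4))⁻¹) = π (t ^ 4) * (π c * π u) * (π c)⁻¹ * (π (t ^ 4))⁻¹ := by group
        _ = _ := by rw [← hcu]; group
    -- iterated displacements in the quotient
    have hdouble : ∀ (σ : G ⧸ Cz S) (u e z : G ⧸ Cz S), σ * u * σ⁻¹ = e * u → σ * e * σ⁻¹ = z * e → σ * z * σ⁻¹ = z →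
        e * z = z * e → σ ^ 2 * u * (σ ^ 2)⁻¹ = z * e ^ 2 * u ∧ σ ^ 2 * (z * e ^ 2) * (σ ^ 2)⁻¹ = z ^ 4 * (z * e ^ 2) ∧
          σ ^ 2 * z ^ 4 * (σ ^ 2)⁻¹ = z ^ 4 ∧ (z * e ^ 2) * z ^ 4 = z ^ 4 * (z * e ^ 2) := by
      intro σ u e z hu he hz hez
      have hez' : Commute e z := hez
      have hσz : Commute σ z := mul_inv_eq_iff_eq_mul.mp hz
      refine ⟨?_, ?_, ?_, ?_⟩
      · calc σ ^ 2 * u * (σ ^ 2)⁻¹ = σ * (σ * u * σ⁻¹) * σ⁻¹ := by rw [pow_two]; group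
          _ = σ * (e * u) * σ⁻¹ := by rw [hu]
          _ = (σ * e * σ⁻¹) * (σ * u * σ⁻¹) := by group
          _ = z * e * (e * u) := by rw [he, hu]
          _ = _ := by rw [pow_two]; simp only [mul_assoc]
      · have h1 : σ ^ 2 * e * (σ ^ 2)⁻¹ = z ^ 2 * e := by
          calc σ ^ 2 * e * (σ ^ 2)⁻¹ = σ * (σ * e * σ⁻¹) * σ⁻¹ := by rw [pow_two]; group
            _ = σ * (z * e) * σ⁻¹ := by rw [he]
            _ = (σ * z * σ⁻¹) * (σ * e * σ⁻¹) := by group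
            _ = z * (z * e) := by rw [hz, he]
            _ = _ := by rw [pow_two, mul_assoc]
        calc σ ^ 2 * (z * e ^ 2) * (σ ^ 2)⁻¹ = σ ^ 2 * z * (σ ^ 2)⁻¹ * (σ ^ 2 * e * (σ ^ 2)⁻¹) ^ 2 := by
              rw [conj_pow]; group
          _ = z * (z ^ 2 * e) ^ 2 := by rw [h1, (hσz.pow_left 2).eq, mul_inv_cancel_right]
          _ = z * ((z ^ 2) ^ 2 * e ^ 2) := by rw [(hez'.symm.pow_left 2).mul_pow]
          _ = _ := by rw [← mul_assoc, ← pow_mul, ← pow_succ', pow_succ, mul_assoc]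
      · rw [((hσz.pow_left 2).pow_right 4).eq, mul_inv_cancel_right]
      · exact (((Commute.refl z).mul_left (hez'.pow_left 2)).pow_right 4).eq
    have hquad4 : ∀ (σ : G ⧸ Cz S) (u e z : G ⧸ Cz S), σ * u * σ⁻¹ = e * u → σ * e * σ⁻¹ = z * e → σ * z * σ⁻¹ = z →
        e * z = z * e → ⁅σ ^ 4, ⁅σ ^ 4, u⁆⁆ = z ^ 16 := by
      intro σ u e z hu he hz hez
      obtain ⟨a1, a2, a3, a4⟩ := hdouble σ u e z hu he hz hez
      obtain ⟨b1, b2, -, -⟩ := hdouble (σ ^ 2) u _ _ a1 a2 a3 a4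
      rw [← pow_mul] at b1 b2
      rw [commutatorElement_def (σ ^ 4) u, b1, mul_inv_cancel_right, commutatorElement_def, b2, mul_inv_cancel_right,
        ← pow_mul]
    -- displacements of elements of `U`
    have hUS : ∀ u ∈ U, u ∈ (S : Subgroup G) := fun u hu => hQS (hUQ hu)
    have hEU : ∀ u ∈ U, ⁅t, u⁆ ∈ U := fun u hu => by
      rw [commutatorElement_def]; exact U.mul_mem (hUn.conj_mem u hu t) (U.inv_mem hu)
    have hquadU : ∀ u ∈ U, π ⁅t ^ 4, ⁅t ^ 4, u⁆⁆ = π ⁅t, ⁅t, u⁆⁆ ^ 16 := by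
      intro u hu
      have hzz := hzS _ (h.Cl_le (h.movCl _ (heQl t ht u (hUS u hu)) t ht)) t htS
      rw [map_commutatorElement, map_commutatorElement, map_pow]
      refine hquad4 (π t) (π u) (π ⁅t, u⁆) _ ?_ ?_ ?_ ?_
      · rw [← map_inv, ← map_mul, ← map_mul, ← map_mul, commutatorElement_def, inv_mul_cancel_right]
      · rw [← map_inv, ← map_mul, ← map_mul, ← map_mul, commutatorElement_def t ⁅t, u⁆, inv_mul_cancel_right]
      · rw [← map_inv, ← map_mul, ← map_mul, hzz, mul_inv_cancel_right]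
      · exact hπc _ (hEU u hu) _ (hUQ (hEU _ (hEU u hu)))
    -- the displacement is a homomorphism on `U`
    have hlin : ∀ x ∈ U, ∀ y ∈ U, π ⁅t, ⁅t, x * y⁆⁆ = π ⁅t, ⁅t, x⁆⁆ * π ⁅t, ⁅t, y⁆⁆ := by
      have h1 : ∀ x ∈ U, ∀ y ∈ U, π ⁅t, x * y⁆ = π ⁅t, x⁆ * π ⁅t, y⁆ := fun x hx y hy => by
        rw [show ⁅t, x * y⁆ = ⁅t, x⁆ * (x * ⁅t, y⁆ * x⁻¹) by simp only [commutatorElement_def]; group, map_mul, map_mul,
          map_mul, map_inv, hπc x hx _ (hUQ (hEU y hy)), mul_inv_cancel_right]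
      intro x hx y hy
      obtain ⟨c, hc, he⟩ : ∃ c ∈ Cz S, ⁅t, x * y⁆ = ⁅t, x⁆ * ⁅t, y⁆ * c :=
        ⟨(⁅t, x⁆ * ⁅t, y⁆)⁻¹ * ⁅t, x * y⁆, (hπ1 _).mp (by rw [map_mul, map_inv, map_mul, h1 x hx y hy, inv_mul_cancel]),
          (mul_inv_cancel_left _ _).symm⟩
      have hcU : c ∈ U := hVU (hc.1)
      have hc1 : ⁅t, c⁆ = 1 := commutatorElement_eq_one_iff_mul_comm.mpr (Subgroup.mem_center_iff.mp (hC0 hc) t)
      rw [he, h1 _ (U.mul_mem (hEU x hx) (hEU y hy)) _ hcU, h1 _ (hEU x hx) _ (hEU y hy), hc1, map_one, mul_one]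
    obtain ⟨m, hm⟩ : ∃ m : ℕ, (2 : F) * m = 1 := by
      obtain ⟨k, hk⟩ := hp.out.odd_of_ne_two hp2
      refine ⟨k + 1, ?_⟩
      have h0 : ((p : ℕ) : F) = 0 := CharP.cast_eq_zero F p
      rw [hk] at h0
      push_cast at h0 ⊢
      linear_combination h0
    obtain ⟨ψ, hψadd, hψ0, hψact⟩ := hnat.coords
    have hψpow : ∀ u ∈ U, ∀ n : ℕ, ψ (u ^ n) = n • ψ u := by
      intro u hu n
      induction n with
      | zero =>
        have h1 := hψadd 1 (one_mem _) 1 (one_mem _)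
        rw [one_mul] at h1
        rw [pow_zero, zero_smul]
        exact left_eq_add.mp h1
      | succ n ih => rw [pow_succ, hψadd _ (pow_mem hu n) u hu, ih, succ_nsmul]
    -- the line of `S` is where the second coordinate vanishes
    have hcoord : ∀ u ∈ U, ψ u 1 = 0 → u ∈ U ⊓ Ql := by
      intro u hu h1
      refine hnat.fix (fr.σ 1) (fr.σ_mem 1) (fun h' => one_ne_zero (fr.σ_eq_zero 1 h')) u hu ?_
      have hc : fr.σ 1 * u * (fr.σ 1)⁻¹ ∈ U := hUn.conj_mem u hu _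
      refine (hψ0 _ (by rw [commutatorElement_def]; exact U.mul_mem hc (U.inv_mem hu))).mp ?_
      have h2 := hψadd ⁅fr.σ 1, u⁆ (by rw [commutatorElement_def]; exact U.mul_mem hc (U.inv_mem hu)) u hu
      rw [show ⁅fr.σ 1, u⁆ * u = fr.σ 1 * u * (fr.σ 1)⁻¹ by rw [commutatorElement_def]; group, hψact _ u hu,
        hnat.std.up', Nat2.mulVec_up] at h2
      have h3 : ![ψ u 0 + 1 * ψ u 1, ψ u 1] = ψ u := by
        funext i; fin_cases i <;> simp [h1]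
      rw [h3] at h2
      exact right_eq_add.mp h2
    obtain ⟨vt, hvt⟩ : ∃ vt, vt = τ * v * τ⁻¹ := ⟨_, rfl⟩
    have hvtU : vt ∈ U := hvt ▸ hUn.conj_mem v hvU τ
    obtain ⟨l, hl⟩ : ∃ l, l = (v ^ m)⁻¹ * vt := ⟨_, rfl⟩
    have hlU : l ∈ U := hl ▸ U.mul_mem (U.inv_mem (pow_mem hvU m)) hvtU
    have hlL : l ∈ Ql := by
      refine (hcoord l hlU ?_).2
      have h1 := hψadd (v ^ m) (pow_mem hvU m) l hlU
      rw [hl, mul_inv_cancel_left, ← hl] at h1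
      have h2 : ψ vt 1 = m • ψ v 1 := by
        rw [hvt, hψact τ v hvU, hτ, Nat2.mulVec_dg]
        simp only [Matrix.cons_val_one, Matrix.cons_val_zero, nsmul_eq_mul]
        rw [eq_inv_of_mul_eq_one_right hm]
      have h3 := congrFun h1 1
      rw [Pi.add_apply, hψpow v hvU m, Pi.smul_apply, h2] at h3
      exact left_eq_add.mp h3
    obtain ⟨z, hzd⟩ : ∃ z, z = ⁅t, ⁅t, v⁆⁆ := ⟨_, rfl⟩
    rw [← hzd] at hz hengel
    have hlin0 : π ⁅t, ⁅t, vt⁆⁆ = π z ^ m := by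
      rw [show vt = v ^ m * l by rw [hl]; group, hlin _ (pow_mem hvU m) _ hlU, hD l hlL, map_one, mul_one, hzd]
      clear hl hlU hlL
      induction m generalizing vt with
      | zero => simp
      | succ n _ =>
        have : ∀ k : ℕ, π ⁅t, ⁅t, v ^ k⁆⁆ = π ⁅t, ⁅t, v⁆⁆ ^ k := by
          intro k
          induction k with
          | zero => simp
          | succ k ih => rw [pow_succ, hlin _ (pow_mem hvU k) _ hvU, ih, pow_succ]
        exact this _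
    -- the torus doubles the line of `S` in `Vz S`
    obtain ⟨ψV, hVadd, hV0, hVact⟩ := hρV.coords
    have hzV : z ∈ Vz S := hv.Z_le hz
    have hz2 : π (τ * z * τ⁻¹) = π z ^ 2 := by
      have hzc : ψV z 1 = 0 := by
        have hcs : fr.σ 1 * z * (fr.σ 1)⁻¹ = z := by rw [hzS z hz _ (fr.σ_mem 1), mul_inv_cancel_right]
        have h1 := hVact (fr.σ 1) z hzV
        rw [hcs, hρV.std.up', Nat2.mulVec_up] at h1
        have h2 := congrFun h1 0
        simpa using h2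
      have hτz : τ * z * τ⁻¹ ∈ Vz S := hVn.conj_mem z hzV τ
      have h2c : (τ * z * τ⁻¹)⁻¹ * z ^ 2 ∈ Cz S := by
        refine (hV0 _ ((Vz S).mul_mem ((Vz S).inv_mem hτz) (pow_mem hzV 2))).mp ?_
        have h1 := hVadd (τ * z * τ⁻¹) hτz _ ((Vz S).mul_mem ((Vz S).inv_mem hτz) (pow_mem hzV 2))
        rw [mul_inv_cancel_left, hVact τ z hzV, ← hρeq, hτ, Nat2.mulVec_dg, pow_two, hVadd z hzV z hzV, hzc] at h1
        have h3 : ψV z + ψV z = ![2 * ψV z 0, 2⁻¹ * 0] := by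
          funext i; fin_cases i <;> simp [hzc, two_mul]
        rw [h3] at h1
        rw [pow_two]
        exact left_eq_add.mp h1
      have h3 := (hπ1 _).mpr h2c
      rw [map_mul, map_inv, inv_mul_eq_one, map_pow] at h3
      exact h3
    have hkey : π (τ * z * τ⁻¹) = π ⁅t ^ 4, ⁅t ^ 4, vt⁆⁆ := by
      have e : τ * z * τ⁻¹ = ⁅ts, ⁅ts, vt⁆⁆ := by
        rw [hzd, hts, hvt]; simp only [commutatorElement_def]; group
      have hcomm : ∀ x ∈ U, π ⁅ts, x⁆ = π ⁅t ^ 4, x⁆ := fun x hx => by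
        simp only [commutatorElement_def]; rw [map_mul, hact x hx, ← map_mul]
      have hU4 : ⁅t ^ 4, vt⁆ ∈ U := by
        rw [commutatorElement_def]; exact U.mul_mem (hUn.conj_mem vt hvtU _) (U.inv_mem hvtU)
      rw [e, map_commutatorElement, hcomm vt hvtU, ← map_commutatorElement, hcomm _ hU4]
    rw [hz2, hquadU vt hvtU, hlin0, ← pow_mul] at hkey
    -- compare exponents
    have hzp : π z ^ p = 1 := by rw [← map_pow, (mem_Zs.mp hz).2.2, map_one]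
    have hord : orderOf (π z) = p := (Nat.dvd_prime hp.out).mp (orderOf_dvd_of_pow_eq_one hzp) |>.resolve_left
      fun h1 => hengel ((hπ1 z).mp (orderOf_eq_one_iff.mp h1))
    have hmod : ((2 : ℕ) : F) = ((m * 16 : ℕ) : F) := by
      have h1 := pow_eq_pow_iff_modEq.mp hkey
      rw [hord] at h1
      exact (CharP.natCast_eq_natCast F p).mpr h1
    have h12 : ((12 : ℕ) : F) = 0 := by
      push_cast at hmod ⊢
      linear_combination -2 * hmod - 16 * hm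
    rw [CharP.cast_eq_zero_iff F p] at h12
    have hp12 : p ∣ 2 * (2 * 3) := by norm_num; exact h12
    rcases (Nat.Prime.dvd_mul hp.out).mp hp12 with h6 | h6
    · exact hp2 ((Nat.prime_dvd_prime_iff_eq hp.out Nat.prime_two).mp h6)
    rcases (Nat.Prime.dvd_mul hp.out).mp h6 with h7 | h7
    · exact hp2 ((Nat.prime_dvd_prime_iff_eq hp.out Nat.prime_two).mp h7)
    · exact hp3 ((Nat.prime_dvd_prime_iff_eq hp.out Nat.prime_three).mp h7)
  -- chief factors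
  obtain ⟨hchV, hncV⟩ := hρV.chief hVn (hv.C0_le.trans hv.Z_le)
  obtain ⟨hchU, hncU⟩ := hnat.chief hUn (hline.WL.trans hline.LU)
  have hFV : Cfsg.iterCommutator F₀ ⊤ 1 ≤ Vz S := by
    refine commutator_le.mpr fun f hf g _ => ?_
    rw [← commutatorElement_inv g f]
    exact inv_mem (hiterFV f hf g)
  refine ⟨hcent, fun U' W' _ hU'Q hUW hUnc => ?_, Or.inr ?_⟩
  · obtain ⟨k, hk⟩ := hiterQ
    have h1 : U' ≤ U ⊔ W' := descend_hyper hUW hUnc (hU'Q.trans le_sup_left) hk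
    by_cases h2 : U' ≤ F₀ ⊔ W'
    · have h3 : U' ≤ Vz S ⊔ W' := descend_hyper hUW hUnc h2 hFV
      refine descend_natural fr hρV hv.line hUW h3 fun h4 => ?_
      have h0 := descend_hyper hUW hUnc h4 (iter_center hC0).le
      rw [bot_sup_eq] at h0
      exact hUW.1.not_ge h0
    · exact descend_natural fr hnat hline hUW h1 h2
  -- the shape of `S`
  obtain ⟨D, hD'⟩ : ∃ D, D = Q ⊓ Ql ⊓ Qr := ⟨_, rfl⟩
  obtain ⟨P₀, hP₀⟩ : ∃ P₀, P₀ = Vll ⊔ Vr ⊔ Vl := ⟨_, rfl⟩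
  have hVllS : Vll ≤ (S : Subgroup G) := h.Vll_le.trans h.Ql_le
  have hP₀S : P₀ ≤ (S : Subgroup G) := hP₀ ▸ sup_le (sup_le hVllS (hVrU.trans (hUQ.trans hQS))) (hVlU.trans (hUQ.trans hQS))
  have hdecQ : ∀ q ∈ Q, ∃ x ∈ Vr, ∃ y ∈ Vl, ∃ d ∈ D, x * y * d = q := fun q hq => by
    obtain ⟨x, hx, hxq⟩ := h.decompR q (hQS hq)
    have hxqQ : x⁻¹ * q ∈ Q := Q.mul_mem (Q.inv_mem (hUQ (hVrU hx))) hq
    obtain ⟨y, hy, hyq⟩ := h.decompL _ (hQ ▸ hxqQ)
    refine ⟨x, hx, y, hy, y⁻¹ * (x⁻¹ * q), hD' ▸ ⟨⟨?_, ?_⟩, hyq⟩, by group⟩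
    · exact Q.mul_mem (Q.inv_mem (hUQ (hVlU hy))) hxqQ
    · exact Ql.mul_mem (Ql.inv_mem (h.Vl_le hy).2) hxq
  have hdecS : ∀ s ∈ (S : Subgroup G), ∃ x ∈ P₀, ∃ d ∈ D, x * d = s := fun s hs => by
    obtain ⟨t', ht', hq⟩ := h.decompA s hs
    obtain ⟨x, hx, y, hy, d, hd', he⟩ := hdecQ _ (hQ ▸ hq)
    exact ⟨t' * x * y, hP₀ ▸ mul_mem (mul_mem (mem_sup_left (mem_sup_left ht')) (mem_sup_left (mem_sup_right hx)))
      (mem_sup_right hy), d, hd', by rw [mul_assoc, mul_assoc, ← mul_assoc x, he, mul_inv_cancel_left]⟩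
  have hDQ : ∀ d ∈ D, d ∈ Q := fun d hd' => (hD' ▸ hd' : d ∈ Q ⊓ Ql ⊓ Qr).1.1
  have hDP : ∀ d ∈ D, ∀ x ∈ P₀, ⁅x, d⁆ ∈ Zs S := by
    intro d hd'
    have hdm : d ∈ Q ⊓ Ql ⊓ Qr := hD' ▸ hd'
    let T : Subgroup G :=
      { carrier := {x | x ∈ (S : Subgroup G) ∧ ⁅x, d⁆ ∈ Zs S}
        one_mem' := ⟨one_mem _, by rw [commutatorElement_one_left]; exact one_mem _⟩
        mul_mem' := by
          rintro x y ⟨hx, hx'⟩ ⟨hy, hy'⟩
          refine ⟨mul_mem hx hy, ?_⟩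
          rw [show ⁅x * y, d⁆ = x * ⁅y, d⁆ * x⁻¹ * ⁅x, d⁆ by simp only [commutatorElement_def]; group,
            hzS _ hy' x hx, mul_inv_cancel_right]
          exact mul_mem hy' hx'
        inv_mem' := by
          rintro x ⟨hx, hx'⟩
          refine ⟨inv_mem hx, ?_⟩
          rw [show ⁅x⁻¹, d⁆ = x⁻¹ * ⁅x, d⁆⁻¹ * x⁻¹⁻¹ by simp only [commutatorElement_def]; group,
            hzS _ (inv_mem hx') x⁻¹ (inv_mem hx), mul_inv_cancel_right]
          exact inv_mem hx' }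
    refine fun x hx => ((?_ : P₀ ≤ T) hx).2
    conv_lhs => rw [hP₀]
    refine sup_le (sup_le (fun y hy => ⟨hVllS hy, h.Cl_le (h.movCl d hdm.1.2 y hy)⟩) fun y hy =>
      ⟨hQS (hUQ (hVrU hy)), ?_⟩) fun y hy => ⟨hQS (hUQ (hVlU hy)), ?_⟩
    · rw [commutatorElement_eq_one_iff_mul_comm.mpr (h.Qr_comm d hdm.2 y hy).symm]; exact one_mem _
    · rw [commutatorElement_eq_one_iff_mul_comm.mpr (h.Ql_comm d hdm.1.2 y hy).symm]; exact one_mem _
  -- the derived group of `P₀`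
  obtain ⟨E0, hE0⟩ : ∃ E0, E0 = U ⊓ Ql := ⟨_, rfl⟩
  have hE0S : ∀ s ∈ (S : Subgroup G), ∀ x ∈ E0, s * x * s⁻¹ ∈ E0 := fun s hs x hx => by
    rw [hE0] at hx ⊢
    exact ⟨hUn.conj_mem x hx.1 s, h.Ql_normal s hs x hx.2⟩
  have hgen0 : ∀ x ∈ (Vll : Set G) ∪ Vr ∪ Vl, ∀ y ∈ (Vll : Set G) ∪ Vr ∪ Vl, ⁅x, y⁆ ∈ E0 := by
    have hC0E : ∀ c ∈ Cz S, c ∈ E0 := fun c hc => hE0 ▸ ⟨hVU hc.1, h.V_le_Ql hc.1⟩
    have htr : ∀ x ∈ Vll, ∀ y ∈ Vr, ⁅x, y⁆ ∈ E0 := fun x hx y hy => by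
      rw [hE0]
      refine ⟨?_, heQl x hx y (hQS (hUQ (hVrU hy)))⟩
      rw [commutatorElement_def]; exact U.mul_mem (hUn.conj_mem y (hVrU hy) x) (U.inv_mem (hVrU hy))
    have htl : ∀ x ∈ Vll, ∀ y ∈ Vl, ⁅x, y⁆ ∈ E0 := fun x hx y hy => by
      rw [commutatorElement_eq_one_iff_mul_comm.mpr (h.Ql_comm x (h.Vll_le hx) y hy)]; exact one_mem _
    rintro x ((hx | hx) | hx) y ((hy | hy) | hy)
    · rw [commutatorElement_eq_one_iff_mul_comm.mpr (h.Vll_comm x hx y hy)]; exact one_mem _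
    · exact htr x hx y hy
    · exact htl x hx y hy
    · rw [← commutatorElement_inv y x]; exact inv_mem (htr y hy x hx)
    · exact hC0E _ (hUcomm x (hVrU hx) y (hVrU hy))
    · exact hC0E _ (hUcomm x (hVrU hx) y (hVlU hy))
    · rw [← commutatorElement_inv y x]; exact inv_mem (htl y hy x hx)
    · exact hC0E _ (hUcomm x (hVlU hx) y (hVrU hy))
    · exact hC0E _ (hUcomm x (hVlU hx) y (hVlU hy))
  have hP₀gen : P₀ = closure ((Vll : Set G) ∪ Vr ∪ Vl) := by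
    rw [hP₀, Subgroup.closure_union, Subgroup.closure_union, closure_eq, closure_eq, closure_eq]
  have hP₀2 : ∀ x ∈ P₀, ∀ y ∈ P₀, ⁅x, y⁆ ∈ E0 := by
    have step : ∀ y ∈ (S : Subgroup G), (∀ x ∈ (Vll : Set G) ∪ Vr ∪ Vl, ⁅x, y⁆ ∈ E0) → ∀ x ∈ P₀, ⁅x, y⁆ ∈ E0 := by
      intro y hy hgen
      let T : Subgroup G :=
        { carrier := {x | x ∈ (S : Subgroup G) ∧ ⁅x, y⁆ ∈ E0}
          one_mem' := ⟨one_mem _, by rw [commutatorElement_one_left]; exact one_mem _⟩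
          mul_mem' := by
            rintro a b ⟨ha, ha'⟩ ⟨hb, hb'⟩
            refine ⟨mul_mem ha hb, ?_⟩
            rw [show ⁅a * b, y⁆ = a * ⁅b, y⁆ * a⁻¹ * ⁅a, y⁆ by simp only [commutatorElement_def]; group]
            exact mul_mem (hE0S a ha _ hb') ha'
          inv_mem' := by
            rintro a ⟨ha, ha'⟩
            refine ⟨inv_mem ha, ?_⟩
            rw [show ⁅a⁻¹, y⁆ = a⁻¹ * ⁅a, y⁆⁻¹ * a⁻¹⁻¹ by simp only [commutatorElement_def]; group]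
            exact hE0S a⁻¹ (inv_mem ha) _ (inv_mem ha') }
      refine fun x hx => ((?_ : P₀ ≤ T) hx).2
      conv_lhs => rw [hP₀gen]
      exact (closure_le _).mpr fun z hz => ⟨hP₀S (hP₀gen ▸ subset_closure hz), hgen z hz⟩
    intro x hx y hy
    refine step y (hP₀S hy) (fun z hz => ?_) x hx
    rw [← commutatorElement_inv y z]
    exact inv_mem (step z (hP₀S (hP₀gen ▸ subset_closure hz)) (fun w hw => hgen0 w hw z hz) y hy)
  have hP₀3 : ∀ e ∈ E0, ∀ x ∈ P₀, ⁅x, e⁆ ∈ Zs S := by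
    intro e he
    have hem : e ∈ U ⊓ Ql := hE0 ▸ he
    let T : Subgroup G :=
      { carrier := {x | x ∈ (S : Subgroup G) ∧ ⁅x, e⁆ ∈ Zs S}
        one_mem' := ⟨one_mem _, by rw [commutatorElement_one_left]; exact one_mem _⟩
        mul_mem' := by
          rintro x y ⟨hx, hx'⟩ ⟨hy, hy'⟩
          refine ⟨mul_mem hx hy, ?_⟩
          rw [show ⁅x * y, e⁆ = x * ⁅y, e⁆ * x⁻¹ * ⁅x, e⁆ by simp only [commutatorElement_def]; group,
            hzS _ hy' x hx, mul_inv_cancel_right]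
          exact mul_mem hy' hx'
        inv_mem' := by
          rintro x ⟨hx, hx'⟩
          refine ⟨inv_mem hx, ?_⟩
          rw [show ⁅x⁻¹, e⁆ = x⁻¹ * ⁅x, e⁆⁻¹ * x⁻¹⁻¹ by simp only [commutatorElement_def]; group,
            hzS _ (inv_mem hx') x⁻¹ (inv_mem hx), mul_inv_cancel_right]
          exact inv_mem hx' }
    refine fun x hx => ((?_ : P₀ ≤ T) hx).2
    conv_lhs => rw [hP₀gen]
    refine (closure_le _).mpr ?_
    rintro y ((hy | hy) | hy)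
    · exact ⟨hVllS hy, h.Cl_le (h.movCl e hem.2 y hy)⟩
    · exact ⟨hQS (hUQ (hVrU hy)), hv.C0_le (hUcomm y (hVrU hy) e hem.1)⟩
    · exact ⟨hQS (hUQ (hVlU hy)), hv.C0_le (hUcomm y (hVlU hy) e hem.1)⟩
  -- central series
  obtain ⟨L1, hL1⟩ : ∃ L1, L1 = ⁅P₀, P₀⁆ ⊔ Zs S ⊔ ⁅D, D⁆ := ⟨_, rfl⟩
  have hE0le : ⁅P₀, P₀⁆ ≤ E0 := commutator_le.mpr hP₀2
  have hDS : D ≤ (S : Subgroup G) := fun d hd' => hQS (hDQ d hd')
  have hcomPD : ∀ d ∈ D, ∀ e ∈ ⁅P₀, P₀⁆, d * e = e * d := by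
    intro d hd' e he
    refine mem_centralizer_singleton_iff.mp ((?_ : ⁅P₀, P₀⁆ ≤ centralizer ({d} : Set G)) he) |>.symm
    refine commutator_le.mpr fun x hx y hy => mem_centralizer_singleton_iff.mpr ?_
    have h1 : d * ⁅x, y⁆ * d⁻¹ = ⁅x, y⁆ := by
      have hconj : ∀ w ∈ P₀, d * w * d⁻¹ = ⁅w, d⁆⁻¹ * w := fun w hw => by simp only [commutatorElement_def]; group
      rw [show d * ⁅x, y⁆ * d⁻¹ = ⁅d * x * d⁻¹, d * y * d⁻¹⁆ by simp only [commutatorElement_def]; group, hconj x hx, hconj y hy]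
      have hcx : ∀ s ∈ (S : Subgroup G), Commute ⁅x, d⁆⁻¹ s := fun s hs => (hzS _ (inv_mem (hDP d hd' x hx)) s hs).symm
      have hcy : ∀ s ∈ (S : Subgroup G), Commute ⁅y, d⁆⁻¹ s := fun s hs => (hzS _ (inv_mem (hDP d hd' y hy)) s hs).symm
      have hxS := hP₀S hx
      have hyS := hP₀S hy
      simp only [commutatorElement_def (⁅x, d⁆⁻¹ * x) _, mul_inv_rev]
      obtain ⟨zx, hzx⟩ : ∃ zx, zx = ⁅x, d⁆⁻¹ := ⟨_, rfl⟩
      obtain ⟨zy, hzy⟩ : ∃ zy, zy = ⁅y, d⁆⁻¹ := ⟨_, rfl⟩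
      rw [← hzx, ← hzy]
      rw [← hzx] at hcx
      rw [← hzy] at hcy
      calc zx * x * (zy * y) * (x⁻¹ * zx⁻¹) * (y⁻¹ * zy⁻¹) = zx * (x * zy) * y * x⁻¹ * (zx⁻¹ * y⁻¹) * zy⁻¹ := by group
        _ = zx * (zy * x) * y * x⁻¹ * (y⁻¹ * zx⁻¹) * zy⁻¹ := by rw [← (hcy x hxS).eq, ((hcx y⁻¹ (inv_mem hyS)).inv_left).eq]
        _ = zx * zy * ⁅x, y⁆ * (zx⁻¹ * zy⁻¹) := by simp only [commutatorElement_def]; group
        _ = zx * zy * ((zy * zx)⁻¹ * ⁅x, y⁆) := by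
          rw [mul_assoc (zx * zy), mul_inv_rev]
          congr 1
          refine (((hcx _ ?_).inv_left).mul_left ((hcy _ ?_).inv_left)).eq.symm
          all_goals exact mul_mem (mul_mem (mul_mem hxS hyS) (inv_mem hxS)) (inv_mem hyS)
        _ = _ := by rw [(hcx zy (by rw [hzy]; exact inv_mem (mem_Zs.mp (hDP d hd' y hy)).1)).eq, mul_inv_cancel_left]
    exact (mul_inv_eq_iff_eq_mul.mp h1).symm
  have hlcs1 : ∀ x ∈ (S : Subgroup G), ∀ y ∈ (S : Subgroup G), ∃ e ∈ ⁅P₀, P₀⁆, ∃ z ∈ Zs S, ∃ f ∈ ⁅D, D⁆, ⁅x, y⁆ = e * z * f := by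
    intro x hx y hy
    obtain ⟨x₁, hx₁, d, hd', rfl⟩ := hdecS x hx
    obtain ⟨y₁, hy₁, e, he, rfl⟩ := hdecS y hy
    have hx1S := hP₀S hx₁
    have hy1S := hP₀S hy₁
    have h1 : ⁅x₁, e⁆ ∈ Zs S := hDP e he x₁ hx₁
    have h2 : ⁅d, y₁⁆ ∈ Zs S := by rw [← commutatorElement_inv y₁ d]; exact inv_mem (hDP d hd' y₁ hy₁)
    refine ⟨⁅x₁, y₁⁆, commutator_mem_commutator hx₁ hy₁, ⁅d, y₁⁆ * ⁅x₁, e⁆, mul_mem h2 h1, ⁅d, e⁆,
      commutator_mem_commutator hd' he, ?_⟩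
    have hde : x₁ * ⁅d, e⁆ * x₁⁻¹ = ⁅d, e⁆ := by
      rw [show x₁ * ⁅d, e⁆ * x₁⁻¹ = ⁅x₁ * d * x₁⁻¹, x₁ * e * x₁⁻¹⁆ by simp only [commutatorElement_def]; group]
      rw [show x₁ * d * x₁⁻¹ = ⁅x₁, d⁆ * d by simp only [commutatorElement_def]; group,
        show x₁ * e * x₁⁻¹ = ⁅x₁, e⁆ * e by simp only [commutatorElement_def]; group]
      have hz1 : ∀ s ∈ (S : Subgroup G), Commute ⁅x₁, d⁆ s := fun s hs => (hzS _ (hDP d hd' x₁ hx₁) s hs).symm
      have hz2 : ∀ s ∈ (S : Subgroup G), Commute ⁅x₁, e⁆ s := fun s hs => (hzS _ h1 s hs).symm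
      obtain ⟨a', hadef⟩ : ∃ a', a' = ⁅x₁, d⁆ := ⟨_, rfl⟩
      obtain ⟨b', hbdef⟩ : ∃ b', b' = ⁅x₁, e⁆ := ⟨_, rfl⟩
      rw [← hadef] at hz1 ⊢
      rw [← hbdef] at hz2 ⊢
      have hbS : b' ∈ (S : Subgroup G) := hbdef ▸ (mem_Zs.mp h1).1
      simp only [commutatorElement_def, mul_inv_rev]
      calc a' * d * (b' * e) * (d⁻¹ * a'⁻¹) * (e⁻¹ * b'⁻¹) = a' * (d * b') * e * d⁻¹ * (a'⁻¹ * e⁻¹) * b'⁻¹ := by group
        _ = a' * (b' * d) * e * d⁻¹ * (e⁻¹ * a'⁻¹) * b'⁻¹ := by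
          rw [← (hz2 d (hDS hd')).eq, ((hz1 e⁻¹ (inv_mem (hDS he))).inv_left).eq]
        _ = a' * b' * (d * e * d⁻¹ * e⁻¹) * (b' * a')⁻¹ := by group
        _ = _ := by
          have hm : d * e * d⁻¹ * e⁻¹ ∈ (S : Subgroup G) :=
            mul_mem (mul_mem (mul_mem (hDS hd') (hDS he)) (inv_mem (hDS hd'))) (inv_mem (hDS he))
          rw [((hz1 _ hm).mul_left (hz2 _ hm)).eq, (hz1 b' hbS).eq, mul_inv_cancel_right]
    obtain ⟨cc, hcc⟩ : ∃ cc, cc = ⁅x₁, y₁⁆ := ⟨_, rfl⟩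
    have hcS : cc ∈ (S : Subgroup G) := by
      rw [hcc, commutatorElement_def]; exact mul_mem (mul_mem (mul_mem hx1S hy1S) (inv_mem hx1S)) (inv_mem hy1S)
    rw [show ⁅x₁ * d, y₁ * e⁆ = x₁ * ⁅d, y₁⁆ * x₁⁻¹ * (x₁ * y₁ * x₁⁻¹) * (x₁ * ⁅d, e⁆ * x₁⁻¹) * (x₁ * y₁ * x₁⁻¹)⁻¹ *
      ⁅x₁, y₁⁆ * (y₁ * ⁅x₁, e⁆ * y₁⁻¹) by simp only [commutatorElement_def]; group, hde,
      hzS _ h2 x₁ hx1S, mul_inv_cancel_right, hzS _ h1 y₁ hy1S, mul_inv_cancel_right, ← hcc]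
    have hxy : x₁ * y₁ * x₁⁻¹ = cc * y₁ := by rw [hcc, commutatorElement_def]; group
    have hf1 : Commute ⁅d, e⁆ cc := by
      have a1 : Commute d cc := hcomPD d hd' cc (hcc ▸ commutator_mem_commutator hx₁ hy₁)
      have a2 : Commute e cc := hcomPD e he cc (hcc ▸ commutator_mem_commutator hx₁ hy₁)
      exact ((a1.mul_left a2).mul_left a1.inv_left).mul_left a2.inv_left
    have hf2 : Commute y₁ ⁅d, e⁆ := by
      have b1 : y₁ * ⁅d, e⁆ * y₁⁻¹ = ⁅d, e⁆ := by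
        have c1 : ∀ u ∈ D, y₁ * u * y₁⁻¹ = ⁅y₁, u⁆ * u := fun u _ => by simp only [commutatorElement_def]; group
        rw [show y₁ * ⁅d, e⁆ * y₁⁻¹ = ⁅y₁ * d * y₁⁻¹, y₁ * e * y₁⁻¹⁆ by simp only [commutatorElement_def]; group,
          c1 d hd', c1 e he]
        have hz1 : ∀ s ∈ (S : Subgroup G), Commute ⁅y₁, d⁆ s := fun s hs => (hzS _ (hDP d hd' y₁ hy₁) s hs).symm
        have hz2 : ∀ s ∈ (S : Subgroup G), Commute ⁅y₁, e⁆ s := fun s hs => (hzS _ (hDP e he y₁ hy₁) s hs).symm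
        obtain ⟨a', hadef⟩ : ∃ a', a' = ⁅y₁, d⁆ := ⟨_, rfl⟩
        obtain ⟨b', hbdef⟩ : ∃ b', b' = ⁅y₁, e⁆ := ⟨_, rfl⟩
        rw [← hadef] at hz1 ⊢
        rw [← hbdef] at hz2 ⊢
        have hbS : b' ∈ (S : Subgroup G) := hbdef ▸ (mem_Zs.mp (hDP e he y₁ hy₁)).1
        simp only [commutatorElement_def, mul_inv_rev]
        calc a' * d * (b' * e) * (d⁻¹ * a'⁻¹) * (e⁻¹ * b'⁻¹) = a' * (d * b') * e * d⁻¹ * (a'⁻¹ * e⁻¹) * b'⁻¹ := by group
          _ = a' * (b' * d) * e * d⁻¹ * (e⁻¹ * a'⁻¹) * b'⁻¹ := by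
            rw [← (hz2 d (hDS hd')).eq, ((hz1 e⁻¹ (inv_mem (hDS he))).inv_left).eq]
          _ = a' * b' * (d * e * d⁻¹ * e⁻¹) * (b' * a')⁻¹ := by group
          _ = _ := by
            have hm : d * e * d⁻¹ * e⁻¹ ∈ (S : Subgroup G) :=
              mul_mem (mul_mem (mul_mem (hDS hd') (hDS he)) (inv_mem (hDS hd'))) (inv_mem (hDS he))
            rw [((hz1 _ hm).mul_left (hz2 _ hm)).eq, (hz1 b' hbS).eq, mul_inv_cancel_right]
      exact mul_inv_eq_iff_eq_mul.mp b1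
    have hz3 : Commute (cc * y₁) ⁅d, e⁆ := hf1.symm.mul_left hf2
    rw [hxy, mul_assoc ⁅d, y₁⁆ (cc * y₁) ⁅d, e⁆, hz3.eq, ← mul_assoc ⁅d, y₁⁆, mul_inv_cancel_right,
      mul_assoc ⁅d, y₁⁆ ⁅d, e⁆ cc, hf1.eq]
    have hc1 : Commute cc ⁅d, y₁⁆ := hzS _ h2 cc hcS
    have hfS : ⁅d, e⁆ ∈ (S : Subgroup G) := by
      rw [commutatorElement_def]
      exact mul_mem (mul_mem (mul_mem (hDS hd') (hDS he)) (inv_mem (hDS hd'))) (inv_mem (hDS he))
    have hc2 : Commute ⁅d, e⁆ ⁅x₁, e⁆ := hzS _ h1 _ hfS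
    rw [← mul_assoc ⁅d, y₁⁆ cc, ← hc1.eq, mul_assoc _ ⁅d, e⁆, hc2.eq, ← mul_assoc, ← mul_assoc]
  -- the class
  have hlcsE : (S : Subgroup G).lowerCentralSeries 1 ≤ L1 := by
    show ⁅(S : Subgroup G), (S : Subgroup G)⁆ ≤ L1
    refine commutator_le.mpr fun x hx y hy => ?_
    obtain ⟨e, he, z, hz', f, hf, hef⟩ := hlcs1 x hx y hy
    rw [hef, hL1]
    exact mul_mem (mul_mem (mem_sup_left (mem_sup_left he)) (mem_sup_left (mem_sup_right hz'))) (mem_sup_right hf)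
  have hDDQ : ⁅⁅D, D⁆, D⁆ ≤ ⁅⁅Q, Q⁆, Q⁆ := by
    have hDle : D ≤ Q := hDQ
    exact commutator_mono (commutator_mono hDle hDle) hDle
  obtain ⟨L2, hL2⟩ : ∃ L2, L2 = Zs S ⊔ ⁅⁅Q, Q⁆, Q⁆ := ⟨_, rfl⟩
  have hL2n : ∀ s ∈ (S : Subgroup G), ∀ x ∈ L2, s * x * s⁻¹ ∈ L2 := by
    intro s hs x hx
    obtain ⟨z, hz', w, hw, rfl⟩ := mul_of_mem_sup (hL2 ▸ hx : x ∈ Zs S ⊔ ⁅⁅Q, Q⁆, Q⁆)
    rw [show s * (z * w) * s⁻¹ = (s * z * s⁻¹) * (s * w * s⁻¹) by group, hzS z hz' s hs, mul_inv_cancel_right, hL2]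
    exact mul_mem (mem_sup_left hz') (mem_sup_right ((inferInstance : (⁅⁅Q, Q⁆, Q⁆).Normal).conj_mem w hw s))
  have hlcs2 : (S : Subgroup G).lowerCentralSeries 2 ≤ L2 := by
    show ⁅(S : Subgroup G).lowerCentralSeries 1, (S : Subgroup G)⁆ ≤ L2
    refine (commutator_mono hlcsE le_rfl).trans (commutator_le.mpr fun x hx s hs => ?_)
    let T : Subgroup G :=
      { carrier := {x | x ∈ (S : Subgroup G) ∧ ∀ s ∈ (S : Subgroup G), ⁅x, s⁆ ∈ L2}
        one_mem' := ⟨one_mem _, fun s _ => by rw [commutatorElement_one_left]; exact one_mem _⟩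
        mul_mem' := by
          rintro a b ⟨ha, ha'⟩ ⟨hb, hb'⟩
          refine ⟨mul_mem ha hb, fun s hs => ?_⟩
          rw [show ⁅a * b, s⁆ = a * ⁅b, s⁆ * a⁻¹ * ⁅a, s⁆ by simp only [commutatorElement_def]; group]
          exact mul_mem (hL2n a ha _ (hb' s hs)) (ha' s hs)
        inv_mem' := by
          rintro a ⟨ha, ha'⟩
          refine ⟨inv_mem ha, fun s hs => ?_⟩
          rw [show ⁅a⁻¹, s⁆ = a⁻¹ * ⁅a, s⁆⁻¹ * a⁻¹⁻¹ by simp only [commutatorElement_def]; group]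
          exact hL2n _ (inv_mem ha) _ (inv_mem (ha' s hs)) }
    refine ((?_ : L1 ≤ T) hx).2 s hs
    conv_lhs => rw [hL1]
    refine sup_le (sup_le (fun e he => ⟨?_, fun s hs => ?_⟩) fun z hz' => ⟨(mem_Zs.mp hz').1, fun s hs => ?_⟩)
      fun f hf => ⟨?_, fun s hs => ?_⟩
    · exact hQS (hUQ ((hE0 ▸ hE0le he : e ∈ U ⊓ Ql).1))
    · obtain ⟨x₁, hx₁, d, hd', rfl⟩ := hdecS s hs
      rw [show ⁅e, x₁ * d⁆ = ⁅e, x₁⁆ * (x₁ * ⁅e, d⁆ * x₁⁻¹) by simp only [commutatorElement_def]; group,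
        commutatorElement_eq_one_iff_mul_comm.mpr (hcomPD d hd' e he).symm, mul_one, mul_inv_cancel, mul_one,
        ← commutatorElement_inv x₁ e, hL2]
      exact inv_mem (mem_sup_left (hP₀3 e (hE0le he) x₁ hx₁))
    · rw [commutatorElement_eq_one_iff_mul_comm.mpr (hzS z hz' s hs).symm]; exact one_mem _
    · exact hQS (commutator_le_left Q Q (commutator_mono hDQ hDQ hf))
    · obtain ⟨x₁, hx₁, d, hd', rfl⟩ := hdecS s hs
      have hfx : f * x₁ = x₁ * f := by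
        refine mem_centralizer_singleton_iff.mp ((?_ : ⁅D, D⁆ ≤ centralizer ({x₁} : Set G)) hf)
        refine commutator_le.mpr fun u hu w hw => mem_centralizer_singleton_iff.mpr ?_
        have hz1 : ∀ y ∈ (S : Subgroup G), Commute ⁅x₁, u⁆ y := fun y hy => (hzS _ (hDP u hu x₁ hx₁) y hy).symm
        have hz2 : ∀ y ∈ (S : Subgroup G), Commute ⁅x₁, w⁆ y := fun y hy => (hzS _ (hDP w hw x₁ hx₁) y hy).symm
        refine (mul_inv_eq_iff_eq_mul.mp ?_).symm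
        rw [show x₁ * ⁅u, w⁆ * x₁⁻¹ = ⁅x₁ * u * x₁⁻¹, x₁ * w * x₁⁻¹⁆ by simp only [commutatorElement_def]; group,
          show x₁ * u * x₁⁻¹ = ⁅x₁, u⁆ * u by simp only [commutatorElement_def]; group,
          show x₁ * w * x₁⁻¹ = ⁅x₁, w⁆ * w by simp only [commutatorElement_def]; group]
        obtain ⟨a', hadef⟩ : ∃ a', a' = ⁅x₁, u⁆ := ⟨_, rfl⟩
        obtain ⟨b', hbdef⟩ : ∃ b', b' = ⁅x₁, w⁆ := ⟨_, rfl⟩
        rw [← hadef] at hz1 ⊢
        rw [← hbdef] at hz2 ⊢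
        have hbS : b' ∈ (S : Subgroup G) := hbdef ▸ (mem_Zs.mp (hDP w hw x₁ hx₁)).1
        simp only [commutatorElement_def, mul_inv_rev]
        calc a' * u * (b' * w) * (u⁻¹ * a'⁻¹) * (w⁻¹ * b'⁻¹) = a' * (u * b') * w * u⁻¹ * (a'⁻¹ * w⁻¹) * b'⁻¹ := by group
          _ = a' * (b' * u) * w * u⁻¹ * (w⁻¹ * a'⁻¹) * b'⁻¹ := by
            rw [← (hz2 u (hDS hu)).eq, ((hz1 w⁻¹ (inv_mem (hDS hw))).inv_left).eq]
          _ = a' * b' * (u * w * u⁻¹ * w⁻¹) * (b' * a')⁻¹ := by group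
          _ = _ := by
            have hm : u * w * u⁻¹ * w⁻¹ ∈ (S : Subgroup G) :=
              mul_mem (mul_mem (mul_mem (hDS hu) (hDS hw)) (inv_mem (hDS hu))) (inv_mem (hDS hw))
            rw [((hz1 _ hm).mul_left (hz2 _ hm)).eq, (hz1 b' hbS).eq, mul_inv_cancel_right]
      rw [show ⁅f, x₁ * d⁆ = ⁅f, x₁⁆ * (x₁ * ⁅f, d⁆ * x₁⁻¹) by simp only [commutatorElement_def]; group,
        commutatorElement_eq_one_iff_mul_comm.mpr hfx, one_mul]
      exact hL2n _ (hP₀S hx₁) _ (hL2 ▸ mem_sup_right (hDDQ (commutator_mem_commutator hf hd')))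
  have hclass : (S : Subgroup G).lowerCentralSeries 3 = ⊥ := by
    have hQQQQ : ⁅⁅⁅Q, Q⁆, Q⁆, Q⁆ ≤ (S : Subgroup G).lowerCentralSeries 3 :=
      commutator_mono (commutator_mono (commutator_mono hQS hQS) hQS) hQS
    have hle : (S : Subgroup G).lowerCentralSeries 3 ≤ ⁅⁅⁅Q, Q⁆, Q⁆, Q⁆ := by
      show ⁅(S : Subgroup G).lowerCentralSeries 2, (S : Subgroup G)⁆ ≤ _
      refine (commutator_mono hlcs2 le_rfl).trans (commutator_le.mpr fun x hx s hs => ?_)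
      haveI : (⁅⁅Q, Q⁆, Q⁆ : Subgroup G).Normal := inferInstance
      obtain ⟨z, hz', w, hw, rfl⟩ := mul_of_mem_sup (hL2 ▸ hx : x ∈ Zs S ⊔ ⁅⁅Q, Q⁆, Q⁆)
      rw [show ⁅z * w, s⁆ = z * ⁅w, s⁆ * z⁻¹ * ⁅z, s⁆ by simp only [commutatorElement_def]; group,
        commutatorElement_eq_one_iff_mul_comm.mpr (hzS z hz' s hs).symm, mul_one]
      refine (inferInstance : (⁅⁅⁅Q, Q⁆, Q⁆, Q⁆).Normal).conj_mem _ ?_ z
      -- strip the part of `s` commuting with third commutators of the core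
      obtain ⟨t', ht', hq⟩ := h.decompA s hs
      have hwQ : w ∈ ⁅Q, Q⁆ := commutator_le_left ⁅Q, Q⁆ Q hw
      have hwt : w * t' = t' * w := by
        refine mem_centralizer_singleton_iff.mp ((?_ : ⁅⁅Q, Q⁆, Q⁆ ≤ centralizer ({t'} : Set G)) hw)
        refine commutator_le.mpr fun u hu q hq' => mem_centralizer_singleton_iff.mpr ?_
        have hzc : ⁅t', u⁆ ∈ Zs S := by
          refine h.Cl_le (h.movCl u ?_ t' ht')
          refine (?_ : ⁅Q, Q⁆ ≤ Ql) hu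
          refine commutator_le.mpr fun q₁ hq₁ q₂ hq₂ => ?_
          obtain ⟨v₁, hv₁, hy₁⟩ := h.decompR q₁ (hQS hq₁)
          obtain ⟨v₂, hv₂, hy₂⟩ := h.decompR q₂ (hQS hq₂)
          have hq1y : ∀ y ∈ Ql, ∀ v ∈ Vr, ⁅v, y⁆ ∈ Ql := fun y hy v hv'' => by
            rw [commutatorElement_def]
            exact Ql.mul_mem (h.Ql_normal v (hQS (hUQ (hVrU hv''))) y hy) (Ql.inv_mem hy)
          have hconj : ∀ g ∈ (S : Subgroup G), ∀ y ∈ Ql, g * y * g⁻¹ ∈ Ql := h.Ql_normal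
          obtain ⟨y₁, hy₁d⟩ : ∃ y₁, y₁ = v₁⁻¹ * q₁ := ⟨_, rfl⟩
          obtain ⟨y₂, hy₂d⟩ : ∃ y₂, y₂ = v₂⁻¹ * q₂ := ⟨_, rfl⟩
          rw [← hy₁d] at hy₁
          rw [← hy₂d] at hy₂
          have hv1S : v₁ ∈ (S : Subgroup G) := hQS (hUQ (hVrU hv₁))
          have hv2S : v₂ ∈ (S : Subgroup G) := hQS (hUQ (hVrU hv₂))
          rw [show ⁅q₁, q₂⁆ = v₁ * (⁅y₁, v₂⁆ * (v₂ * ⁅y₁, y₂⁆ * v₂⁻¹)) * v₁⁻¹ * (⁅v₁, v₂⁆ * (v₂ * ⁅v₁, y₂⁆ * v₂⁻¹)) by
            rw [hy₁d, hy₂d]; simp only [commutatorElement_def]; group]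
          refine mul_mem (hconj _ hv1S _ (mul_mem ?_ (hconj _ hv2S _ ?_))) (mul_mem ?_ (hconj _ hv2S _ (hq1y y₂ hy₂ v₁ hv₁)))
          · rw [← commutatorElement_inv v₂ y₁]; exact inv_mem (hq1y y₁ hy₁ v₂ hv₂)
          · rw [commutatorElement_def]; exact mul_mem (mul_mem (mul_mem hy₁ hy₂) (inv_mem hy₁)) (inv_mem hy₂)
          · exact h.V_le_Ql (hUcomm v₁ (hVrU hv₁) v₂ (hVrU hv₂)).1
        have hzcq : ⁅t', q⁆ ∈ U := by
          obtain ⟨v₁, hv₁, hy₁⟩ := h.decompR q (hQS hq')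
          rw [show ⁅t', q⁆ = ⁅t', v₁⁆ * (v₁ * ⁅t', v₁⁻¹ * q⁆ * v₁⁻¹) by simp only [commutatorElement_def]; group]
          refine mul_mem ?_ (hUn.conj_mem _ (hVU (hv.Z_le (h.Cl_le (h.movCl _ hy₁ t' ht')))) v₁)
          rw [commutatorElement_def]; exact U.mul_mem (hUn.conj_mem v₁ (hVrU hv₁) t') (U.inv_mem (hVrU hv₁))
        have huQ : u ∈ Q := commutator_le_left Q Q hu
        have huU : ∀ y ∈ U, u * y = y * u := by
          intro y hy
          refine mem_centralizer_singleton_iff.mp ((?_ : ⁅Q, Q⁆ ≤ centralizer ({y} : Set G)) hu)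
          refine commutator_le.mpr fun a ha b hb => mem_centralizer_singleton_iff.mpr ?_
          have hca : ∀ g ∈ Q, g * y = ⁅g, y⁆ * (y * g) := fun g _ => by simp only [commutatorElement_def]; group
          have hcc : ∀ g ∈ Q, ∀ k : G, Commute ⁅g, y⁆ k := fun g hg k => by
            rw [← commutatorElement_inv y g]
            exact (Subgroup.mem_center_iff.mp (inv_mem (hC0 (hquad y hy g hg))) k).symm
          refine (mul_inv_eq_iff_eq_mul.mp ?_).symm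
          rw [show y * ⁅a, b⁆ * y⁻¹ = ⁅y * a * y⁻¹, y * b * y⁻¹⁆ by simp only [commutatorElement_def]; group,
            show y * a * y⁻¹ = ⁅a, y⁆⁻¹ * a by simp only [commutatorElement_def]; group,
            show y * b * y⁻¹ = ⁅b, y⁆⁻¹ * b by simp only [commutatorElement_def]; group]
          obtain ⟨a', hadef⟩ : ∃ a', a' = ⁅a, y⁆⁻¹ := ⟨_, rfl⟩
          obtain ⟨b', hbdef⟩ : ∃ b', b' = ⁅b, y⁆⁻¹ := ⟨_, rfl⟩
          rw [← hadef, ← hbdef]
          have h1c : ∀ k, Commute a' k := fun k => hadef ▸ (hcc a ha k).inv_left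
          have h2c : ∀ k, Commute b' k := fun k => hbdef ▸ (hcc b hb k).inv_left
          simp only [commutatorElement_def, mul_inv_rev]
          calc a' * a * (b' * b) * (a⁻¹ * a'⁻¹) * (b⁻¹ * b'⁻¹) = a' * (a * b') * b * a⁻¹ * (a'⁻¹ * b⁻¹) * b'⁻¹ := by group
            _ = a' * (b' * a) * b * a⁻¹ * (b⁻¹ * a'⁻¹) * b'⁻¹ := by rw [← (h2c a).eq, ((h1c b⁻¹).inv_left).eq]
            _ = a' * b' * (a * b * a⁻¹ * b⁻¹) * (b' * a')⁻¹ := by group
            _ = _ := by rw [((h1c _).mul_left (h2c (a * b * a⁻¹ * b⁻¹))).eq, (h1c b').eq, mul_inv_cancel_right]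
        refine (mul_inv_eq_iff_eq_mul.mp ?_).symm
        rw [show t' * ⁅u, q⁆ * t'⁻¹ = ⁅t' * u * t'⁻¹, t' * q * t'⁻¹⁆ by simp only [commutatorElement_def]; group,
          show t' * u * t'⁻¹ = ⁅t', u⁆ * u by simp only [commutatorElement_def]; group,
          show t' * q * t'⁻¹ = ⁅t', q⁆ * q by simp only [commutatorElement_def]; group]
        have h1c : ∀ k ∈ (S : Subgroup G), Commute ⁅t', u⁆ k := fun k hk => (hzS _ hzc k hk).symm
        obtain ⟨b', hbdef⟩ : ∃ b', b' = ⁅t', q⁆ := ⟨_, rfl⟩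
        rw [← hbdef] at hzcq ⊢
        have hub : Commute u b' := huU b' hzcq
        have hbS : b' * q ∈ (S : Subgroup G) := mul_mem (hQS (hUQ hzcq)) (hQS hq')
        rw [show ⁅⁅t', u⁆ * u, b' * q⁆ = ⁅t', u⁆ * ⁅u, b' * q⁆ * ⁅t', u⁆⁻¹ * ⁅⁅t', u⁆, b' * q⁆ by
          simp only [commutatorElement_def]; group,
          commutatorElement_eq_one_iff_mul_comm.mpr (h1c _ hbS).eq, mul_one,
          show ⁅u, b' * q⁆ = ⁅u, b'⁆ * (b' * ⁅u, q⁆ * b'⁻¹) by simp only [commutatorElement_def]; group,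
          commutatorElement_eq_one_iff_mul_comm.mpr hub.eq, one_mul]
        have hb : b' * ⁅u, q⁆ * b'⁻¹ = ⁅u, q⁆ := by
          have hz0 : Commute ⁅b', q⁆ u := (Subgroup.mem_center_iff.mp (hC0 (hquad b' hzcq q hq')) u).symm
          rw [show b' * ⁅u, q⁆ * b'⁻¹ = ⁅b' * u * b'⁻¹, ⁅b', q⁆ * q⁆ by simp only [commutatorElement_def]; group,
            ← hub.eq, mul_inv_cancel_right,
            show ⁅u, ⁅b', q⁆ * q⁆ = ⁅u, ⁅b', q⁆⁆ * (⁅b', q⁆ * ⁅u, q⁆ * ⁅b', q⁆⁻¹) by simp only [commutatorElement_def]; group,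
            commutatorElement_eq_one_iff_mul_comm.mpr hz0.symm.eq, one_mul,
            ← Subgroup.mem_center_iff.mp (hC0 (hquad b' hzcq q hq')) ⁅u, q⁆, mul_inv_cancel_right]
        rw [hb, (h1c _ ?_).eq, mul_inv_cancel_right]
        rw [commutatorElement_def]
        exact mul_mem (mul_mem (mul_mem (hQS huQ) (hQS hq')) (inv_mem (hQS huQ))) (inv_mem (hQS hq'))
      rw [show ⁅w, s⁆ = ⁅w, t'⁆ * (t' * ⁅w, t'⁻¹ * s⁆ * t'⁻¹) by simp only [commutatorElement_def]; group,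
        commutatorElement_eq_one_iff_mul_comm.mpr hwt, one_mul]
      exact (inferInstance : (⁅⁅⁅Q, Q⁆, Q⁆, Q⁆).Normal).conj_mem _ (commutator_mem_commutator hw (hQ ▸ hq)) t'
    by_contra hne
    refine hd ((⊤ : Subgroup ↥(S : Subgroup G)).lowerCentralSeries 3) (fun h0 => hne ?_) inferInstance ?_
    · rw [← Subgroup.top_subtype_lowerCentralSeries, h0, Subgroup.map_bot]
    · rw [Subgroup.top_subtype_lowerCentralSeries, le_antisymm hle hQQQQ]; infer_instance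
  have hnab : (S : Subgroup G).lowerCentralSeries 2 ≠ ⊥ := by
    intro h0
    refine hengel ?_
    have hvS : v ∈ (S : Subgroup G) := hQS (hUQ hvU)
    have h1 : ⁅v, t⁆ ∈ (S : Subgroup G).lowerCentralSeries 1 :=
      commutator_mem_commutator (H₁ := (S : Subgroup G)) (H₂ := (S : Subgroup G)) hvS htS
    have h2 : ⁅⁅v, t⁆, t⁆ ∈ (S : Subgroup G).lowerCentralSeries 2 :=
      commutator_mem_commutator (H₁ := (S : Subgroup G).lowerCentralSeries 1) (H₂ := (S : Subgroup G)) h1 htS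
    rw [h0, mem_bot, commutatorElement_eq_one_iff_mul_comm] at h2
    have h4 : Commute t ⁅t, v⁆ := by rw [← commutatorElement_inv v t]; exact (Commute.symm h2).inv_right
    rw [commutatorElement_eq_one_iff_mul_comm.mpr h4.eq]; exact one_mem _
  -- powers
  obtain ⟨π, hπ⟩ : ∃ π : G →* G ⧸ Cz S, π = QuotientGroup.mk' (Cz S) := ⟨_, rfl⟩
  have hcube : ∀ x ∈ P₀, x ^ 3 ∈ Zs S := by
    let T : Subgroup G :=
      { carrier := {x | x ∈ P₀ ∧ x ^ 3 ∈ Zs S}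
        one_mem' := ⟨one_mem _, by rw [one_pow]; exact one_mem _⟩
        mul_mem' := by
          rintro x y ⟨hx, hx'⟩ ⟨hy, hy'⟩
          refine ⟨mul_mem hx hy, ?_⟩
          have hxS := hP₀S hx
          have hyS := hP₀S hy
          obtain ⟨c, hc⟩ : ∃ c, c = ⁅y, x⁆ := ⟨_, rfl⟩
          have hcE : c ∈ E0 := hc ▸ hP₀2 y hy x hx
          have hcP : c ∈ P₀ := by rw [hc, commutatorElement_def]; exact mul_mem (mul_mem (mul_mem hy hx) (inv_mem hy)) (inv_mem hx)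
          have hcx : ⁅x, c⁆ ∈ Zs S := hP₀3 c hcE x hx
          have hcy : ⁅y, c⁆ ∈ Zs S := hP₀3 c hcE y hy
          have hc3 : c ^ 3 ∈ Zs S := by
            have h3 := hUexp hp2 c (hE0 ▸ hcE : c ∈ U ⊓ Ql).1
            rw [hp3] at h3
            rw [h3]; exact one_mem _
          haveI hn : ((Zs S).subgroupOf (S : Subgroup G)).Normal := ⟨fun z hz g => by
            rw [mem_subgroupOf] at hz ⊢
            rw [Subgroup.coe_mul, Subgroup.coe_mul, InvMemClass.coe_inv, hzS _ hz g g.2, mul_inv_cancel_right]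
            exact hz⟩
          obtain ⟨φ, hφ⟩ : ∃ φ, φ = QuotientGroup.mk' ((Zs S).subgroupOf (S : Subgroup G)) := ⟨_, rfl⟩
          have hφ1 : ∀ w : ↥(S : Subgroup G), φ w = 1 ↔ (w : G) ∈ Zs S := fun w =>
            hφ ▸ (QuotientGroup.eq_one_iff w).trans mem_subgroupOf
          have hxy : φ (⟨x, hxS⟩ * ⟨y, hyS⟩) ^ 3 = 1 := by
            obtain ⟨X, hX⟩ : ∃ X, X = φ ⟨x, hxS⟩ := ⟨_, rfl⟩
            obtain ⟨Y, hY⟩ : ∃ Y, Y = φ ⟨y, hyS⟩ := ⟨_, rfl⟩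
            obtain ⟨C, hC⟩ : ∃ C, C = φ ⟨c, hP₀S hcP⟩ := ⟨_, rfl⟩
            have e1 : X ^ 3 = 1 := by rw [hX, ← map_pow, hφ1]; exact hx'
            have e2 : Y ^ 3 = 1 := by rw [hY, ← map_pow, hφ1]; exact hy'
            have e3 : C ^ 3 = 1 := by rw [hC, ← map_pow, hφ1]; exact hc3
            have e4 : Commute C X := by
              show C * X = X * C
              rw [hC, hX, eq_comm, ← commutatorElement_eq_one_iff_mul_comm, ← map_commutatorElement, hφ1]; exact hcx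
            have e5 : Commute C Y := by
              show C * Y = Y * C
              rw [hC, hY, eq_comm, ← commutatorElement_eq_one_iff_mul_comm, ← map_commutatorElement, hφ1]; exact hcy
            have e6 : Y * X = C * X * Y := by
              rw [hC, hX, hY, ← map_mul, ← map_mul, ← map_mul]
              congr 1
              refine Subtype.ext ?_
              show y * x = c * x * y
              rw [hc, commutatorElement_def]; group
            rw [map_mul, ← hX, ← hY, pow_succ, pow_succ, pow_one]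
            calc X * Y * (X * Y) * (X * Y) = X * (Y * X) * (Y * X) * Y := by group
              _ = X * (C * X * Y) * (C * X * Y) * Y := by rw [e6]
              _ = X * C * X * (Y * C) * X * Y * Y := by group
              _ = X * C * X * C * (Y * X) * Y * Y := by rw [← e5.eq]; group
              _ = X * C * X * C * (C * X * Y) * Y * Y := by rw [e6]
              _ = X * (C * X) * (C * C * X) * (Y * Y * Y) := by group
              _ = X * (X * C) * (C * C * X) * 1 := by rw [e4.eq, ← pow_three', e2]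
              _ = X * X * ((C * C * C) * X) := by group
              _ = 1 := by rw [← pow_three', e3, one_mul, ← pow_three', e1]
          rw [← map_pow, hφ1] at hxy
          exact hxy
        inv_mem' := by
          rintro x ⟨hx, hx'⟩
          exact ⟨inv_mem hx, by rw [inv_pow]; exact inv_mem hx'⟩ }
    refine fun x hx => ((?_ : P₀ ≤ T) hx).2
    conv_lhs => rw [hP₀gen]
    refine (closure_le _).mpr fun y hy => ⟨hP₀gen ▸ subset_closure hy, ?_⟩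
    rcases hy with (hy | hy) | hy
    · rw [← hp3, h.Vll_exp y hy]; exact one_mem _
    · rw [← hp3, h.Vr_exp y hy]; exact one_mem _
    · rw [← hp3, h.Vl_exp y hy]; exact one_mem _
  have hnine : ∀ s ∈ (S : Subgroup G), ∃ q ∈ Q, s ^ 9 = q ^ 9 := by
    intro s hs
    obtain ⟨x, hx, d, hd', rfl⟩ := hdecS s hs
    refine ⟨d, hDQ d hd', ?_⟩
    haveI hn : ((Zs S).subgroupOf (S : Subgroup G)).Normal := ⟨fun z hz g => by
      rw [mem_subgroupOf] at hz ⊢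
      rw [Subgroup.coe_mul, Subgroup.coe_mul, InvMemClass.coe_inv, hzS _ hz g g.2, mul_inv_cancel_right]
      exact hz⟩
    obtain ⟨φ, hφ⟩ : ∃ φ, φ = QuotientGroup.mk' ((Zs S).subgroupOf (S : Subgroup G)) := ⟨_, rfl⟩
    have hφ1 : ∀ w : ↥(S : Subgroup G), φ w = 1 ↔ (w : G) ∈ Zs S := fun w =>
      hφ ▸ (QuotientGroup.eq_one_iff w).trans mem_subgroupOf
    obtain ⟨X, hX⟩ : ∃ X : ↥(S : Subgroup G), X = ⟨x, hP₀S hx⟩ := ⟨_, rfl⟩
    obtain ⟨D', hD''⟩ : ∃ D' : ↥(S : Subgroup G), D' = ⟨d, hDS hd'⟩ := ⟨_, rfl⟩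
    have e4 : Commute (φ X) (φ D') := by
      show φ X * φ D' = φ D' * φ X
      rw [← commutatorElement_eq_one_iff_mul_comm, ← map_commutatorElement, hφ1, hX, hD'']
      exact hDP d hd' x hx
    have h3 : φ ((D' ^ 3)⁻¹ * (X * D') ^ 3) = 1 := by
      have hX3 : φ X ^ 3 = 1 := by rw [← map_pow, hφ1, hX]; exact hcube x hx
      rw [map_mul, map_inv, map_pow, map_pow, map_mul, e4.mul_pow, hX3, one_mul, inv_mul_cancel]
    rw [hφ1] at h3
    obtain ⟨z, hzd⟩ : ∃ z, z = (d ^ 3)⁻¹ * (x * d) ^ 3 := ⟨_, rfl⟩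
    have hzm : z ∈ Zs S := by rw [hzd]; rw [hX, hD''] at h3; exact h3
    have hz3 : z ^ 3 = 1 := by
      have := (mem_Zs.mp hzm).2.2
      rwa [hp3] at this
    have hcom : Commute (d ^ 3) z := hzS z hzm _ (pow_mem (hDS hd') 3)
    rw [show (9 : ℕ) = 3 * 3 by norm_num, pow_mul, pow_mul, show (x * d) ^ 3 = d ^ 3 * z by rw [hzd]; group,
      hcom.mul_pow, hz3, mul_one]
  have hnine' : ∀ s ∈ (S : Subgroup G), s ^ 9 = 1 := by
    obtain ⟨T, hT⟩ : ∃ T, T = closure {y : ↥(S : Subgroup G) | ∃ x, x ^ 9 = y} := ⟨_, rfl⟩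
    by_contra hne
    push Not at hne
    obtain ⟨s, hs, hs1⟩ := hne
    refine hd T ?_ ?_ ?_
    · intro h0
      have h1 : (⟨s, hs⟩ : ↥(S : Subgroup G)) ^ 9 ∈ T := hT ▸ subset_closure ⟨_, rfl⟩
      rw [h0, mem_bot] at h1
      exact hs1 (congrArg Subtype.val h1)
    · refine characteristic_iff_map_le.mpr fun φ => ?_
      conv_lhs => rw [hT]
      rw [MonoidHom.map_closure, closure_le]
      rintro _ ⟨_, ⟨x, rfl⟩, rfl⟩
      exact hT ▸ subset_closure ⟨φ x, (map_pow φ x 9).symm⟩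
    · refine ⟨fun y hy g => ?_⟩
      suffices hle : T.map (S : Subgroup G).subtype ≤ (T.map (S : Subgroup G).subtype).comap (MulAut.conj g).toMonoidHom from hle hy
      conv_lhs => rw [hT]
      rw [MonoidHom.map_closure, closure_le]
      rintro _ ⟨_, ⟨x, rfl⟩, rfl⟩
      obtain ⟨q, hq, he⟩ := hnine x x.2
      refine ⟨⟨g * q * g⁻¹, hQS (hQn.conj_mem q hq g)⟩ ^ 9, hT ▸ subset_closure ⟨_, rfl⟩, ?_⟩
      show (g * q * g⁻¹) ^ 9 = g * ((x ^ 9 : ↥(S : Subgroup G)) : G) * g⁻¹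
      rw [conj_pow, SubgroupClass.coe_pow, he]
  have hexp : Monoid.exponent ↥(S : Subgroup G) = 9 := by
    have hd9 : Monoid.exponent ↥(S : Subgroup G) ∣ 3 ^ 2 :=
      Monoid.exponent_dvd_of_forall_pow_eq_one fun s => Subtype.ext (by norm_num; exact hnine' s s.2)
    obtain ⟨i, hi, he⟩ := (Nat.dvd_prime_pow Nat.prime_three).mp hd9
    have hi2 : i = 2 := by
      by_contra hi2
      refine hengel ?_
      have h3 : ∀ z : ↥(S : Subgroup G), z ^ 3 = 1 := fun z => by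
        have h1 := Monoid.pow_exponent_eq_one z
        rw [he] at h1
        obtain rfl | rfl : i = 0 ∨ i = 1 := by omega
        · rw [pow_zero, pow_one] at h1; rw [h1, one_pow]
        · rwa [pow_one] at h1
      have h4 := congrArg Subtype.val (engel_of_exp_three h3 ⟨t, htS⟩ ⟨v, hQS (hUQ hvU)⟩)
      have h5 : ⁅t, ⁅t, v⁆⁆ = 1 := h4
      rw [h5]; exact one_mem _
    rw [he, hi2]; norm_num
  refine ⟨hp3, hclass, hnab, hexp, Vz S, Cz S, U, F₀, hv.C0_le.trans hv.Z_le, hF.V_le_F, hline.WL.trans hline.LU,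
    hQ ▸ hUQ, hchV, hchU, hncV, hncU, ⟨1, iter_center hC0⟩, ⟨1, hFV⟩, hiterQ⟩

end Cfsg.Agent.Invol.PushUp
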