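import Mathlib
import Cfsg.Agent.Lib.Invol.PushUp.Far
import Cfsg.Agent.Lib.Invol.PushUp.Two

/-!
# The geometry of a critical line of distance two
-/

set_option autoImplicit false
set_option linter.style.haveILetI false
set_option linter.unusedSectionVars false

namespace Cfsg.Agent.Invol.PushUp

open Subgroup
open scoped commutatorElement

universe u

variable {G : Type u} [Group G] [Finite G] {p : ℕ} [hp : Fact p.Prime]
variable {S : Sylow p G} {F : Type} [Field F] [Fintype F] {fr : Frame S F}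
variable {Γ : Type u} [Group Γ] {E : Emb S Γ} {N : ℕ}

namespace Emb

theorem comap_im (X : Γ) (H : Subgroup G) : (E.im X H).comap (E.at' X) = H :=
  Subgroup.ext fun _ => E.at'_mem_im

theorem pow_of_im_V (hv : IsVertex fr) {y : Γ} {a : Γ} (ha : a ∈ E.im y (Vz S)) : a ^ p = 1 := by
  obtain ⟨c, hc, rfl⟩ := ha
  rw [← map_pow, hv.exp c hc, map_one]

theorem comm_of_im_V (hv : IsVertex fr) {y : Γ} {a b : Γ} (ha : a ∈ E.im y (Vz S)) (hb : b ∈ E.im y (Vz S)) :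
    a * b = b * a := by
  obtain ⟨c, hc, rfl⟩ := ha
  obtain ⟨d, hd, rfl⟩ := hb
  rw [← map_mul, hv.comm c hc d hd, map_mul]

/-- The modules of two vertices at distance two meet the core between them centrally. -/
theorem Line.move_centre (hv : IsVertex fr) [Finite Γ] (l : E.Line fr 2 N) (hs : E.Small 2) {i : ℕ} (hi : i + 2 ≤ N)
    {q : Γ} (hq : q ∈ E.im (l.x (i + 1)) (Cfsg.pCore p G)) :
    (∀ v ∈ E.im (l.x i) (Vz S), ⁅v, q⁆ ∈ E.im (l.x (i + 1)) (Cz S)) ∧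
      ∀ v ∈ E.im (l.x (i + 2)) (Vz S), ⁅v, q⁆ ∈ E.im (l.x (i + 1)) (Cz S) := by
  have hc := l.crit hv hs (by norm_num) hi
  have L0 := E.exists_local hv (l.x i) (l.g i)
  have L1 := E.exists_local hv (l.x (i + 1)) 1
  have L1g := E.exists_local hv (l.x (i + 1)) (l.g (i + 1))
  have L2 := E.exists_local hv (l.x (i + 2)) 1
  have hS0 : E.im (l.x (i + 1)) (S : Subgroup G) = E.im (l.x i * E.ι (l.g i)) (S : Subgroup G) := l.hubS (by omega)
  have hS1 : E.im (l.x (i + 2)) (S : Subgroup G) = E.im (l.x (i + 1) * E.ι (l.g (i + 1))) (S : Subgroup G) :=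
    l.hubS (i := i + 1) (by omega)
  have hZ0 : E.im (l.x (i + 1)) (Zs S) = E.im (l.x i * E.ι (l.g i)) (Zs S) := l.hubZ (by omega)
  have hZ1 : E.im (l.x (i + 2)) (Zs S) = E.im (l.x (i + 1) * E.ι (l.g (i + 1))) (Zs S) :=
    l.hubZ (i := i + 1) (by omega)
  have key : ∀ v ∈ E.im (l.x i) (Vz S), ∀ w ∈ E.im (l.x (i + 2)) (Vz S), ⁅v, w⁆ ∈ E.im (l.x (i + 1)) (Cz S) := by
    intro v hv' w hw
    refine L1.other (l.g (i + 1)) (by simpa using l.turn (i + 1) (by omega)) (Subgroup.mem_inf.mpr ⟨?_, ?_⟩)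
    · rw [at_one, hZ0, ← commutatorElement_inv w v]
      exact inv_mem (L0.move w (hc.left hw) v hv')
    · rw [← hZ1]
      have h := L2.move v (hc.right hv') w hw
      rwa [at_one] at h
  refine ⟨fun v hv' => ?_, fun v hv' => ?_⟩
  · have hqS : q ∈ E.im (l.x i * E.ι (l.g i)) (S : Subgroup G) := by
      have h := L1.Q_le_S hq; rwa [at_one, hS0] at h
    obtain ⟨w, hw, hwq⟩ := hc.decompL q hqS
    have hc' : ⁅v, w⁻¹ * q⁆ = 1 := commutatorElement_eq_one_iff_mul_comm.mpr (L0.comm _ hwq v hv').symm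
    rw [show ⁅v, q⁆ = ⁅v, w⁆ * (w * ⁅v, w⁻¹ * q⁆ * w⁻¹) by simp only [commutatorElement_def]; group, hc', mul_one,
      mul_inv_cancel, mul_one]
    exact key v hv' w hw
  · have hqS : q ∈ E.im (l.x (i + 2) * E.ι 1) (S : Subgroup G) := by
      rw [at_one, hS1]; exact L1g.Q_le_S hq
    obtain ⟨w, hw, hwq⟩ := hc.decompR q hqS
    have hc' : ⁅v, w⁻¹ * q⁆ = 1 := commutatorElement_eq_one_iff_mul_comm.mpr (L2.comm _ hwq v hv').symm
    rw [show ⁅v, q⁆ = ⁅v, w⁆ * (w * ⁅v, w⁻¹ * q⁆ * w⁻¹) by simp only [commutatorElement_def]; group, hc', mul_one,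
      mul_inv_cancel, mul_one, ← commutatorElement_inv w v]
    exact inv_mem (key w hw v hv')

theorem Line.engel (hd : NoChar S) (hv : IsVertex fr) [Finite Γ] (l : E.Line fr 2 5) (hs : E.Small 2)
    {t v : Γ} (ht : t ∈ E.im (l.x 1) (Vz S)) (htQ : t ∉ E.im (l.x 3) (Cfsg.pCore p G))
    (hv' : v ∈ E.im (l.x 4) (Vz S)) (hvQ : v ∉ E.im (l.x 2) (Cfsg.pCore p G)) :
    ⁅t, ⁅t, v⁆⁆ ∉ E.im (l.x 3) (Cz S) := by
  intro hC
  obtain ⟨Fb, hFb⟩ := (l.turnB hv hs le_rfl (i := 0) (by norm_num)).exists_mid hv (l.subB hd hv hs le_rfl (by norm_num))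
  obtain ⟨Ff, hFf⟩ := (l.turnF hv hs le_rfl (i := 1) (by norm_num)).exists_mid hv (l.subF hd hv hs le_rfl (by norm_num))
  simp only [Nat.zero_add] at hFb
  haveI := hFb.normalF
  haveI := hFf.normalF
  obtain ⟨_, ρ, hline, hnat⟩ := hFb.nat
  obtain ⟨g, hg⟩ : ∃ g, g = l.g 2 := ⟨_, rfl⟩
  have hc13 := l.crit hv hs (by norm_num) (i := 1) (by norm_num)
  have hc24 := l.crit hv hs (by norm_num) (i := 2) (by norm_num)
  have L1 := E.exists_local hv (l.x 1) 1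
  have L2g := E.exists_local hv (l.x 2) (l.g 2)
  have L3 := E.exists_local hv (l.x 3) 1
  -- the elements read at the vertex two
  obtain ⟨v₁, hv₁S, rfl⟩ := hc24.left hv'
  have hv₁Q : v₁ ∉ Cfsg.pCore p G := fun h => hvQ (im_Q_mul E (l.x 2) (l.g 2) ▸ E.at'_mem_im.mpr h)
  have htU : t ∈ E.nbrs (l.x 2) := by
    have h := mem_nbrs (E := E) (x := l.x 2) 1 (inv_mem (l.h_mem 1 (by norm_num)))
    have e : l.x 2 * (l.h 1)⁻¹ = l.x 1 * E.ι (l.g 1) := by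
      rw [show l.x 2 = l.x 1 * E.ι (l.g 1) * l.h 1 from l.step 1 (by norm_num), mul_inv_cancel_right]
    rw [at_one, e, im_V_mul] at h
    exact h ht
  obtain ⟨t₀, -, rfl⟩ : t ∈ E.im (l.x 2) ⊤ :=
    E.im_mono le_top (nbrs_le hs (k := 0) (by norm_num) (near_refl _) htU)
  obtain ⟨t₁, ht₁⟩ : ∃ t₁, t₁ = g⁻¹ * t₀ * g⁻¹⁻¹ := ⟨_, rfl⟩
  have ht₁U : t₁ ∈ (E.nbrs (l.x 2)).comap (E.at' (l.x 2)) := ht₁ ▸ hline.normalU.conj_mem t₀ htU g⁻¹
  have hte : E.at' (l.x 2) t₀ = E.at' (l.x 2 * E.ι g) t₁ := by rw [E.at'_mul, ht₁]; congr 1; group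
  have hL : ⁅t₁, v₁⁆ ∈ (E.nbrs (l.x 2) ⊓ E.im (l.x 1) (Cfsg.pCore p G)).comap (E.at' (l.x 2)) := by
    rw [← commutatorElement_inv v₁ t₁]; exact inv_mem (hline.move v₁ hv₁S t₁ ht₁U)
  obtain ⟨w₀, hw₀, hf₀⟩ := hFb.lineA _ hL
  rw [← hg] at hf₀
  obtain ⟨w, hw⟩ : ∃ w, w = E.at' (l.x 2) w₀ := ⟨_, rfl⟩
  obtain ⟨f, hf⟩ : ∃ f, f = E.at' (l.x 2) (w₀⁻¹ * (g * ⁅t₁, v₁⁆ * g⁻¹)) := ⟨_, rfl⟩
  have hwV : w ∈ E.im (l.x 3) (Vz S) := hw ▸ hw₀
  have hfQ : f ∈ E.im (l.x 1) (Cfsg.pCore p G) := hf ▸ (hFb.F_le_L hf₀).2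
  have he : ⁅E.at' (l.x 2) t₀, E.at' (l.x 2 * E.ι (l.g 2)) v₁⁆ = w * f := by
    rw [hte, ← hg, ← map_commutatorElement, E.at'_mul, hw, hf, ← map_mul, mul_inv_cancel_left]
  rw [he] at hC
  rw [show ⁅E.at' (l.x 2) t₀, w * f⁆ = ⁅E.at' (l.x 2) t₀, w⁆ * (w * ⁅E.at' (l.x 2) t₀, f⁆ * w⁻¹) by
      simp only [commutatorElement_def]; group,
    commutatorElement_eq_one_iff_mul_comm.mpr (L1.comm f hfQ _ ht).symm, mul_one, mul_inv_cancel, mul_one] at hC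
  have hwZ := L3.fix _ (hc13.right ht) htQ w hwV hC
  rw [at_one, l.hubZ (i := 2) (by norm_num)] at hwZ
  have hw₀V : w₀ ∈ Vz S := E.at'_mem_im.mp (hw ▸ L2g.Z_le_V hwZ)
  have heF : ⁅t₁, v₁⁆ ∈ Fb := by
    have h1 := hFb.normalF.conj_mem _ (mul_mem (hFb.V_le_F hw₀V) hf₀) g⁻¹
    simpa [mul_assoc] using h1
  have htL := hnat.fix v₁ hv₁S hv₁Q t₁ ht₁U (by rw [← commutatorElement_inv t₁ v₁]; exact inv_mem heF)
  obtain ⟨w', hw', hf'⟩ := hFb.lineA t₁ htL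
  rw [← hg] at hf'
  apply htQ
  have hgt : g * t₁ * g⁻¹ = t₀ := by rw [ht₁]; group
  rw [hgt] at hf'
  have h1 : g⁻¹ * (w'⁻¹ * t₀) * g⁻¹⁻¹ ∈ Ff := by
    refine (hFf.memF _).mpr ⟨?_, ((hFb.memF _).mp (hFb.normalF.conj_mem _ hf' g⁻¹)).2⟩
    rw [Subgroup.mem_comap]
    show E.at' (l.x 2 * E.ι (l.g 2)) _ ∈ E.nbrs (l.x 2 * E.ι (l.g 2))
    rw [nbrs_mul, E.at'_mul, ← hg]
    simpa [mul_assoc] using ((hFb.memF _).mp hf').1
  have h2 : E.at' (l.x 2 * E.ι (l.g 2)) (g⁻¹ * (w'⁻¹ * t₀) * g⁻¹⁻¹) ∈ E.im (l.x 3) (Cfsg.pCore p G) := (hFf.F_le_L h1).2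
  rw [E.at'_mul, ← hg, show g * (g⁻¹ * (w'⁻¹ * t₀) * g⁻¹⁻¹) * g⁻¹ = w'⁻¹ * t₀ by group, map_mul, map_inv] at h2
  have h3 := mul_mem (L3.V_le_Q hw') h2
  rwa [mul_inv_cancel_left] at h3

/-- The data of the middle vertex of a line of five steps. -/
theorem Line.two_data (hd : NoChar S) (hv : IsVertex fr) [Finite Γ] (l : E.Line fr 2 5) (hs : E.Small 2) :
    TwoData fr (l.g 3) ((E.im (l.x 1) (Vz S)).comap (E.at' (l.x 3))) ((E.im (l.x 2) (Vz S)).comap (E.at' (l.x 3)))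
      ((E.im (l.x 4) (Vz S)).comap (E.at' (l.x 3))) ((E.im (l.x 2) (Cfsg.pCore p G)).comap (E.at' (l.x 3)))
      ((E.im (l.x 4) (Cfsg.pCore p G)).comap (E.at' (l.x 3))) ((E.im (l.x 2) (Cz S)).comap (E.at' (l.x 3))) := by
  classical
  have hc13 := l.crit hv hs (by norm_num) (i := 1) (by norm_num)
  have hc24 := l.crit hv hs (by norm_num) (i := 2) (by norm_num)
  have L2 := E.exists_local hv (l.x 2) 1
  have L2g := E.exists_local hv (l.x 2) (l.g 2)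
  have L3g := E.exists_local hv (l.x 3) (l.g 3)
  have L4 := E.exists_local hv (l.x 4) 1
  have hS2 : E.im (l.x 3) (S : Subgroup G) = E.im (l.x 2 * E.ι (l.g 2)) (S : Subgroup G) := l.hubS (i := 2) (by norm_num)
  have hZ2 : E.im (l.x 3) (Zs S) = E.im (l.x 2 * E.ι (l.g 2)) (Zs S) := l.hubZ (i := 2) (by norm_num)
  have hS3 : E.im (l.x 4) (S : Subgroup G) = E.im (l.x 3 * E.ι (l.g 3)) (S : Subgroup G) := l.hubS (i := 3) (by norm_num)
  have n1 : ∀ i, i < 5 → E.Near 1 (l.x i) (l.x (i + 1)) := fun i hi => by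
    simpa using l.near (i := i) (j := i + 1) (by omega) (by omega)
  have v12 : E.im (l.x 1) (Vz S) ≤ E.im (l.x 2) (Cfsg.pCore p G) := hs 1 _ _ (by norm_num) (near_symm (n1 1 (by norm_num)))
  have v23 : E.im (l.x 2) (Vz S) ≤ E.im (l.x 3) (Cfsg.pCore p G) :=
    hs 1 _ _ (by norm_num) (near_symm (n1 2 (by norm_num)))
  have v43 : E.im (l.x 4) (Vz S) ≤ E.im (l.x 3) (Cfsg.pCore p G) :=
    hs 1 _ _ (by norm_num) (n1 3 (by norm_num))
  have v32 : E.im (l.x 3) (Vz S) ≤ E.im (l.x 2) (Cfsg.pCore p G) :=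
    hs 1 _ _ (by norm_num) (n1 2 (by norm_num))
  have q2S : E.im (l.x 2) (Cfsg.pCore p G) ≤ E.im (l.x 3) (S : Subgroup G) := hS2 ▸ L2g.Q_le_S
  have pre : ∀ y, y ∈ E.im (l.x 3) (S : Subgroup G) → ∃ c, E.at' (l.x 3) c = y := fun y ⟨c, _, hc⟩ => ⟨c, hc⟩
  have preQ : ∀ y, y ∈ E.im (l.x 3) (Cfsg.pCore p G) → ∃ c, E.at' (l.x 3) c = y := fun y ⟨c, _, hc⟩ => ⟨c, hc⟩
  refine
    { turn := l.turn 3 (by norm_num)
      Ql_le := fun a ha => E.at'_mem_im.mp (q2S ha)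
      Ql_normal := fun s hs' a ha => ?_
      Vll_le := comap_mono v12
      Vl_le := fun a ha => ⟨E.at'_mem_im.mp (v23 ha), L2.V_le_Q ha⟩
      Vr_le := fun a ha => E.at'_mem_im.mp (v43 ha)
      V_le_Ql := fun a ha => v32 (E.at'_mem_im.mpr ha)
      Vll_exp := fun a ha => E.at'_inj (l.x 3) (by rw [map_pow, map_one]; exact pow_of_im_V hv ha)
      Vl_exp := fun a ha => E.at'_inj (l.x 3) (by rw [map_pow, map_one]; exact pow_of_im_V hv ha)
      Vr_exp := fun a ha => E.at'_inj (l.x 3) (by rw [map_pow, map_one]; exact pow_of_im_V hv ha)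
      Vll_comm := fun a ha b hb => E.at'_inj (l.x 3) (by rw [map_mul, map_mul]; exact comm_of_im_V hv ha hb)
      Ql_comm := fun x hx a ha => E.at'_inj (l.x 3) (by rw [map_mul, map_mul]; exact L2.comm _ hx _ ha)
      Qr_comm := fun x hx a ha => E.at'_inj (l.x 3) (by rw [map_mul, map_mul]; exact L4.comm _ hx _ ha)
      decompA := fun s hs' => ?_
      decompR := fun s hs' => ?_
      decompL := fun q hq => ?_
      movC := fun q hq => ?_
      movCl := fun y hy t ht => ?_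
      Cl_le := fun c hc => ?_
      outside := ?_
      outsideR := ?_
      engel := fun t ht htQ v hv' hvQ hC => ?_
      sec := ?_ }
  · rw [Subgroup.mem_comap, map_mul, map_mul, map_inv]
    have hsG : E.at' (l.x 3) s ∈ E.im (l.x 2) ⊤ := L2g.S_le (hS2 ▸ E.at'_mem_im.mpr hs')
    exact L2.normQ _ hsG _ ha
  · obtain ⟨w, hw, hwq⟩ := hc13.decompR (E.at' (l.x 3) s) (by
      rw [at_one]; exact E.at'_mem_im.mpr hs')
    obtain ⟨c, rfl⟩ := pre w (q2S (v12 hw))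
    refine ⟨c, hw, (E.at'_mem_im (x := l.x 3)).mp ?_⟩
    rw [map_mul, map_inv]; exact hwq
  · obtain ⟨w, hw, hwq⟩ := hc24.decompL (E.at' (l.x 3) s) (by
      rw [← hS2]; exact E.at'_mem_im.mpr hs')
    obtain ⟨c, rfl⟩ := preQ w (v43 hw)
    refine ⟨c, hw, ?_⟩
    rw [Subgroup.mem_comap, map_mul, map_inv]; exact hwq
  · obtain ⟨w, hw, hwq⟩ := hc24.decompR (E.at' (l.x 3) q) (by
      rw [at_one, hS3]; exact L3g.Q_le_S (E.at'_mem_im.mpr hq))
    obtain ⟨c, rfl⟩ := preQ w (v23 hw)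
    refine ⟨c, hw, ?_⟩
    rw [Subgroup.mem_comap, map_mul, map_inv]; exact hwq
  · obtain ⟨h1, h2⟩ := l.move_centre hv hs (i := 2) (by norm_num) (q := E.at' (l.x 3) q) (E.at'_mem_im.mpr hq)
    refine ⟨fun a ha => (E.at'_mem_im (x := l.x 3)).mp ?_, fun a ha => (E.at'_mem_im (x := l.x 3)).mp ?_⟩
    · rw [map_commutatorElement]; exact h1 _ ha
    · rw [map_commutatorElement]; exact h2 _ ha
  · rw [Subgroup.mem_comap, map_commutatorElement]
    exact (l.move_centre hv hs (i := 1) (by norm_num) hy).1 _ ht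
  · refine (E.at'_mem_im (x := l.x 3)).mp ?_
    rw [hZ2]; exact L2g.C_le_Z hc
  · obtain ⟨a, ha, haQ⟩ := hc13.moveR
    obtain ⟨c, rfl⟩ := pre a (q2S (v12 ha))
    exact ⟨c, ha, fun h => haQ (E.at'_mem_im.mpr h)⟩
  · obtain ⟨a, ha, haQ⟩ := hc24.moveL
    obtain ⟨c, rfl⟩ := preQ a (v43 ha)
    exact ⟨c, ha, haQ⟩
  · refine l.engel hd hv hs ht (fun h => htQ (E.at'_mem_im.mp (h))) hv' hvQ ?_
    rw [← map_commutatorElement, ← map_commutatorElement]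
    exact E.at'_mem_im.mpr hC
  · obtain ⟨U, hU⟩ : ∃ U, U = twoU S ((E.im (l.x 2) (Vz S)).comap (E.at' (l.x 3)))
        ((E.im (l.x 4) (Vz S)).comap (E.at' (l.x 3))) := ⟨_, rfl⟩
    haveI hUn : U.Normal := hU ▸ inferInstance
    rw [← hU]
    have hsub := l.subB hd hv hs le_rfl (i := 1) (by norm_num)
    have hturn := l.turnB hv hs le_rfl (i := 1) (by norm_num)
    simp only [show (1 : ℕ) + 2 = 3 by norm_num, show (1 : ℕ) + 2 + 1 = 4 by norm_num, show (1 : ℕ) + 1 = 2 by norm_num,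
      show (3 : ℕ) + 1 = 4 by norm_num] at hsub hturn
    have hUn' : E.im (l.x 3) U ≤ E.nbrs (l.x 3) := by
      have hN : ((E.nbrs (l.x 3)).comap (E.at' (l.x 3))).Normal := ⟨fun a ha g => by
        rw [Subgroup.mem_comap, map_mul, map_mul, map_inv]
        exact nbrs_normal _ _ (E.at'_mem_im.mpr (mem_top g)) _ ha⟩
      refine map_le_iff_le_comap.mpr ?_
      rw [hU]
      refine normalClosure_le_normal (Set.union_subset (Set.union_subset (fun a ha => ?_) fun a ha => ?_) fun a ha => ?_)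
      · have h := mem_nbrs (E := E) (x := l.x 3) 1 (inv_mem (l.h_mem 2 (by norm_num)))
        have e : l.x 3 * (l.h 2)⁻¹ = l.x 2 * E.ι (l.g 2) := by
          rw [show l.x 3 = l.x 2 * E.ι (l.g 2) * l.h 2 from l.step 2 (by norm_num), mul_inv_cancel_right]
        rw [at_one, e, im_V_mul] at h
        exact h ha
      · exact hsub.V₀_le ha
      · exact hsub.V_le (E.at'_mem_im.mpr ha)
    have hV4 : E.im (l.x 4) (Vz S) ≤ E.im (l.x 3) U := fun a ha => by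
      obtain ⟨c, rfl⟩ := preQ a (v43 ha)
      exact E.at'_mem_im.mpr (hU ▸ subset_normalClosure (Or.inl (Or.inr ha)))
    obtain ⟨F₁, hF₁⟩ := hturn.exists_mid hv hsub
    have hsub' : E.TurnSub fr (l.x 3) (l.x 4) (l.x 2) (l.g 2) (E.im (l.x 3) U) := by
      refine ⟨hUn'.trans hsub.le, E.im_mono (hU ▸ fun a ha => subset_normalClosure (Or.inr ha)), hV4, ?_,
        fun q hq u hu => hsub.quad q hq u (hUn' hu), hUn'.trans hsub.far, ?_⟩
      · rintro _ ⟨g, -, rfl⟩ _ ⟨u, hu, rfl⟩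
        exact ⟨_, hUn.conj_mem u hu g, by simp⟩
      · obtain ⟨a, ha, haQ⟩ := hc24.moveL
        obtain ⟨c, rfl⟩ := preQ a (v43 ha)
        by_contra hcon
        push Not at hcon
        refine haQ (hF₁.F_le_L ((hF₁.memF c).mpr ⟨hsub.V₀_le ha, fun g => ?_⟩)).2
        refine (E.at'_mem_im (x := l.x 3)).mp ?_
        rw [map_commutatorElement]
        exact hcon _ (hV4 ha) _ (E.at'_mem_im.mpr (mem_top g))
    obtain ⟨F₀, hF₀⟩ := hturn.exists_mid hv hsub'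
    refine ⟨F₀, ?_⟩
    rwa [Subgroup.comap_inf, comap_im] at hF₀

end Emb

end Cfsg.Agent.Invol.PushUp
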