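import Mathlib
import Cfsg.Agent.Lib.Invol.PushUp.TwoGeom

/-!
# Pushing up over a rank one quotient
-/

set_option autoImplicit false
set_option linter.style.haveILetI false
set_option linter.unusedSectionVars false

namespace Cfsg.Agent.Invol.PushUp

open Subgroup
open scoped commutatorElement

universe u

variable {G : Type u} [Group G] [Finite G] {p : ℕ} [hp : Fact p.Prime]
variable {S : Sylow p G} {F : Type} [Field F] [Fintype F] {fr : Frame S F}
variable {Γ : Type u} [Group Γ] {E : Emb S Γ}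

theorem Emb.Line.pair (hv : IsVertex fr) [Finite Γ] (l : E.Line fr 1 1) (hs : E.Small 1) :
    OfPair fr ((E.im (l.x 1) (Vz S)).comap (E.at' (l.x 0 * E.ι (l.g 0))))
      ((E.im (l.x 1) (Cfsg.pCore p G)).comap (E.at' (l.x 0 * E.ι (l.g 0)))) := by
  have hc : E.Crit (l.x 0) (l.g 0) (l.x 1) 1 := l.crit hv hs le_rfl (i := 0) le_rfl
  have hS : E.im (l.x 1) (S : Subgroup G) = E.im (l.x 0 * E.ι (l.g 0)) (S : Subgroup G) := l.hubS (i := 0) one_pos
  have L1 := E.exists_local hv (l.x 1) 1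
  obtain ⟨X, hX⟩ : ∃ X, X = l.x 0 * E.ι (l.g 0) := ⟨_, rfl⟩
  rw [← hX] at hS ⊢
  have hQX : E.im X (Cfsg.pCore p G) = E.im (l.x 0) (Cfsg.pCore p G) := hX ▸ Emb.im_Q_mul E _ _
  have hVX : E.im X (Vz S) = E.im (l.x 0) (Vz S) := hX ▸ Emb.im_V_mul E _ _
  have hleft : E.im (l.x 1) (Vz S) ≤ E.im X (S : Subgroup G) := hX ▸ hc.left
  refine
    { V'_le := fun a ha => E.at'_mem_im.mp (hleft ha)
      V'_exp := fun a ha => E.at'_inj X (by rw [map_pow, map_one]; exact Emb.pow_of_im_V hv ha)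
      V'_comm := fun a ha b hb => E.at'_inj X (by rw [map_mul, map_mul]; exact Emb.comm_of_im_V hv ha hb)
      Q'_comm := fun x hx a ha => E.at'_inj X (by rw [map_mul, map_mul]; exact L1.comm _ hx _ ha)
      outside := ?_
      decompS := fun s hs' => ?_
      decompS' := fun s hs' => ?_ }
  · obtain ⟨a, ha, haQ⟩ := hc.moveL
    obtain ⟨c, -, rfl⟩ := hleft ha
    exact ⟨c, ha, fun h => haQ (hQX ▸ E.at'_mem_im.mpr h)⟩
  · obtain ⟨w, hw, hwq⟩ := hc.decompL (E.at' X s) (hX ▸ E.at'_mem_im.mpr hs')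
    obtain ⟨c, -, rfl⟩ := hleft hw
    refine ⟨c, hw, (E.at'_mem_im (x := X)).mp ?_⟩
    rw [map_mul, map_inv, hQX]; exact hwq
  · obtain ⟨w, hw, hwq⟩ := hc.decompR (E.at' X s) (by
      rw [Emb.at_one, hS]; exact E.at'_mem_im.mpr hs')
    obtain ⟨c, hc', rfl⟩ := hVX.ge hw
    refine ⟨c, hc', ?_⟩
    rw [Subgroup.mem_comap, map_mul, map_inv]; exact hwq

/-- Pushing up over a rank one quotient. -/
theorem push_result (fr : Frame S F) (hd : NoChar S) : PushResult fr := by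
  have hv := exists_vertex fr hd
  obtain ⟨E⟩ := exists_emb S
  obtain ⟨b, hb1, hs, hline⟩ := Emb.exists_line hd hv E
  have hb2 := Emb.b_le_two hd hv hs hline
  obtain rfl | rfl : b = 1 ∨ b = 2 := by omega
  · obtain ⟨l⟩ := hline 1
    exact (l.pair hv hs).result hd hv
  · obtain ⟨l⟩ := hline 5
    exact (l.two_data hd hv hs).result hd hv

end Cfsg.Agent.Invol.PushUp
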