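import Mathlib
import Cfsg.Agent.Lib.Invol.PushUp.Main
import Cfsg.Agent.Lib.Invol.QdOverStructure

/-!
# Pushing up for primes at least five: the splitting over the natural module
-/

set_option autoImplicit false
set_option linter.style.haveILetI false
set_option linter.unusedSectionVars false

namespace Cfsg.Agent.Invol.PushUp

open Subgroup Matrix
open Cfsg.Agent.Grp.SL2 (up low)
open Cfsg.Agent.Invol.Nat2 (upG mem_upG dg)
open scoped commutatorElement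

universe u

section Field

variable {F : Type} [Field F]

local notation "SS" => Matrix.SpecialLinearGroup (Fin 2) F

/-- The squares of two elements one apart, away from the cube roots of unity. -/
theorem exists_square_pair [Fintype F] (h2 : (2 : F) ≠ 0) (hq : 14 ≤ Fintype.card F) :
    ∃ a b : F, a ≠ 0 ∧ b ≠ 0 ∧ a * a = b * b + 1 ∧ b * b * (b * b) + b * b + 1 ≠ 0 := by
  classical
  obtain ⟨P, hP⟩ : ∃ P : Polynomial F, P = (Polynomial.X * (Polynomial.X ^ 4 - 1)) *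
      ((Polynomial.X ^ 2 - 1) ^ 4 + 4 * Polynomial.X ^ 2 * (Polynomial.X ^ 2 - 1) ^ 2 + 16 * Polynomial.X ^ 4) :=
    ⟨_, rfl⟩
  have hdeg : P.natDegree = 13 := by
    rw [hP]
    compute_degree!
  have hP0 : P ≠ 0 := fun h => by rw [h, Polynomial.natDegree_zero] at hdeg; omega
  obtain ⟨t, ht⟩ : ∃ t, P.eval t ≠ 0 := by
    by_contra hc
    push Not at hc
    have h := Polynomial.card_le_degree_of_subset_roots (p := P) (Z := Finset.univ) fun x _ =>
      (Polynomial.mem_roots hP0).mpr (hc x)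
    rw [Finset.card_univ, hdeg] at h
    omega
  rw [hP] at ht
  simp only [Polynomial.eval_mul, Polynomial.eval_add, Polynomial.eval_sub, Polynomial.eval_pow, Polynomial.eval_X,
    Polynomial.eval_one, Polynomial.eval_ofNat] at ht
  obtain ⟨ht1, ht3⟩ := mul_ne_zero_iff.mp ht
  obtain ⟨ht0, ht4⟩ := mul_ne_zero_iff.mp ht1
  have hd : (2 * t) ≠ 0 := mul_ne_zero h2 ht0
  refine ⟨(t ^ 2 + 1) / (2 * t), (t ^ 2 - 1) / (2 * t), div_ne_zero (fun h => ht4 ?_) hd,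
    div_ne_zero (fun h => ht4 ?_) hd, by field_simp; ring, fun h => ht3 ?_⟩
  · linear_combination (t ^ 2 - 1) * h
  · linear_combination (t ^ 2 + 1) * h
  · field_simp at h
    linear_combination h

theorem sq_eq_one_cases (h2 : (2 : F) ≠ 0) {x : SS} (hx : x * x = 1) : x = 1 ∨ x = -1 := by
  have h := congrArg (fun m : SS => (m : Matrix (Fin 2) (Fin 2) F)) (eq_inv_of_mul_eq_one_left hx)
  simp only [Matrix.SpecialLinearGroup.coe_inv, Matrix.adjugate_fin_two] at h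
  have h00 := congrFun (congrFun h 0) 0
  have h01 := congrFun (congrFun h 0) 1
  have h10 := congrFun (congrFun h 1) 0
  simp at h00 h01 h10
  have e01 : (x : Matrix (Fin 2) (Fin 2) F) 0 1 = 0 :=
    (mul_eq_zero.mp (show (2 : F) * _ = 0 by linear_combination h01)).resolve_left h2
  have e10 : (x : Matrix (Fin 2) (Fin 2) F) 1 0 = 0 :=
    (mul_eq_zero.mp (show (2 : F) * _ = 0 by linear_combination h10)).resolve_left h2
  exact Cfsg.Agent.Grp.SL2.isScalar_of_diag e01 e10 h00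

end Field

variable {G : Type u} [Group G] [Finite G] {p : ℕ} [hp : Fact p.Prime]
variable {S : Sylow p G} {F : Type} [Field F] [Fintype F]

/-- The decomposition at a prime at least five. -/
structure SplitData (fr : Frame S F) (G₀ E₀ : Subgroup G) (z : G) : Prop where
  prod : Cfsg.IsInternalDirectProduct G₀ E₀ ⊤
  E_normal : E₀.Normal
  E_le : E₀ ≤ Cfsg.pCore p G
  E_exp : ∀ e ∈ E₀, e ^ p = 1
  E_normalised : ∀ X : Subgroup G, X ≤ E₀ → (∀ s ∈ (S : Subgroup G), ∀ x ∈ X, s * x * s⁻¹ ∈ X) → X.Normal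
  derived_central : ∀ r ∈ ⁅E₀, E₀⁆, ∀ g : G, g * r = r * g
  inverted : ∀ r ∈ ⁅(S : Subgroup G) ⊓ centralizer (E₀ : Set G), (S : Subgroup G) ⊓ centralizer (E₀ : Set G)⁆,
    z * r * z⁻¹ = r⁻¹
  iso : Nonempty (↥G₀ ≃* ↥(Cfsg.qdOver F))

theorem exists_split (fr : Frame S F) (hd : NoChar S) (hp5 : 5 ≤ p) :
    ∃ G₀ E₀ z, SplitData fr G₀ E₀ z := by
  classical
  have hv := exists_vertex fr hd
  have hr := push_result fr hd
  obtain ⟨ρ, hρ, hker⟩ := hv.nat
  obtain ⟨hlcs, -, -, hexpS, hcop, -⟩ := hr.shape.resolve_right (fun h => absurd h.1 (by omega))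
  have hexp : ∀ s ∈ (S : Subgroup G), s ^ p = 1 := fun s hs =>
    congrArg Subtype.val ((hexpS (by omega)) ▸ Monoid.pow_exponent_eq_one (⟨s, hs⟩ : ↥(S : Subgroup G)))
  haveI hVn : (Vz S).Normal := normalClosure_normal
  obtain ⟨Q, hQ⟩ : ∃ Q, Q = Cfsg.pCore p G := ⟨_, rfl⟩
  haveI hQn : Q.Normal := hQ ▸ Grp.pCore_isNormal
  have hQS : Q ≤ (S : Subgroup G) := hQ ▸ Grp.pCore_le_sylow S
  have hVQ : Vz S ≤ Q := hQ ▸ hv.le_core
  have hcQ : ∀ x ∈ Q, ∀ v ∈ Vz S, x * v = v * x := fun x hx => hv.cent_core x (hQ ▸ hx)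
  have hρQ : ∀ g, ρ g = 1 ↔ g ∈ Q := fun g => by
    rw [hker, hQ]
    exact ⟨hr.cent g, fun hg => mem_centralizer_iff.mpr fun v hv' => (hv.cent_core g hg v hv').symm⟩
  have hC0 : Cz S ≤ center G := inf_le_right
  haveI : CharP F p := by
    obtain ⟨j, hj⟩ := IsPGroup.iff_card.mp S.isPGroup'
    have h1 := fr.card_S
    rw [hj] at h1
    obtain ⟨i, -, hi⟩ := (Nat.dvd_prime_pow hp.out).mp (Dvd.intro _ h1.symm : Fintype.card F ∣ p ^ j)
    exact Nat2.charP_of_card hi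
  have h2 : (2 : F) ≠ 0 := Cfsg.Agent.Grp.SL2.two_ne_zero' p (by omega)
  have h3 : (3 : F) ≠ 0 := fun h => by
    have : ((3 : ℕ) : F) = 0 := by exact_mod_cast h
    have := (Nat.prime_dvd_prime_iff_eq hp.out Nat.prime_three).mp ((CharP.cast_eq_zero_iff F p 3).mp this)
    omega
  obtain ⟨m, hm⟩ : ∃ m, 2 * m = p + 1 := by
    obtain ⟨k, hk⟩ := hp.out.odd_of_ne_two (by omega)
    exact ⟨k + 1, by omega⟩
  have hsqrt : ∀ x : G, x ^ p = 1 → x ^ m * x ^ m = x := fun x hx => by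
    rw [← pow_add, ← two_mul, hm, pow_succ, hx, one_mul]
  have hodd2 : ∀ x : G, x ^ p = 1 → x * x = 1 → x = 1 := fun x hx h => by
    rw [← hsqrt x hx, ← (Commute.refl x).mul_pow, h, one_pow]
  -- the involution
  obtain ⟨z₀, hz₀⟩ := hρ.std.surjective (-1)
  obtain ⟨z, hz⟩ : ∃ z, z = z₀ ^ p := ⟨_, rfl⟩
  have hz2 : z * z = 1 := by
    have h1 : z₀ * z₀ ∈ Q := (hρQ _).mp (by rw [map_mul, hz₀]; simp)
    rw [hz, ← (Commute.refl z₀).mul_pow, hexp _ (hQS h1)]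
  have hzi : z⁻¹ = z := inv_eq_of_mul_eq_one_left hz2
  have hρz : ρ z = -1 := by rw [hz, map_pow, hz₀, (hp.out.odd_of_ne_two (by omega)).neg_one_pow]
  have hzc : (orderOf z).Coprime p := by
    refine Nat.Coprime.coprime_dvd_left (orderOf_dvd_of_pow_eq_one (by rw [pow_two, hz2])) ?_
    exact (Nat.coprime_primes Nat.prime_two hp.out).mpr (by omega)
  -- its centraliser
  obtain ⟨L, hL⟩ : ∃ L, L = centralizer ({z} : Set G) := ⟨_, rfl⟩
  have hmemL : ∀ g, g ∈ L ↔ g * z = z * g := fun g => hL ▸ mem_centralizer_singleton_iff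
  obtain ⟨ψ, hψadd, hψ0, hψact⟩ := hρ.coords
  let V₁ : Subgroup G :=
    { carrier := {v | v ∈ Vz S ∧ z * v * z⁻¹ = v⁻¹}
      one_mem' := ⟨one_mem _, by simp⟩
      mul_mem' := by
        rintro a b ⟨ha, ha'⟩ ⟨hb, hb'⟩
        refine ⟨mul_mem ha hb, ?_⟩
        rw [show z * (a * b) * z⁻¹ = (z * a * z⁻¹) * (z * b * z⁻¹) by group, ha', hb', _root_.mul_inv_rev]
        exact hv.comm _ (inv_mem ha) _ (inv_mem hb)
      inv_mem' := by
        rintro a ⟨ha, ha'⟩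
        refine ⟨inv_mem ha, ?_⟩
        rw [show z * a⁻¹ * z⁻¹ = (z * a * z⁻¹)⁻¹ by group, ha'] }
  have hV₁V : V₁ ≤ Vz S := fun v hv' => hv'.1
  have hV₁Q : V₁ ≤ Q := hV₁V.trans hVQ
  haveI hV₁n : V₁.Normal := ⟨fun v hv' g => ⟨hVn.conj_mem v hv'.1 g, by
    obtain ⟨q, hq⟩ : ∃ q, q = z⁻¹ * (g⁻¹ * z * g) := ⟨_, rfl⟩
    have hqQ : q ∈ Q := (hρQ _).mp (by rw [hq, map_mul, map_mul, map_mul, map_inv, map_inv, hρz]; simp)
    rw [show z * (g * v * g⁻¹) * z⁻¹ = g * (z * (q * v * q⁻¹) * z⁻¹) * g⁻¹ by rw [hq]; group,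
      hcQ q hqQ v hv'.1, mul_inv_cancel_right, hv'.2]
    group⟩⟩
  have hsplitV : ∀ v ∈ Vz S, ∃ c ∈ Cz S, c⁻¹ * v ∈ V₁ := by
    intro v hv'
    obtain ⟨c, hc⟩ : ∃ c, c = v * (z * v * z⁻¹) := ⟨_, rfl⟩
    have hcV : c ∈ Vz S := hc ▸ mul_mem hv' (hVn.conj_mem v hv' z)
    have hcC : c ∈ Cz S := by
      refine (hψ0 c hcV).mp ?_
      rw [hc, hψadd v hv' _ (hVn.conj_mem v hv' z), hψact z v hv', hρz]
      simp [Matrix.neg_mulVec]
    have hcm : c ^ m ∈ Cz S := pow_mem hcC m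
    refine ⟨c ^ m, hcm, mul_mem (inv_mem hcm.1) hv', ?_⟩
    have hzv : z * v * z⁻¹ = v⁻¹ * c := by rw [hc]; group
    have hcz : ∀ g : G, g * c ^ m = c ^ m * g := Subgroup.mem_center_iff.mp (hC0 hcm)
    have hz' : z * (c ^ m)⁻¹ * z⁻¹ = (c ^ m)⁻¹ := by
      rw [Subgroup.mem_center_iff.mp (inv_mem (hC0 hcm)) z, mul_inv_cancel_right]
    rw [show z * ((c ^ m)⁻¹ * v) * z⁻¹ = z * (c ^ m)⁻¹ * z⁻¹ * (z * v * z⁻¹) by group, hz', hzv, _root_.mul_inv_rev, inv_inv]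
    rw [← mul_assoc, Subgroup.mem_center_iff.mp (inv_mem (hC0 hcm)) v⁻¹ |>.symm, mul_assoc]
    congr 1
    rw [inv_mul_eq_iff_eq_mul, hsqrt c (hv.exp c hcV)]
  have hV₁L : ∀ v ∈ V₁, v ∈ L → v = 1 := fun v hv' hvL => by
    refine hodd2 v (hv.exp v hv'.1) ?_
    have h := hv'.2
    rw [← (hmemL v).mp hvL, mul_inv_cancel_right] at h
    exact eq_inv_iff_mul_eq_one.mp h
  have hVL : ∀ v ∈ Vz S, v ∈ L → v ∈ Cz S := fun v hv' hvL => by
    obtain ⟨c, hc, hcv⟩ := hsplitV v hv'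
    have h := hV₁L _ hcv (mul_mem (inv_mem ((hmemL c).mpr (Subgroup.mem_center_iff.mp (hC0 hc) z).symm)) hvL)
    rwa [← inv_mul_eq_one.mp h]
  have hsplit : ∀ g : G, ∃ w ∈ V₁, w * g ∈ L := by
    intro g
    obtain ⟨d, hd'⟩ : ∃ d, d = z⁻¹ * (g * z * g⁻¹) := ⟨_, rfl⟩
    have hdQ : d ∈ Q := (hρQ _).mp (by rw [hd', map_mul, map_mul, map_mul, map_inv, map_inv, hρz]; simp)
    have hdz : z * d * z⁻¹ = d⁻¹ := by
      rw [hd', hzi]
      simp only [_root_.mul_inv_rev, inv_inv, hzi, ← mul_assoc, hz2, one_mul]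
    have hdp : d ^ p = 1 := hexp d (hQS hdQ)
    obtain ⟨w, hw⟩ : ∃ w, w = d ^ m := ⟨_, rfl⟩
    have hwQ : w ∈ Q := hw ▸ pow_mem hdQ m
    have hwz : z * w * z⁻¹ = w⁻¹ := by rw [hw, ← conj_pow, hdz, inv_pow]
    have hwV : w ∈ Vz S := by
      have h1 := hcop z hzc w (hQ ▸ hwQ)
      rw [commutatorElement_def, hwz, ← _root_.mul_inv_rev] at h1
      rw [← hsqrt w (hexp w (hQS hwQ)), ← (Commute.refl w).mul_pow]
      exact pow_mem (inv_mem_iff.mp h1) m
    refine ⟨w, ⟨hwV, hwz⟩, (hmemL _).mpr ?_⟩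
    have h2 : w * w = d := hw ▸ hsqrt d hdp
    have hzw : z * w = w⁻¹ * z := by rw [← hwz, inv_mul_cancel_right]
    calc w * g * z = w * (g * z * g⁻¹) * g := by group
      _ = w * (z * d) * g := by rw [hd']; group
      _ = w * (z * w) * w * g := by rw [← h2]; group
      _ = w * (w⁻¹ * z) * w * g := by rw [← hzw]
      _ = z * w * g := by group
      _ = _ := by rw [mul_assoc]
  obtain ⟨E₀, hE₀⟩ : ∃ E₀, E₀ = Q ⊓ L := ⟨_, rfl⟩
  have hE₀Q : E₀ ≤ Q := hE₀ ▸ inf_le_left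
  have hVE : ∀ v ∈ Vz S, ∀ e ∈ E₀, v * e = e * v := fun v hv' e he => (hcQ e (hE₀Q he) v hv').symm
  haveI hE₀n : E₀.Normal := ⟨fun e he g => by
    obtain ⟨w, hw, hwg⟩ := hsplit g
    obtain ⟨l, hl⟩ : ∃ l, l = w * g := ⟨_, rfl⟩
    rw [← hl] at hwg
    have hle : l * e * l⁻¹ ∈ E₀ := by
      rw [hE₀] at he ⊢
      exact ⟨hQn.conj_mem e he.1 l, L.mul_mem (L.mul_mem hwg he.2) (L.inv_mem hwg)⟩
    rw [show g * e * g⁻¹ = w⁻¹ * (l * e * l⁻¹) * w⁻¹⁻¹ by rw [hl]; group, hVE _ (inv_mem (hV₁V hw)) _ hle,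
      mul_inv_cancel_right]
    exact hle⟩
  -- the subgroup generated by the elements of order prime to `p` of the centraliser
  obtain ⟨Y, hY⟩ : ∃ Y, Y = closure {c : G | c ∈ L ∧ (orderOf c).Coprime p} := ⟨_, rfl⟩
  have hYgen : ∀ T : Subgroup G, (∀ c ∈ L, (orderOf c).Coprime p → c ∈ T) → Y ≤ T := fun T hT =>
    hY ▸ (closure_le _).mpr fun c hc => hT c hc.1 hc.2
  have hYL : Y ≤ L := hYgen L fun c hc _ => hc
  have hYE : ∀ y ∈ Y, ∀ e ∈ E₀, y * e = e * y := fun y hy e he => by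
    refine mem_centralizer_singleton_iff.mp (hYgen (centralizer ({e} : Set G)) (fun c hcL hc => ?_) hy)
    refine mem_centralizer_singleton_iff.mpr ?_
    obtain ⟨d, hd'⟩ : ∃ d, d = ⁅c, e⁆ := ⟨_, rfl⟩
    have hdC : d ∈ Cz S := hd' ▸ hVL _ (hcop c hc e (hQ ▸ hE₀Q he)) (by
      have heL : e ∈ L := (hE₀ ▸ he : e ∈ Q ⊓ L).2
      rw [commutatorElement_def]; exact L.mul_mem (L.mul_mem (L.mul_mem hcL heL) (L.inv_mem hcL)) (L.inv_mem heL))
    have hrel : e⁻¹ * c * e = d * c := by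
      have hde : d * e⁻¹ = e⁻¹ * d := (Subgroup.mem_center_iff.mp (hC0 hdC) e⁻¹).symm
      calc e⁻¹ * c * e = e⁻¹ * d * e * c := by rw [hd', commutatorElement_def]; group
        _ = _ := by rw [← hde, inv_mul_cancel_right]
    have h1 : d ^ orderOf c = 1 := by
      have h := congrArg (· ^ orderOf c) hrel
      rw [(show Commute d c from (Subgroup.mem_center_iff.mp (hC0 hdC) c).symm).mul_pow, pow_orderOf_eq_one, mul_one,
        show e⁻¹ * c * e = e⁻¹ * c * e⁻¹⁻¹ by rw [inv_inv], conj_pow, pow_orderOf_eq_one] at h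
      rw [← h]; group
    have h4 : d ^ Nat.gcd (orderOf c) p = 1 := pow_gcd_eq_one.mpr ⟨h1, hv.exp d hdC.1⟩
    rw [show Nat.gcd (orderOf c) p = 1 from hc, pow_one, hd', commutatorElement_eq_one_iff_mul_comm] at h4
    exact h4
  -- it maps onto the special linear group
  have hρY : ∀ x, ∃ y ∈ Y, ρ y = x := by
    obtain ⟨R, hR⟩ : ∃ R, R = Y.map ρ := ⟨_, rfl⟩
    have hlift : ∀ x, ∃ l ∈ L, ρ l = x := fun x => by
      obtain ⟨g, hg⟩ := hρ.std.surjective x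
      obtain ⟨w, hw, hwg⟩ := hsplit g
      exact ⟨w * g, hwg, by rw [map_mul, (hρQ w).mpr (hV₁Q hw), one_mul, hg]⟩
    haveI hRn : R.Normal := ⟨fun r hr' x => by
      obtain ⟨y, hy, rfl⟩ := hR ▸ hr'
      obtain ⟨l, hl, rfl⟩ := hlift x
      refine hR ▸ ⟨l * y * l⁻¹, ?_, by simp⟩
      refine (hYgen (Y.comap (MulAut.conj l).toMonoidHom) (fun c hcL hc => ?_)) hy
      rw [hY]
      refine subset_closure ⟨L.mul_mem (L.mul_mem hl hcL) (L.inv_mem hl), ?_⟩
      rw [orderOf_injective (MulAut.conj l).toMonoidHom (MulAut.conj l).injective c]; exact hc⟩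
    obtain ⟨g, hgL, hg⟩ := hlift (dg (2 : F) h2)
    obtain ⟨k, r, hr', hkr⟩ := Nat.exists_eq_pow_mul_and_not_dvd (orderOf_pos g).ne' p hp.out.ne_one
    have hfrob : ∀ k : ℕ, (2 : F) ^ p ^ k = 2 := fun k => by
      induction k with
      | zero => simp
      | succ k ih =>
        rw [pow_succ, pow_mul, ih, ← Nat.cast_ofNat, ← frobenius_def, map_natCast]
    have hdgpow : ∀ k : ℕ, ((dg (2 : F) h2 ^ k : Matrix.SpecialLinearGroup (Fin 2) F) : Matrix (Fin 2) (Fin 2) F) =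
        !![(2 : F) ^ k, 0; 0, (2 : F)⁻¹ ^ k] := fun k => by
      induction k with
      | zero => ext i j; fin_cases i <;> fin_cases j <;> simp
      | succ k ih =>
        rw [pow_succ, Matrix.SpecialLinearGroup.coe_mul, ih]
        ext i j; fin_cases i <;> fin_cases j <;> simp [dg, Matrix.mul_apply, Fin.sum_univ_two, pow_succ]
    have hdg : dg (2 : F) h2 ∈ R := by
      refine hR ▸ ⟨g ^ p ^ k, hY ▸ subset_closure ⟨pow_mem hgL _, ?_⟩, ?_⟩
      · refine ((Nat.Prime.coprime_iff_not_dvd hp.out).mpr hr').symm.coprime_dvd_left (orderOf_dvd_of_pow_eq_one ?_)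
        rw [← pow_mul, ← hkr]; exact pow_orderOf_eq_one g
      · rw [map_pow, hg]
        refine Subtype.ext ?_
        rw [hdgpow, inv_pow, hfrob]
        rfl
    have hu : ∀ t, up t ∈ R := fun t => by
      have e : up t = ⁅dg (2 : F) h2, up (t / 3)⁆ := by
        rw [commutatorElement_def, Nat2.dg_up, mul_inv_cancel_right,
          show (up (t / 3) : Matrix.SpecialLinearGroup (Fin 2) F)⁻¹ = up (-(t / 3)) from inv_eq_of_mul_eq_one_left
            (by rw [Cfsg.Agent.Grp.SL2.up_mul, neg_add_cancel, Cfsg.Agent.Grp.SL2.up_zero]), Cfsg.Agent.Grp.SL2.up_mul]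
        congr 1
        field_simp
        ring
      rw [e, commutatorElement_def, mul_assoc, mul_assoc]
      refine mul_mem hdg ?_
      rw [← mul_assoc]
      exact hRn.conj_mem _ (inv_mem hdg) _
    have htop : R = ⊤ := by
      have hw : ∀ t, low t ∈ R := fun t => by
        rw [SL2Nat.low_eq]; exact hRn.conj_mem _ (hu _) _
      refine SL2Nat.generated _ hu ?_
      have e : (SL2Nat.wel : Matrix.SpecialLinearGroup (Fin 2) F) = up (-1) * low 1 * up (-1) := by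
        refine Subtype.ext ?_
        simp only [Matrix.SpecialLinearGroup.coe_mul]
        ext i j
        fin_cases i <;> fin_cases j <;> simp [up, low, SL2Nat.wel, Matrix.mul_apply, Fin.sum_univ_two]
      rw [e]; exact mul_mem (mul_mem (hu _) (hw _)) (hu _)
    exact fun x => (hR ▸ htop.ge (mem_top x) : x ∈ Y.map ρ)
  -- the Sylow subgroup of `Y` is abelian
  have hSpre : ∀ g t, ρ g = up t → g ∈ (S : Subgroup G) := fun g t h => by
    have h' : (fr.σ t)⁻¹ * g ∈ Q := (hρQ _).mp (by rw [map_mul, map_inv, hρ.std.up', h, inv_mul_cancel])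
    simpa using mul_mem (fr.σ_mem t) (hQS h')
  choose σ' hσY hσρ using fun t : F => hρY (up t)
  obtain ⟨B, hB⟩ : ∃ B : F → F → G, B = fun x y => ⁅σ' x, σ' y⁆ := ⟨_, rfl⟩
  have hAcen : ∀ a, a ∈ Y → ρ a = 1 → ∀ y ∈ Y, y * a = a * y := fun a ha ha1 y hy =>
    hYE y hy a (hE₀ ▸ ⟨(hρQ a).mp ha1, hYL ha⟩)
  have hlift : ∀ x y : G, x ∈ Y → y ∈ Y → ∀ s t, ρ x = up s → ρ y = up t → ⁅x, y⁆ = B s t := by
    intro x y hx hy s t hxs hyt
    rw [hB]
    obtain ⟨a, ha⟩ : ∃ a, a = (σ' s)⁻¹ * x := ⟨_, rfl⟩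
    obtain ⟨b, hb⟩ : ∃ b, b = (σ' t)⁻¹ * y := ⟨_, rfl⟩
    have haY : a ∈ Y := ha ▸ mul_mem (inv_mem (hσY s)) hx
    have hbY : b ∈ Y := hb ▸ mul_mem (inv_mem (hσY t)) hy
    have ha1 : ρ a = 1 := by rw [ha, map_mul, map_inv, hσρ, hxs, inv_mul_cancel]
    have hb1 : ρ b = 1 := by rw [hb, map_mul, map_inv, hσρ, hyt, inv_mul_cancel]
    have e1 : ∀ u ∈ Y, ⁅σ' s * a, u⁆ = ⁅σ' s, u⁆ := fun u hu => by
      rw [show ⁅σ' s * a, u⁆ = σ' s * ⁅a, u⁆ * (σ' s)⁻¹ * ⁅σ' s, u⁆ by simp only [commutatorElement_def]; group,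
        commutatorElement_eq_one_iff_mul_comm.mpr (hAcen a haY ha1 u hu).symm, mul_one, mul_inv_cancel, one_mul]
    have e2 : ⁅σ' s, σ' t * b⁆ = ⁅σ' s, σ' t⁆ := by
      rw [show ⁅σ' s, σ' t * b⁆ = ⁅σ' s, σ' t⁆ * (σ' t * ⁅σ' s, b⁆ * (σ' t)⁻¹) by simp only [commutatorElement_def]; group,
        commutatorElement_eq_one_iff_mul_comm.mpr (hAcen b hbY hb1 _ (hσY s)), mul_one, mul_inv_cancel, mul_one]
    rw [show x = σ' s * a by rw [ha]; group, show y = σ' t * b by rw [hb]; group, e1 _ (mul_mem (hσY t) hbY), e2]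
  have hBA : ∀ s t, B s t ∈ Y ∧ ρ (B s t) = 1 := fun s t => by
    simp only [hB]
    refine ⟨by rw [commutatorElement_def]; exact mul_mem (mul_mem (mul_mem (hσY s) (hσY t)) (inv_mem (hσY s))) (inv_mem (hσY t)), ?_⟩
    rw [map_commutatorElement, hσρ, hσρ, commutatorElement_eq_one_iff_mul_comm, Cfsg.Agent.Grp.SL2.up_mul,
      Cfsg.Agent.Grp.SL2.up_mul, add_comm]
  have hBadd : ∀ s s' t, B (s + s') t = B s t * B s' t := fun s s' t => by
    have h1 : ρ (σ' s * σ' s') = up (s + s') := by rw [map_mul, hσρ, hσρ, Cfsg.Agent.Grp.SL2.up_mul]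
    rw [← hlift _ _ (mul_mem (hσY s) (hσY s')) (hσY t) _ _ h1 (hσρ t),
      show ⁅σ' s * σ' s', σ' t⁆ = σ' s * ⁅σ' s', σ' t⁆ * (σ' s)⁻¹ * ⁅σ' s, σ' t⁆ by simp only [commutatorElement_def]; group,
      show ⁅σ' s', σ' t⁆ = B s' t by rw [hB], show ⁅σ' s, σ' t⁆ = B s t by rw [hB],
      hAcen _ (hBA s' t).1 (hBA s' t).2 _ (hσY s), mul_inv_cancel_right]
    exact (hAcen _ (hBA s' t).1 (hBA s' t).2 _ (hBA s t).1).symm
  have hBswap : ∀ s t, B t s = (B s t)⁻¹ := fun s t => by rw [hB]; exact (commutatorElement_inv _ _).symm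
  have hBadd' : ∀ s t t', B s (t + t') = B s t * B s t' := fun s t t' => by
    rw [hBswap (t + t') s, hBadd, _root_.mul_inv_rev, ← hBswap t s, ← hBswap t' s]
    exact (hAcen _ (hBA s t).1 (hBA s t).2 _ (hBA s t').1)
  have hBinv : ∀ (a : F) (ha : a ≠ 0) s t, B (a * a * s) (a * a * t) = B s t := fun a ha s t => by
    obtain ⟨h, hh, hha⟩ := hρY (dg a ha)
    have e : ∀ u, ρ (h * σ' u * h⁻¹) = up (a * a * u) := fun u => by
      rw [map_mul, map_mul, map_inv, hha, hσρ, Nat2.dg_up, mul_inv_cancel_right]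
    rw [← hlift _ _ (mul_mem (mul_mem hh (hσY s)) (inv_mem hh)) (mul_mem (mul_mem hh (hσY t)) (inv_mem hh)) _ _ (e s) (e t),
      show ⁅h * σ' s * h⁻¹, h * σ' t * h⁻¹⁆ = h * ⁅σ' s, σ' t⁆ * h⁻¹ by simp only [commutatorElement_def]; group,
      show ⁅σ' s, σ' t⁆ = B s t by rw [hB], hAcen _ (hBA s t).1 (hBA s t).2 _ hh, mul_inv_cancel_right]
  have hB0 : ∀ s t, B s t = 1 := by
    have hB00 : ∀ s, B s 0 = 1 := fun s => by
      have h := hBadd' s 0 0
      rw [add_zero] at h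
      exact left_eq_mul.mp h
    obtain ⟨n, hn⟩ : ∃ n, Fintype.card F = p ^ n := by
      obtain ⟨n, -, hn⟩ := FiniteField.card F p
      exact ⟨n, hn⟩
    rcases Nat.lt_or_ge n 2 with hn2 | hn2
    · -- the prime field
      have hn1 : Fintype.card F = p := by
        have : n ≠ 0 := fun h => by
          rw [h, pow_zero] at hn
          exact absurd hn Fintype.one_lt_card.ne'
        rw [hn, show n = 1 by omega, pow_one]
      have hcast : ∀ s : F, ∃ k : ℕ, (k : F) = s := by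
        haveI : NeZero p := ⟨hp.out.ne_zero⟩
        have hbij : Function.Bijective (ZMod.castHom (dvd_refl p) F) :=
          (Fintype.bijective_iff_injective_and_card _).mpr ⟨RingHom.injective _, by rw [ZMod.card, hn1]⟩
        intro s
        obtain ⟨x, hx⟩ := hbij.2 s
        exact ⟨x.val, by rw [← hx, ZMod.castHom_apply, ZMod.natCast_val]⟩
      have h11 : ∀ t, B 1 t = 1 := fun t => by
        obtain ⟨k, rfl⟩ := hcast t
        induction k with
        | zero => rw [Nat.cast_zero, hB00]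
        | succ k ih => rw [Nat.cast_succ, hBadd', ih, one_mul, hB]; exact commutatorElement_self _
      intro s t
      obtain ⟨k, rfl⟩ := hcast s
      induction k with
      | zero => rw [Nat.cast_zero, hBswap, hB00, inv_one]
      | succ k ih => rw [Nat.cast_succ, hBadd, ih, h11, one_mul]
    · -- larger fields
      have hq : 14 ≤ Fintype.card F := by
        rw [hn]
        have h1 : p ^ 2 ≤ p ^ n := Nat.pow_le_pow_right hp.out.pos hn2
        have h5 : 5 * 5 ≤ p ^ 2 := by rw [pow_two]; exact Nat.mul_le_mul hp5 hp5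
        omega
      obtain ⟨a, b, ha, hb, hab, hne⟩ := exists_square_pair h2 hq
      have hmove : ∀ (a : F) (ha : a ≠ 0) s t, B (a * a * s) t = B s ((a * a)⁻¹ * t) := fun a ha s t => by
        have h := hBinv a ha s ((a * a)⁻¹ * t)
        rwa [mul_inv_cancel_left₀ (mul_ne_zero ha ha)] at h
      intro s t
      obtain ⟨c, hc⟩ : ∃ c, c = (b * b)⁻¹ + 1 - (a * a)⁻¹ := ⟨_, rfl⟩
      have hc0 : c ≠ 0 := fun h => hne (by
        rw [hc, hab] at h
        have hb1 : b * b + 1 ≠ 0 := hab ▸ mul_ne_zero ha ha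
        obtain ⟨u, hu⟩ : ∃ u, u = b * b := ⟨_, rfl⟩
        have hu0 : u ≠ 0 := hu ▸ mul_ne_zero hb hb
        rw [← hu] at h hb1 ⊢
        field_simp at h
        linear_combination h)
      obtain ⟨t', rfl⟩ : ∃ t', t = c * t' := ⟨c⁻¹ * t, (mul_inv_cancel_left₀ hc0 t).symm⟩
      have h1 := hmove a ha s t'
      rw [show a * a * s = b * b * s + s by rw [hab]; ring, hBadd, hmove b hb, ← hBadd',
        show (b * b)⁻¹ * t' + t' = c * t' + (a * a)⁻¹ * t' by rw [hc]; ring, hBadd'] at h1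
      exact mul_eq_right.mp h1
  -- the transfer to it
  have hAtriv : ∀ a ∈ Y, ρ a = 1 → a = 1 := by
    intro a ha ha1
    obtain ⟨φ, hφ⟩ : ∃ φ, φ = ρ.comp Y.subtype := ⟨_, rfl⟩
    have hφs : Function.Surjective φ := fun x => by
      obtain ⟨y, hy, hyx⟩ := hρY x
      exact ⟨⟨y, hy⟩, by rw [hφ]; exact hyx⟩
    obtain ⟨P, hP⟩ : ∃ P, P = (upG : Subgroup (Matrix.SpecialLinearGroup (Fin 2) F)).comap φ := ⟨_, rfl⟩
    have hidx : ¬ p ∣ P.index := by
      obtain ⟨T, -⟩ : ∃ T : Sylow p (Matrix.SpecialLinearGroup (Fin 2) F), True := ⟨default, trivial⟩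
      obtain ⟨g, hg⟩ := Nat2.exists_conj_upG (F := F) p T
      rw [hP, Subgroup.index_comap_of_surjective _ hφs]
      have hcd : Nat.card (upG : Subgroup (Matrix.SpecialLinearGroup (Fin 2) F)) =
          Nat.card (T : Subgroup (Matrix.SpecialLinearGroup (Fin 2) F)) := by
        rw [hg, card_map_of_injective (f := (MulAut.conj g).toMonoidHom) (MulAut.conj g).injective]
      have h1 := (upG : Subgroup (Matrix.SpecialLinearGroup (Fin 2) F)).index_mul_card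
      have h2' := (T : Subgroup (Matrix.SpecialLinearGroup (Fin 2) F)).index_mul_card
      rw [hcd, ← h2'] at h1
      rw [Nat.eq_of_mul_eq_mul_right Nat.card_pos h1]
      exact T.not_dvd_index
    have hPc : ∀ x ∈ P, ∀ y ∈ P, x * y = y * x := fun x hx y hy => by
      obtain ⟨s, hs⟩ := mem_upG.mp (hP ▸ hx : x ∈ (upG : Subgroup _).comap φ)
      obtain ⟨t, ht⟩ := mem_upG.mp (hP ▸ hy : y ∈ (upG : Subgroup _).comap φ)
      rw [hφ] at hs ht
      refine Subtype.ext (commutatorElement_eq_one_iff_mul_comm.mp ?_)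
      rw [hlift _ _ x.2 y.2 s t hs.symm ht.symm]
      exact hB0 s t
    letI : CommGroup P := { (inferInstance : Group P) with
      mul_comm := fun x y => Subtype.ext (hPc x x.2 y y.2) }
    obtain ⟨T, hT⟩ : ∃ T, T = MonoidHom.transfer (MonoidHom.id P) := ⟨_, rfl⟩
    have haP : ∀ (k : ℕ), ∀ g₀ : ↥Y, g₀⁻¹ * (⟨a, ha⟩ : ↥Y) ^ k * g₀ = (⟨a, ha⟩ : ↥Y) ^ k := fun k g₀ => by
      have hc : Commute (⟨a, ha⟩ : ↥Y) g₀ := Subtype.ext (hAcen a ha ha1 g₀ g₀.2).symm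
      rw [mul_assoc, (hc.pow_left k).eq, inv_mul_cancel_left]
    have haPm : (⟨a, ha⟩ : ↥Y) ∈ P := by
      rw [hP, mem_comap, hφ]
      show ρ a ∈ upG
      rw [ha1]; exact one_mem _
    have hpow := MonoidHom.transfer_eq_pow (MonoidHom.id P) (⟨a, ha⟩ : ↥Y) (fun k g₀ _ => haP k g₀)
    have hT1 : ∀ y : ↥Y, T y = 1 := by
      have hk : (closure {c : ↥Y | (orderOf c).Coprime p}) ≤ T.ker := (closure_le _).mpr fun c hc => by
        rw [SetLike.mem_coe, MonoidHom.mem_ker]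
        have h1 : orderOf (T c) ∣ orderOf c := orderOf_map_dvd T c
        have h2' : (T c) ^ p = 1 := by
          refine Subtype.ext (Subtype.ext ?_)
          rw [SubgroupClass.coe_pow, SubgroupClass.coe_pow]
          obtain ⟨t, ht⟩ := mem_upG.mp (hP ▸ (T c).2 : ((T c : P) : ↥Y) ∈ (upG : Subgroup _).comap φ)
          rw [hφ] at ht
          exact hexp _ (hSpre _ t ht.symm)
        have h3' : (T c) ^ Nat.gcd (orderOf c) p = 1 := pow_gcd_eq_one.mpr ⟨orderOf_dvd_iff_pow_eq_one.mp h1, h2'⟩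
        rwa [show Nat.gcd (orderOf c) p = 1 from hc, pow_one] at h3'
      have htop : closure {c : ↥Y | (orderOf c).Coprime p} = ⊤ := by
        refine eq_top_iff.mpr fun y _ => ?_
        have h : Y ≤ (closure {c : ↥Y | (orderOf c).Coprime p}).map Y.subtype := hYgen _ fun c hcL hc =>
          ⟨⟨c, hY ▸ subset_closure ⟨hcL, hc⟩⟩, subset_closure (by
            show (orderOf (⟨c, _⟩ : ↥Y)).Coprime p
            rw [Subgroup.orderOf_mk]; exact hc), rfl⟩
        obtain ⟨w, hw, he⟩ := h y.2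
        rwa [← Subtype.ext he]
      exact fun y => MonoidHom.mem_ker.mp (hk (htop.ge (mem_top y)))
    rw [← hT, hT1] at hpow
    have hai : a ^ P.index = 1 := by
      have h := congrArg (fun x : P => ((x : ↥Y) : G)) hpow
      simpa using h.symm
    have hap : a ^ p = 1 := hexp a (hQS ((hρQ a).mp ha1))
    have h4 : a ^ Nat.gcd P.index p = 1 := pow_gcd_eq_one.mpr ⟨hai, hap⟩
    rwa [show Nat.gcd P.index p = 1 from ((Nat.Prime.coprime_iff_not_dvd hp.out).mpr hidx).symm, pow_one] at h4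
  have hYinj : ∀ x ∈ Y, ∀ y ∈ Y, ρ x = ρ y → x = y := fun x hx y hy h =>
    inv_mul_eq_one.mp (hAtriv _ (mul_mem (inv_mem hx) hy) (by rw [map_mul, map_inv, h, inv_mul_cancel]))
  -- the isomorphism
  choose sY hsY hsρ using hρY
  have hsmul : ∀ A B, sY (A * B) = sY A * sY B := fun A B =>
    hYinj _ (hsY _) _ (mul_mem (hsY A) (hsY B)) (by rw [map_mul, hsρ, hsρ, hsρ])
  have hψinj : ∀ v ∈ V₁, ψ v = 0 → v = 1 := fun v hv' h => by
    have hC := (hψ0 v hv'.1).mp h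
    exact hV₁L v hv' ((hmemL v).mpr (Subgroup.mem_center_iff.mp (hC0 hC) z).symm)
  have hψneg : ∀ v ∈ Vz S, ψ v⁻¹ = -ψ v := fun v hv' => by
    have h1 := hψadd v hv' _ (inv_mem hv')
    rw [mul_inv_cancel, (hψ0 1 (one_mem _)).mpr (one_mem _)] at h1
    exact (neg_eq_of_add_eq_zero_right h1.symm).symm
  have hψeq : ∀ v ∈ V₁, ∀ w ∈ V₁, ψ v = ψ w → v = w := fun v hv' w hw h => by
    refine inv_mul_eq_one.mp (hψinj _ (mul_mem (inv_mem hv') hw) ?_)
    rw [hψadd _ (inv_mem hv'.1) _ hw.1, hψneg v hv'.1, h, neg_add_cancel]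
  have hψsurj : ∀ x : Fin 2 → F, ∃ v ∈ V₁, ψ v = x := by
    intro x
    have hcard : Nat.card (Fin 2 → F) * Nat.card (Cz S) ≤ Nat.card V₁ * Nat.card (Cz S) := by
      have h1 := Grp.card_sup_mul_card_inf_normal (H := V₁) (N := Cz S)
      have hsup : V₁ ⊔ Cz S = Vz S := by
        refine le_antisymm (sup_le hV₁V inf_le_left) fun v hv' => ?_
        obtain ⟨c, hc, hcv⟩ := hsplitV v hv'
        have := mul_mem (mem_sup_right (S := V₁) hc) (mem_sup_left (T := Cz S) hcv)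
        simpa using this
      have hinf : Nat.card ↥(V₁ ⊓ Cz S) = 1 := by
        rw [Subgroup.card_eq_one, eq_bot_iff_forall]
        exact fun v hv' => hV₁L v hv'.1 ((hmemL v).mpr (Subgroup.mem_center_iff.mp (hC0 hv'.2) z).symm)
      rw [hsup, hinf, mul_one] at h1
      rw [← h1, hρ.card_U, hρ.card_L, Nat.card_fun, Nat.card_eq_fintype_card (α := F), Nat.card_eq_fintype_card (α := Fin 2),
        Fintype.card_fin, pow_two, mul_assoc]
    have hinj : Function.Injective (fun v : V₁ => ψ (v : G)) := fun v w h => Subtype.ext (hψeq v v.2 w w.2 h)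
    obtain ⟨v, hv'⟩ := (Function.Injective.bijective_of_nat_card_le hinj
      (Nat.le_of_mul_le_mul_right hcard Nat.card_pos)).2 x
    exact ⟨v, v.2, hv'⟩
  choose vV hvV hvψ using hψsurj
  obtain ⟨Φ, hΦ⟩ : ∃ Φ : ↥(Cfsg.qdOver F) →* G, ∀ M, Φ M = vV (QdOv.tra M) * sY (QdOv.lin M) := by
    refine ⟨MonoidHom.mk' (fun M => vV (QdOv.tra M) * sY (QdOv.lin M)) fun M N => ?_, fun M => rfl⟩
    rw [map_mul, hsmul, QdOv.tra_mul]
    obtain ⟨A, hA⟩ : ∃ A, A = QdOv.lin M := ⟨_, rfl⟩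
    rw [← hA]
    have hcV : sY A * vV (QdOv.tra N) * (sY A)⁻¹ ∈ V₁ := hV₁n.conj_mem _ (hvV _) _
    have he : vV (QdOv.tra M + (A : Matrix (Fin 2) (Fin 2) F).mulVec (QdOv.tra N)) =
        vV (QdOv.tra M) * (sY A * vV (QdOv.tra N) * (sY A)⁻¹) := by
      refine hψeq _ (hvV _) _ (mul_mem (hvV _) hcV) ?_
      rw [hvψ, hψadd _ (hvV _).1 _ hcV.1, hψact _ _ (hvV _).1, hsρ, hvψ, hvψ]
    rw [he]; group
  have hΦinj : Function.Injective Φ := by
    rw [injective_iff_map_eq_one]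
    intro M hM
    rw [hΦ] at hM
    have hl : QdOv.lin M = 1 := by
      have h := congrArg ρ hM
      rwa [map_mul, (hρQ _).mpr (hV₁Q (hvV _)), one_mul, hsρ, map_one] at h
    have hs1 : sY (1 : Matrix.SpecialLinearGroup (Fin 2) F) = 1 :=
      hAtriv _ (hsY _) (hsρ _)
    rw [hl, hs1, mul_one] at hM
    refine QdOv.eq_of_lin_tra (hl.trans (map_one _).symm) ?_
    rw [← hvψ (QdOv.tra M), hM, (hψ0 1 (one_mem _)).mpr (one_mem _)]
    ext i; fin_cases i <;> simp [QdOv.tra, QdOv.ent]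
  obtain ⟨G₀, hG₀⟩ : ∃ G₀, G₀ = Φ.range := ⟨_, rfl⟩
  have hG₀mem : ∀ g, g ∈ G₀ → ∃ v ∈ V₁, ∃ y ∈ Y, v * y = g := fun g hg => by
    obtain ⟨M, rfl⟩ := hG₀ ▸ hg
    exact ⟨_, hvV _, _, hsY _, (hΦ M).symm⟩
  have hVYG : ∀ v ∈ V₁, ∀ y ∈ Y, v * y ∈ G₀ := fun v hv' y hy => hG₀ ▸ ⟨QdOv.mk (ρ y) (ψ v), by
    rw [hΦ, QdOv.tra_mk, QdOv.lin_mk, hψeq _ (hvV (ψ v)) v hv' (hvψ _), hYinj _ (hsY _) y hy (hsρ _)]⟩
  have hdec : ∀ g : G, ∃ v ∈ V₁, ∃ y ∈ Y, ∃ e ∈ E₀, v * y * e = g := fun g => by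
    obtain ⟨w, hw, hwg⟩ := hsplit g
    obtain ⟨y, hy, hyg⟩ : ∃ y ∈ Y, ρ y = ρ (w * g) := ⟨_, hsY _, hsρ _⟩
    refine ⟨w⁻¹, inv_mem hw, y, hy, y⁻¹ * (w * g), hE₀ ▸ ⟨(hρQ _).mp ?_, L.mul_mem (L.inv_mem (hYL hy)) hwg⟩, by group⟩
    rw [map_mul, map_inv, hyg, inv_mul_cancel]
  have hG₀E : ∀ a ∈ G₀, ∀ e ∈ E₀, a * e = e * a := fun a ha e he => by
    obtain ⟨v, hv', y, hy, rfl⟩ := hG₀mem a ha
    exact ((show Commute v e from hVE v (hV₁V hv') e he).mul_left (show Commute y e from hYE y hy e he)).eq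
  refine ⟨G₀, E₀, z, ⟨le_top, le_top, hG₀E, ?_, ?_⟩, hE₀n, hQ ▸ hE₀Q, fun e he => hexp e (hQS (hE₀Q he)),
    fun X hX hSX => ⟨fun x hx g => ?_⟩, fun r hr' g => ?_, fun r hr' => ?_, ⟨hG₀ ▸ (MonoidHom.ofInjective hΦinj).symm⟩⟩
  · rw [eq_bot_iff]
    rintro g ⟨hg, hgE⟩
    obtain ⟨v, hv', y, hy, rfl⟩ := hG₀mem g hg
    have hy1 : y = 1 := hAtriv y hy (by
      have h := (hρQ _).mpr (hE₀Q hgE)
      rwa [map_mul, (hρQ v).mpr (hV₁Q hv'), one_mul] at h)
    rw [mem_bot, hy1, mul_one]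
    rw [hy1, mul_one] at hgE
    exact hV₁L v hv' (hE₀ ▸ hgE : v ∈ Q ⊓ L).2
  · refine eq_top_iff.mpr fun g _ => ?_
    obtain ⟨v, hv', y, hy, e, he, rfl⟩ := hdec g
    exact mul_mem (mem_sup_left (hVYG v hv' y hy)) (mem_sup_right he)
  · obtain ⟨v, hv', y, hy, e, he, rfl⟩ := hdec g
    have h1 := hSX e (hQS (hE₀Q he)) x hx
    rw [show v * y * e * x * (v * y * e)⁻¹ = v * y * (e * x * e⁻¹) * (v * y)⁻¹ by group,
      hG₀E _ (hVYG v hv' y hy) _ (hX h1), mul_inv_cancel_right]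
    exact h1
  · obtain ⟨v, hv', y, hy, e, he, rfl⟩ := hdec g
    have hr2 : r ∈ E₀ := commutator_le_left E₀ E₀ hr'
    have he' : e * r = r * e := by
      have h1 : r ∈ (S : Subgroup G).lowerCentralSeries 1 :=
        (commutator_mono (hE₀Q.trans hQS) (hE₀Q.trans hQS) : ⁅E₀, E₀⁆ ≤ ⁅(S : Subgroup G), (S : Subgroup G)⁆) hr'
      have h2' : ⁅r, e⁆ ∈ (S : Subgroup G).lowerCentralSeries 2 :=
        commutator_mem_commutator (H₁ := (S : Subgroup G).lowerCentralSeries 1) (H₂ := (S : Subgroup G)) h1 (hQS (hE₀Q he))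
      rw [hlcs, mem_bot, commutatorElement_eq_one_iff_mul_comm] at h2'
      exact h2'.symm
    exact ((show Commute (v * y) r from hG₀E _ (hVYG v hv' y hy) r hr2).mul_left (show Commute e r from he')).eq
  · suffices h : ⁅(S : Subgroup G) ⊓ centralizer (E₀ : Set G), (S : Subgroup G) ⊓ centralizer (E₀ : Set G)⁆ ≤ V₁ from
      (h hr').2
    refine commutator_le.mpr fun a ha b hb => ?_
    obtain ⟨v, hv', y, hy, e, he, rfl⟩ := hdec a
    obtain ⟨v', hv'', y', hy', e', he', rfl⟩ := hdec b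
    have hcen : ∀ (v : G), v ∈ V₁ → ∀ y ∈ Y, ∀ e ∈ E₀, v * y * e ∈ (S : Subgroup G) ⊓ centralizer (E₀ : Set G) →
        (∀ u ∈ E₀, e * u = u * e) ∧ ∃ t, ρ y = up t := by
      intro v hv' y hy e he hm
      refine ⟨fun u hu => ?_, ?_⟩
      · have h1 : Commute (v * y * e) u := (mem_centralizer_iff.mp hm.2 u hu).symm
        have h2' : Commute (v * y) u := hG₀E _ (hVYG v hv' y hy) u hu
        have h3' := (h2'.inv_left.mul_left h1)
        rwa [inv_mul_cancel_left] at h3'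
      · have hvS : y ∈ (S : Subgroup G) := by
          have := mul_mem (mul_mem (inv_mem (hQS (hV₁Q hv'))) hm.1) (inv_mem (hQS (hE₀Q he)))
          simpa [mul_assoc] using this
        obtain ⟨t, ht⟩ := fr.σ_surj y hvS
        refine ⟨t, ?_⟩
        have h := hρ.std.core _ ht
        rw [map_mul, map_inv, inv_mul_eq_one] at h
        rw [← h, hρ.std.up']
    obtain ⟨hec, t, ht⟩ := hcen v hv' y hy e he ha
    obtain ⟨-, t', ht'⟩ := hcen v' hv'' y' hy' e' he' hb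
    have hyy : y * y' = y' * y := commutatorElement_eq_one_iff_mul_comm.mp ((hlift y y' hy hy' t t' ht ht').trans (hB0 t t'))
    obtain ⟨π, hπ⟩ : ∃ π, π = QuotientGroup.mk' V₁ := ⟨_, rfl⟩
    have hπ1 : ∀ x, π x = 1 ↔ x ∈ V₁ := fun x => hπ ▸ QuotientGroup.eq_one_iff x
    rw [← hπ1, map_commutatorElement, map_mul, map_mul, map_mul, map_mul, (hπ1 v).mpr hv', (hπ1 v').mpr hv'', one_mul,
      one_mul, commutatorElement_eq_one_iff_mul_comm]
    have k1 : Commute y y' := hyy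
    have k2 : Commute y e' := hYE y hy e' he'
    have k3 : Commute e y' := (hYE y' hy' e he).symm
    have k4 : Commute e e' := hec e' he'
    rw [← map_mul π y e, ← map_mul π y' e']
    exact (((k1.mul_right k2).mul_left (k3.mul_right k4)).map π).eq

end Cfsg.Agent.Invol.PushUp
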